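import Cfsg.Agent.Lib.Recog.McLInv.Cover

/-!
Facts inside the double cover: three base points, the centralizer of the second involution, and the
classes of involutions.
-/

set_option autoImplicit false
set_option maxRecDepth 100000
set_option Elab.async false

namespace CfsgLib.Recog.McLInv

open CfsgLib.InvChar.Coset

/-- The words transport a point to different points and fix some points. -/
noncomputable def orbOK (O : List (List ℕ)) (p : ℕ) (fix : List ℕ) : Bool :=
  (O.all fun L => ltW 7 L && fix.all fun q => Nat.beq (actM L q) q) &&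
    (let M := O.foldr (fun L M => Nat.lor (Nat.shiftLeft 1 (actM L p)) M) 0
     Nat.beq ((List.range 275).countP fun i => M.testBit i) O.length)

theorem chain_checks : orbOK orb0 base0 [] = true ∧ orbOK orb1 base1 [base0] = true ∧
    orbOK orb2 base2 [base0, base1] = true ∧
    (orb0.length * orb1.length * orb2.length = 40320) ∧ base0 < 275 ∧ base1 < 275 ∧ base2 < 275 := by
  decide +kernel

theorem foldr_testBit (p : ℕ) : ∀ (O : List (List ℕ)) (i : ℕ),
    (O.foldr (fun L M => Nat.lor (Nat.shiftLeft 1 (actM L p)) M) 0).testBit i = true →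
      i ∈ O.map fun L => actM L p
  | [], i, h => by simp at h
  | L :: O, i, h => by
    rw [List.foldr_cons] at h
    change ((1 <<< actM L p) ||| _).testBit i = true at h
    rw [Nat.testBit_or, Nat.one_shiftLeft, Nat.testBit_two_pow, Bool.or_eq_true, decide_eq_true_iff] at h
    rcases h with h | h
    · exact List.mem_cons.2 (Or.inl h.symm)
    · exact List.mem_cons_of_mem _ (foldr_testBit p O i h)

theorem orbOK_spec {O : List (List ℕ)} {p : ℕ} {fix : List ℕ} (h : orbOK O p fix = true) :
    (∀ L ∈ O, (∀ x ∈ L, x < 7) ∧ ∀ q ∈ fix, actM L q = q) ∧ (O.map fun L => actM L p).Nodup := by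
  simp only [orbOK, Bool.and_eq_true, List.all_eq_true] at h
  refine ⟨fun L hL => ⟨ltW_spec (h.1 L hL).1, fun q hq => Nat.eq_of_beq_eq_true ((h.1 L hL).2 q hq)⟩, ?_⟩
  have h2 := Nat.eq_of_beq_eq_true h.2
  refine List.dedup_eq_self.1 ((List.dedup_sublist _).eq_of_length ?_)
  refine le_antisymm (List.dedup_sublist _).length_le ?_
  rw [List.length_map, ← h2, List.countP_eq_length_filter, ← List.card_toFinset,
    ← List.toFinset_card_of_nodup (List.nodup_range.filter _)]
  refine Finset.card_le_card fun i hi => ?_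
  rw [List.mem_toFinset, List.mem_filter] at hi
  exact List.mem_toFinset.2 (foldr_testBit p O i hi.2)

/-- The first base point. -/
def p0 : Fin 275 := ⟨base0, chain_checks.2.2.2.2.1⟩

/-- The second base point. -/
def p1 : Fin 275 := ⟨base1, chain_checks.2.2.2.2.2.1⟩

/-- The third base point. -/
def p2 : Fin 275 := ⟨base2, chain_checks.2.2.2.2.2.2⟩

/-- The stabiliser of the first two base points. -/
def K2 : Subgroup (Equiv.Perm (Fin 275)) :=
  C0 ⊓ MulAction.stabilizer (Equiv.Perm (Fin 275)) p0 ⊓ MulAction.stabilizer (Equiv.Perm (Fin 275)) p1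

theorem wprod_mem_C0 {L : List ℕ} (h : ∀ x ∈ L, x < 7) : wprod gm L ∈ C0 :=
  wprod_mem fun x hx => gm_mem (h x hx)

theorem card_stab_eq (K : Subgroup (Equiv.Perm (Fin 275))) (p : Fin 275) :
    Nat.card (MulAction.stabilizer K p) =
      Nat.card ↥(K ⊓ MulAction.stabilizer (Equiv.Perm (Fin 275)) p) :=
  Nat.card_congr
    { toFun := fun σ => ⟨σ.1.1, σ.1.2, σ.2⟩
      invFun := fun σ => ⟨⟨σ.1, σ.2.1⟩, σ.2.2⟩
      left_inv := fun _ => rfl
      right_inv := fun _ => rfl }

/-- The three points separate the elements. -/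
theorem eq_one_of_base {c : C0} (h0 : (c : Equiv.Perm (Fin 275)) p0 = p0)
    (h1 : (c : Equiv.Perm (Fin 275)) p1 = p1) (h2 : (c : Equiv.Perm (Fin 275)) p2 = p2) : c = 1 := by
  obtain ⟨o0, o1, o2, hmul, -, -, -⟩ := chain_checks
  obtain ⟨m0, n0⟩ := orbOK_spec o0
  obtain ⟨m1, n1⟩ := orbOK_spec o1
  obtain ⟨m2, n2⟩ := orbOK_spec o2
  have h8 : ∀ {L : List ℕ}, (∀ x ∈ L, x < 7) → ∀ x ∈ L, x < 8 := fun h x hx => Nat.lt_succ_of_lt (h x hx)
  have fixes : ∀ {L : List ℕ}, (∀ x ∈ L, x < 7) → ∀ q : Fin 275, actM L q = q →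
      wprod gm L q = q := fun hL q hq => Fin.ext ((wprod_gm_val _ (h8 hL) q).trans hq)
  have b0 := orbit_bound (K := C0) p0 orb0 (fun L hL => wprod_mem_C0 (m0 L hL).1) (fun L hL => h8 (m0 L hL).1) n0
  have b1 := orbit_bound (K := C0 ⊓ MulAction.stabilizer (Equiv.Perm (Fin 275)) p0) p1 orb1
    (fun L hL => ⟨wprod_mem_C0 (m1 L hL).1, fixes (m1 L hL).1 p0 ((m1 L hL).2 base0 (by simp))⟩)
    (fun L hL => h8 (m1 L hL).1) n1
  have b2 := orbit_bound (K := K2) p2 orb2
    (fun L hL => ⟨⟨wprod_mem_C0 (m2 L hL).1, fixes (m2 L hL).1 p0 ((m2 L hL).2 base0 (by simp))⟩,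
      fixes (m2 L hL).1 p1 ((m2 L hL).2 base1 (by simp))⟩)
    (fun L hL => h8 (m2 L hL).1) n2
  rw [card_stab_eq] at b0 b1 b2
  rw [c0_cover.2.1] at b0
  have hb : orb0.length * orb1.length * orb2.length *
      Nat.card ↥(K2 ⊓ MulAction.stabilizer (Equiv.Perm (Fin 275)) p2) ≤ 40320 := by
    refine le_trans ?_ b0
    rw [mul_assoc, mul_assoc]
    exact Nat.mul_le_mul_left _ ((Nat.mul_le_mul_left _ b2).trans b1)
  rw [hmul] at hb
  have hs : Nat.card ↥(K2 ⊓ MulAction.stabilizer (Equiv.Perm (Fin 275)) p2) ≤ 1 := by omega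
  haveI := Finite.card_le_one_iff_subsingleton.1 hs
  have hc : (c : Equiv.Perm (Fin 275)) ∈ K2 ⊓ MulAction.stabilizer (Equiv.Perm (Fin 275)) p2 :=
    ⟨⟨⟨c.2, h0⟩, h1⟩, h2⟩
  exact Subtype.ext (congrArg Subtype.val (Subsingleton.elim
    (⟨_, hc⟩ : ↥(K2 ⊓ MulAction.stabilizer (Equiv.Perm (Fin 275)) p2)) 1) :)

/-- Two words agree on the base. -/
noncomputable def eqB (L L' : List ℕ) : Bool :=
  ltW 7 L && ltW 7 L' && Nat.beq (actM L base0) (actM L' base0) &&
    Nat.beq (actM L base1) (actM L' base1) && Nat.beq (actM L base2) (actM L' base2)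

theorem eqB_sound {L L' : List ℕ} (h : eqB L L' = true) : el L = el L' := by
  simp only [eqB, Bool.and_eq_true] at h
  obtain ⟨⟨⟨⟨hL, hL'⟩, e0⟩, e1⟩, e2⟩ := h
  have h7 := ltW_spec hL
  have h7' := ltW_spec hL'
  have key : ∀ q : Fin 275, actM L q = actM L' q →
      (((el L')⁻¹ * el L : C0) : Equiv.Perm (Fin 275)) q = q := fun q hq => by
    have : wprod gm L q = wprod gm L' q := Fin.ext (by
      rw [wprod_gm_val _ (fun x hx => Nat.lt_succ_of_lt (h7 x hx)),
        wprod_gm_val _ (fun x hx => Nat.lt_succ_of_lt (h7' x hx)), hq])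
    rw [Subgroup.coe_mul, Subgroup.coe_inv, el_val h7, el_val h7', Equiv.Perm.mul_apply, this,
      Equiv.Perm.inv_def, Equiv.symm_apply_apply]
  exact (inv_mul_eq_one.1 (eq_one_of_base (key p0 (Nat.eq_of_beq_eq_true e0))
    (key p1 (Nat.eq_of_beq_eq_true e1)) (key p2 (Nat.eq_of_beq_eq_true e2)))).symm

/-- A key for an element. -/
noncomputable def keyB (L : List ℕ) : ℕ :=
  actM L base0 + 275 * actM L base1 + 75625 * actM L base2

/-- A word for an element of the centralizer of the second involution. -/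
noncomputable def dW (i : ℕ) : List ℕ := (dIdx.getD i []).flatMap fun k => dGen.getD k []

/-- Its image under the outer letter. -/
noncomputable def dA (i : ℕ) : List ℕ := (dIdx.getD i []).flatMap fun k => dImg.getD k []

/-- Some words give different elements. -/
noncomputable def distinctB (n : ℕ) (w : ℕ → List ℕ) : Bool :=
  (List.range n).all fun i => ltW 7 (w i) && force (keyB (w i)) fun k =>
    (List.range i).all fun j => !Nat.beq (keyB (w j)) k

theorem distinctB_spec {n : ℕ} {w : ℕ → List ℕ} (h : distinctB n w = true) :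
    Function.Injective fun i : Fin n => el (w i) := by
  simp only [distinctB, force_eq, List.all_eq_true, List.mem_range, Bool.and_eq_true,
    Bool.not_eq_true'] at h
  suffices key : ∀ i j : ℕ, i < n → j < i → el (w i) ≠ el (w j) by
    intro i j e
    rcases lt_trichotomy (i : ℕ) j with hl | hl | hl
    · exact absurd e.symm (key j i j.2 hl)
    · exact Fin.ext hl
    · exact absurd e (key i j i.2 hl)
  intro i j hi hj e
  have h7 : ∀ {k : ℕ}, k < n → ∀ x ∈ w k, x < 7 := fun hk => ltW_spec (h _ hk).1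
  have ev : ∀ q, q < 275 → actM (w i) q = actM (w j) q := fun q hq => by
    have := congrArg (fun c : C0 => (((c : Equiv.Perm (Fin 275)) ⟨q, hq⟩ : Fin 275) : ℕ)) e
    simp only [el_val (h7 hi), el_val (h7 (hj.trans hi)),
      wprod_gm_val _ (fun x hx => Nat.lt_succ_of_lt (h7 hi x hx)),
      wprod_gm_val _ (fun x hx => Nat.lt_succ_of_lt (h7 (hj.trans hi) x hx))] at this
    exact this
  have hne := (h i hi).2 j hj
  rw [keyB, keyB, ev base0 p0.2, ev base1 p1.2, ev base2 p2.2, Nat.beq_refl] at hne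
  cases hne

/-- The centralizer of the second involution. -/
noncomputable def Dsub : Subgroup C0 := Subgroup.centralizer {a0}

theorem mem_Dsub {c : C0} : c ∈ Dsub ↔ c * a0 = a0 * c := Subgroup.mem_centralizer_singleton_iff

theorem a0_checks : eqB (aW ++ aW) [] = true ∧ neC aW [] = true ∧ neC aW tW = true ∧
    eqB (ataW ++ aW ++ ataW) (tW ++ aW) = true ∧
    eqB (bW ++ bW) tW = true ∧ neC bW tW = true ∧ neC bW [] = true := by decide +kernel

theorem d_checks : dIdx.length = 192 ∧
    ((List.range 3).all fun k => eqB (dGen.getD k [] ++ aW) (aW ++ dGen.getD k [])) = true ∧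
    ((List.range 192).all fun i => ltW 3 (dIdx.getD i [])) = true ∧ distinctB 192 dW = true := by
  decide +kernel

theorem x_checks : xWords.length = 210 ∧ ((List.range 210).all fun x =>
    force (keyB (xWords.getD x [] ++ aW ++ (xWords.getD x []).reverse)) fun k =>
      ltW 7 (xWords.getD x []) && (List.range x).all fun y =>
        !Nat.beq (keyB (xWords.getD y [] ++ aW ++ (xWords.getD y []).reverse)) k) = true := by
  decide +kernel

theorem dW_mem {i : ℕ} (hi : i < 192) : el (dW i) ∈ Dsub := by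
  rw [dW, el, wprod_flatten]
  refine wprod_mem fun k hk => ?_
  have hk3 := ltW_spec (List.all_eq_true.1 d_checks.2.2.1 i (List.mem_range.2 hi)) k hk
  rw [mem_Dsub]
  have e := eqB_sound (List.all_eq_true.1 d_checks.2.1 k (List.mem_range.2 hk3))
  rw [el_append, el_append] at e
  exact e

/-- The conjugates of the second involution by the representatives are different. -/
theorem xconj_injective :
    Function.Injective fun x : Fin 210 => el (xWords.getD x []) * a0 * (el (xWords.getD x []))⁻¹ := by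
  have h : distinctB 210 (fun x => xWords.getD x [] ++ aW ++ (xWords.getD x []).reverse) = true := by
    have hx := x_checks.2
    simp only [force_eq, List.all_eq_true, List.mem_range, Bool.and_eq_true] at hx
    simp only [distinctB, force_eq, List.all_eq_true, List.mem_range, Bool.and_eq_true]
    intro i hi
    refine ⟨?_, (hx i hi).2⟩
    have hl := ltW_spec (hx i hi).1
    refine List.all_eq_true.2 fun y hy => ?_
    rw [Nat.blt_eq]
    simp only [List.mem_append, List.mem_reverse] at hy
    rcases hy with (hy | hy) | hy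
    · exact hl y hy
    · exact (show ∀ y ∈ aW, y < 7 by decide) y hy
    · exact hl y hy
  have hi := distinctB_spec h
  intro x y e
  refine hi ?_
  simp only [el_append, el_reverse] at e ⊢
  exact e

theorem card_Dsub : Nat.card Dsub = 192 := by
  refine le_antisymm ?_ ?_
  · have hle : 210 ≤ (MulAction.orbit (ConjAct C0) a0).ncard := by
      rw [← Nat.card_coe_set_eq]
      refine le_of_eq_of_le (Nat.card_fin 210).symm (Nat.card_le_card_of_injective
        (fun x => ⟨_, ⟨ConjAct.toConjAct (el (xWords.getD (x : Fin 210) [])), rfl⟩⟩) fun x y e => ?_)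
      exact xconj_injective (congrArg Subtype.val e)
    have h := Nat.card_congr (MulAction.orbitProdStabilizerEquivGroup (ConjAct C0) a0)
    rw [Nat.card_prod, ConjAct.stabilizer_eq_centralizer, Nat.card_coe_set_eq] at h
    have hc : Nat.card (ConjAct C0) = 40320 := c0_cover.2.1
    rw [hc] at h
    by_contra hlt
    have hlt' : 192 < Nat.card Dsub := not_le.1 hlt
    have : 210 * Nat.card Dsub ≤ 40320 := by
      refine le_of_le_of_eq (Nat.mul_le_mul_right _ hle) ?_
      rw [← h]; rfl
    omega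
  · refine le_of_eq_of_le (Nat.card_fin 192).symm (Nat.card_le_card_of_injective
      (fun i : Fin 192 => (⟨el (dW i), dW_mem i.2⟩ : Dsub)) fun i j e => ?_)
    exact distinctB_spec d_checks.2.2.2 (congrArg Subtype.val e)

theorem exists_dW {c : C0} (hc : c ∈ Dsub) : ∃ i < 192, c = el (dW i) := by
  have hb : Function.Bijective (fun i : Fin 192 => (⟨el (dW i), dW_mem i.2⟩ : Dsub)) :=
    (Nat.bijective_iff_injective_and_card _).2
      ⟨fun i j e => distinctB_spec d_checks.2.2.2 (congrArg Subtype.val e), by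
        rw [Nat.card_fin, card_Dsub]⟩
  obtain ⟨i, e⟩ := hb.2 ⟨c, hc⟩
  exact ⟨i, i.2, (congrArg Subtype.val e).symm⟩

/-- The representatives cover the cosets of the centralizer. -/
theorem exists_xWord (c : C0) : ∃ x < 210, ∃ i < 192, c = el (xWords.getD x []) * el (dW i) := by
  have hcard : (MulAction.orbit (ConjAct C0) a0).ncard = 210 := by
    have h := Nat.card_congr (MulAction.orbitProdStabilizerEquivGroup (ConjAct C0) a0)
    rw [Nat.card_prod, ConjAct.stabilizer_eq_centralizer, Nat.card_coe_set_eq] at h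
    have hc : Nat.card (ConjAct C0) = 40320 := c0_cover.2.1
    have hd := card_Dsub
    rw [hc] at h
    change _ * Nat.card Dsub = _ at h
    rw [hd] at h
    omega
  let F : Fin 210 → MulAction.orbit (ConjAct C0) a0 := fun x =>
    ⟨_, ⟨ConjAct.toConjAct (el (xWords.getD x [])), rfl⟩⟩
  have hF : Function.Bijective F := (Nat.bijective_iff_injective_and_card _).2
    ⟨fun x y e => xconj_injective (congrArg Subtype.val e), by
      rw [Nat.card_fin, Nat.card_coe_set_eq, hcard]⟩
  obtain ⟨x, hx⟩ := hF.2 ⟨_, ⟨ConjAct.toConjAct c, rfl⟩⟩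
  have e : el (xWords.getD x []) * a0 * (el (xWords.getD x []))⁻¹ = c * a0 * c⁻¹ :=
    congrArg Subtype.val hx
  obtain ⟨i, hi, hd⟩ := exists_dW (c := (el (xWords.getD x []))⁻¹ * c) (mem_Dsub.2 (by
    calc (el (xWords.getD x []))⁻¹ * c * a0 = (el (xWords.getD x []))⁻¹ * (c * a0 * c⁻¹) * c := by group
      _ = _ := by rw [← e]; group))
  exact ⟨x, x.2, i, hi, by rw [← hd, mul_inv_cancel_left]⟩

/-- The involutions other than the central one are conjugate. -/
theorem invol_class {x : C0} (hx : x * x = 1) (h1 : x ≠ 1) (ht : x ≠ t0) :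
    ∃ c : C0, c * a0 * c⁻¹ = x := by
  obtain ⟨hcov, -, hzle⟩ := c0_cover
  obtain ⟨hc, ⟨q⟩, -⟩ := hcov
  obtain ⟨ha, ha1, hat, hata, hb, hbt, hb1⟩ := a0_checks
  have ha2 : a0 * a0 = 1 := by rw [a0, ← el_append, eqB_sound ha, el_nil]
  have hb2 : el bW * el bW = t0 := by rw [← el_append, eqB_sound hb]; rfl
  have hata' : el ataW * a0 * (el ataW)⁻¹ = t0 * a0 := by
    have hinv : (el ataW)⁻¹ = el ataW := by
      rw [← el_reverse]; rfl
    have e := eqB_sound hata
    rw [el_append, el_append, el_append] at e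
    rw [hinv]; exact e
  let π : C0 →* alternatingGroup (Fin 8) := q.toMonoidHom.comp (QuotientGroup.mk' (Subgroup.center C0))
  have hπ : Function.Surjective π := q.surjective.comp (QuotientGroup.mk'_surjective _)
  have hker : ∀ z, π z = 1 → z = 1 ∨ z = t0 := fun z hz => center_eq (Subgroup.mem_center_iff.2 t0_comm)
    t0_ne hc (by
      have h' : q (QuotientGroup.mk' _ z) = 1 := hz
      rw [q.map_eq_one_iff] at h'
      exact (QuotientGroup.eq_one_iff _).1 h')
  have hπt : π t0 = 1 := by
    show q (QuotientGroup.mk' _ t0) = 1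
    rw [q.map_eq_one_iff]
    exact (QuotientGroup.eq_one_iff _).2 (Subgroup.mem_center_iff.2 t0_comm)
  have hord : ∀ u : C0, π (u * u) = 1 → u ≠ 1 → u ≠ t0 → orderOf (π u) = 2 := fun u hu hu1 hut =>
    orderOf_eq_prime (by rw [pow_two, ← map_mul, hu]) fun e => (hker u e).elim hu1 hut
  have lift : ∀ u v : C0, IsConj (π u) (π v) → ∃ c : C0, c * u * c⁻¹ = v ∨ c * u * c⁻¹ = t0 * v := by
    intro u v huv
    obtain ⟨g, hg⟩ := isConj_iff.1 huv
    obtain ⟨c, rfl⟩ := hπ g
    refine ⟨c, ?_⟩
    rcases hker (c * u * c⁻¹ * v⁻¹) (by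
      rw [map_mul, map_inv, map_mul, map_mul, map_inv, hg, mul_inv_cancel]) with e | e
    · exact Or.inl (mul_inv_eq_one.1 e)
    · exact Or.inr (by rw [← e, inv_mul_cancel_right])
  have hsq : ∀ u v : C0, IsConj (π u) (π v) → u * u = 1 → v * v = 1 := fun u v huv hu => by
    obtain ⟨c, e | e⟩ := lift u v huv
    · rw [← e, show c * u * c⁻¹ * (c * u * c⁻¹) = c * (u * u) * c⁻¹ by group, hu, mul_one, mul_inv_cancel]
    · have : t0 * v * (t0 * v) = 1 := by
        rw [← e, show c * u * c⁻¹ * (c * u * c⁻¹) = c * (u * u) * c⁻¹ by group, hu, mul_one, mul_inv_cancel]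
      rwa [mul_assoc, ← mul_assoc v, t0_comm, mul_assoc, ← mul_assoc, t0_sq, one_mul] at this
  have hA := hord a0 (by rw [ha2, map_one]) (neC_sound ha1) (neC_sound hat)
  have hB := hord (el bW) (by rw [hb2, hπt]) (neC_sound hb1) (neC_sound hbt)
  have hX := hord x (by rw [hx, map_one]) h1 ht
  have hne : ¬ IsConj (π a0) (π (el bW)) := fun h => t0_ne (hb2.symm.trans (hsq _ _ h ha2))
  have hxa : IsConj (π a0) (π x) := by
    have hnb : ¬ IsConj (π (el bW)) (π x) := fun h => t0_ne (hb2.symm.trans (hsq _ _ h.symm hx))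
    rcases CfsgLib.Recog.QSThree.Alt.invol_eight hA with hA' | hA' <;>
      rcases CfsgLib.Recog.QSThree.Alt.invol_eight hB with hB' | hB' <;>
      rcases CfsgLib.Recog.QSThree.Alt.invol_eight hX with hX' | hX'
    all_goals first
      | exact hA'.trans hX'.symm
      | exact absurd (hA'.trans hB'.symm) hne
      | exact absurd (hB'.trans hX'.symm) hnb
  obtain ⟨c, e | e⟩ := lift a0 x hxa
  · exact ⟨c, e⟩
  · refine ⟨c * el ataW, ?_⟩
    rw [show c * el ataW * a0 * (c * el ataW)⁻¹ = c * (el ataW * a0 * (el ataW)⁻¹) * c⁻¹ by group,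
      hata', ← mul_assoc c, t0_comm, mul_assoc, mul_assoc, ← mul_assoc c, e, ← mul_assoc, t0_sq, one_mul]

end CfsgLib.Recog.McLInv
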