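import Cfsg.Agent.Lib.Recog.McLInv.Struct
import Cfsg.Agent.Lib.Recog.McL275.Model

/-! The eight letters keep the graph on 275 points and move four base points far. -/

set_option autoImplicit false
set_option maxRecDepth 100000
set_option Elab.async false

namespace CfsgLib.Recog.McLInv

/-- A base point of the whole group. -/
def mbase0 : Fin 275 := 0

/-- A base point of the whole group. -/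
def mbase1 : Fin 275 := 69

/-- A base point of the whole group. -/
def mbase2 : Fin 275 := 33

/-- A base point of the whole group. -/
def mbase3 : Fin 275 := 133

/-- Transporters of base point 0. -/
def morb0 : List (List ℕ) := [[], [1, 2, 5], [2, 3, 6, 0], [0, 2], [1, 7, 3, 6, 0], [1, 6, 0], [1, 7, 0], [1, 3, 1, 6, 0], [7, 6, 0], [3, 2, 5], [0, 2, 3, 5, 0], [5, 2, 3], [1, 3, 0, 4, 5], [0, 2, 3, 6, 7], [3, 7, 2], [1, 3, 0, 6, 0], [5, 7, 4, 0], [2, 5, 1], [0, 6, 3, 5, 2], [1, 6, 5, 0], [0, 6, 1], [5, 6], [1, 3, 2, 5, 2], [1, 3, 5], [7, 5], [0, 4, 2, 1], [0, 3, 2, 7, 1], [1, 3, 5, 7, 6], [0, 7, 1], [1, 3, 5, 0], [1, 7, 4, 1], [0, 6, 3, 5, 1], [7, 1], [6, 7, 2], [0, 3, 7, 5, 0], [1, 3, 2, 7, 0], [1, 7, 3, 4, 5], [0, 6, 4, 3, 5],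 [3, 2, 5, 1], [7, 1, 6, 0], [1, 3, 2, 7, 1], [2, 7, 3, 1], [7, 3, 6, 7], [1, 3, 6, 0], [0, 4, 5, 0], [0, 3, 6, 7], [4, 0], [2, 7, 3], [0, 3, 2, 5], [2, 0], [4, 3, 7, 5], [6, 2, 3, 5], [7, 4, 0], [0, 3, 6, 7, 6], [0, 2, 3, 1], [0, 3, 4, 2, 5], [1, 2, 3, 6, 0], [1, 3, 4, 5], [2, 5, 0], [3, 2, 5, 0], [0, 2, 3], [1, 7, 5], [0, 4, 3, 5, 0], [3, 1, 6, 0], [0, 6, 7], [0, 4, 3, 5], [1, 7, 5, 1], [3, 6, 0], [6, 5, 0], [3, 7, 2, 0], [1, 7], [0, 5, 6], [0, 3, 4, 5, 2], [0, 5, 2, 3], [1, 0, 6], [1, 2, 6, 0], [0, 4, 5, 1], [3, 7, 5], [1, 2, 0], [1, 3, 2, 5], [4, 6], [0, 3], [3, 5, 1], [1, 3, 7, 6, 0], [7, 5, 1], [0, 4], [0, 3, 0, 6, 0], [0, 7, 3, 6, 0], [0, 4, 3, 2, 5], [1, 5, 2, 3], [3, 6, 7, 6], [4, 6, 0], [2, 3, 5], [0, 3, 4, 6, 0], [6,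 3, 7, 5], [0, 6, 3, 5], [5, 3, 7, 1], [6, 3, 5, 1], [3, 2, 7], [1, 2, 3, 5, 0], [1, 2, 3, 5, 1], [6, 3, 0], [1, 3, 2, 6, 0], [1, 3, 6, 0, 4], [1, 5, 6, 1], [6, 4, 3, 5], [4, 3, 5, 0], [2, 6, 3, 0], [4, 3, 2, 5], [1, 6, 7, 2], [2, 7, 6, 0], [1, 6, 3, 5, 2], [6, 7, 1], [1, 4, 3, 2, 5], [1, 6, 3, 0], [1, 3, 7, 1, 6, 0], [0, 1, 3, 5, 0], [1, 7, 1], [6, 3, 7, 1], [3, 5, 7, 6], [1, 3, 2, 7], [0, 3, 1, 7], [3, 7, 1], [1, 7, 5, 6], [0, 3, 5, 6], [5, 6, 1], [7, 3, 6, 0], [3, 5, 0], [0, 3, 6, 3, 0], [0, 4, 3], [1, 7, 4, 0], [2, 3, 5, 0], [0, 6, 3, 7], [0, 3, 5, 7, 6], [1, 7, 2, 0], [1, 0, 6, 0], [1, 3, 5, 6], [0, 7, 5, 1], [2, 4, 1], [4, 5, 1], [0, 4, 0], [3, 1, 2, 5], [1, 3, 6, 7], [7, 3, 1], [4, 1], [1, 6], [1, 3, 5, 2], [1, 3, 1, 7],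 [0, 3, 5, 2], [2, 3], [2, 7], [1, 2], [0, 2, 7, 0], [3, 6, 4], [1], [2, 7, 2], [6, 7, 5, 0], [2, 1], [1, 6, 1], [5, 7, 6, 0], [1, 3, 7, 0], [1, 3, 6, 3, 0], [3, 7], [0, 7, 2], [6, 3, 7], [0, 7, 3], [7, 2, 0], [7, 4, 1], [1, 3, 7, 1], [7, 2], [1, 4, 2], [0, 6], [1, 2, 7, 0], [0, 7], [1, 3, 6, 1, 7], [0], [4], [0, 7, 4, 0], [2], [0, 6, 5], [7, 2, 1], [1, 2, 7], [2, 7, 1], [6], [4, 2], [0, 3, 4, 0], [2, 7, 0], [0, 7, 4, 1], [0, 1], [3, 4, 2], [2, 3, 6, 7], [0, 6, 0, 1], [6, 1], [3, 1, 7], [1, 6, 7, 3], [1, 5], [1, 3, 5, 2, 0], [2, 7, 2, 0], [2, 1, 3, 5], [2, 5, 6, 1], [0, 2, 7, 2], [1, 3, 1, 7, 0], [0, 7, 5], [1, 3, 4, 2, 5], [0, 5, 1], [6, 3, 5, 2], [1, 7, 2], [3, 7, 0], [1, 3, 7], [1, 4, 0], [3, 5, 6], [0, 2, 1, 3, 5], [1, 3, 6,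 7, 6], [0, 3, 7, 5], [3, 4, 7, 5], [1, 4, 3, 5, 0], [0, 3, 2, 7], [0, 4, 2], [1, 3, 2, 6, 4], [3, 7, 5, 0], [3, 2, 7, 1], [1, 3, 6, 4], [1, 2, 3], [1, 6, 3, 7], [7], [1, 2, 3, 5], [1, 3, 5, 1], [1, 2, 3, 6, 7], [3, 4, 2, 5], [3, 6, 3, 0], [1, 3, 6, 4, 2], [1, 3, 6, 5, 0], [1, 6, 2, 3, 5, 0], [1, 4, 3, 5], [1, 3, 1, 2, 5], [1, 4, 3, 1, 7], [4, 3, 5], [1, 7, 5, 0], [5, 2], [1, 2, 7, 1], [2, 5, 2], [0, 3, 7, 6, 0], [4, 5], [2, 4, 0], [3, 2, 5, 2], [1, 4, 6, 0], [2, 5], [5, 4, 0], [3], [3, 5, 2], [0, 3, 1, 2, 5], [0, 6, 0], [0, 4, 1], [0, 3, 2, 5, 2], [0, 5], [6, 7, 3], [5], [2, 5, 6], [6, 0], [0, 7, 6, 0], [1, 2, 5, 1], [0, 1, 6, 0], [0, 6, 7, 5], [3, 7, 6, 0], [0, 2, 3, 5], [0, 3, 6, 0], [3, 0, 6, 0], [0, 4, 1, 3, 5], [3, 5], [7,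 3, 5, 0], [0, 1, 3, 6, 0], [0, 3, 1, 6, 0], [1, 5, 6], [0, 4, 5], [1, 6, 2, 0]]

/-- Transporters of base point 1. -/
def morb1 : List (List ℕ) := [[4, 0, 6, 7, 4, 6, 0], [5, 7, 4, 7, 3, 6, 7, 3], [3, 0, 5, 4, 7, 1], [6, 0, 1, 3, 7, 4, 0], [0, 2, 4, 7, 6], [0, 4, 5, 7, 6, 4, 2, 0], [0, 2, 4, 3, 7, 3, 7, 6], [6, 3, 0, 6, 2, 7], [0, 3, 2, 7, 5, 2], [2, 5, 7, 3, 4, 7, 4, 0], [1, 4, 6, 7, 0], [6, 1, 7, 3, 7, 6, 1], [6, 0, 2, 3, 7, 6], [0, 7, 2, 4, 7, 0], [1, 3, 7, 4, 7, 6, 4, 0], [4, 0, 2, 5, 7, 4], [0, 2, 4, 6, 7, 5, 4, 0], [0, 3, 1, 4, 3, 7, 4, 0], [0, 4, 5, 3, 6, 3, 7, 1], [3, 4, 7, 4, 3], [4, 0, 5, 7, 4], [1, 4, 7, 3, 1, 7, 4, 1], [6, 1, 3, 7, 0, 6], [0, 3, 4, 7, 0, 3, 0, 6], [1, 6, 0, 7, 6, 1], [3, 0, 2, 4, 7, 4, 0], [1, 3, 7,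 5, 6, 7, 5, 1], [4, 0, 7, 4], [6, 3, 0, 2, 7, 6], [0, 4, 5, 7, 1, 0, 6, 0], [1, 3, 2, 7, 5, 2, 0], [4, 0, 2, 7, 4], [1, 6, 0, 4, 3, 0], [1, 6, 7, 3, 0, 6], [1, 6, 3, 5, 6, 7, 4], [1, 6, 3, 0, 5, 6, 7, 1], [1, 2, 7, 3, 6, 2, 7, 2], [3, 5, 7, 0], [6, 3, 7, 6, 4, 7, 4, 1], [1, 3, 4, 7, 4, 0, 2, 0], [0, 2, 0, 2, 1], [6, 3, 0, 6, 0, 2, 7, 1], [3, 7, 6, 3, 2, 6, 7, 2], [0, 4, 0, 7, 3, 7, 3, 6], [0, 3, 4, 7, 6, 1], [2, 4, 7, 4, 2], [0, 3, 0, 3], [3, 0, 2, 7, 5, 2], [0, 3, 5, 4, 7, 1], [0, 4, 0, 3, 6], [2, 7, 6, 3, 6, 7, 2], [7, 5, 4, 7, 6, 1], [6, 0, 4, 3, 7, 6, 4], [0, 4, 6, 2, 7], [3, 4, 7, 4, 5, 7, 0], [0, 4, 7, 1, 3, 7, 6], [5, 6, 3, 7, 4], [6, 7, 4, 2, 0], [0, 3, 5, 7], [1, 7, 4, 7], [7, 3, 5, 3, 4, 6, 7, 1], [0, 7, 6, 3, 5, 6, 7,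 0], [0, 7, 6, 3, 6, 7, 0], [7, 1, 3, 0, 6, 3, 1, 7], [3, 0, 4, 7, 6, 1], [7, 4, 6, 3, 6, 3, 7], [2, 7, 3, 6, 1, 7, 5, 0], [5, 3, 4, 7, 6, 4, 3, 5], [], [0, 4, 7, 4, 2, 3, 0], [7, 6, 3, 6, 3, 7, 1], [0, 2, 4, 3, 1, 7, 4, 0], [0, 4, 5, 6, 7], [3, 7, 2, 4, 7, 3], [1, 7, 3, 6, 3, 6, 7], [0, 5, 6, 7, 4, 5], [0, 4, 1, 7, 0, 3, 6, 1], [1, 3, 0, 6, 5, 2, 7], [1, 7, 5, 3, 7, 6, 4], [6, 1, 7, 0, 6], [1, 3, 0, 5, 4, 7], [0, 3, 4, 6, 7, 4, 5, 0], [1, 3, 0, 4, 7, 1, 6], [1, 6, 3, 7, 3, 6, 1], [0, 6, 4, 0, 7, 4, 5, 0], [2, 0, 7, 3, 6, 4, 7, 2], [6, 3, 5, 0, 6, 7], [4, 7, 1, 0, 3, 6, 7, 0], [0, 7, 5, 3], [0, 3, 7, 4, 7, 5, 7], [0, 2, 1, 4, 7, 1, 6], [0, 3, 4, 7, 0, 4, 5, 7], [3, 4, 7, 0, 6, 5, 1], [7, 2, 6, 0, 3, 6], [1, 0, 5, 3, 5, 3, 7, 1],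 [6, 0, 3, 7, 6, 1], [1, 3, 0, 5, 7, 1], [3, 4, 7, 4, 0, 3, 0], [7, 6, 5, 3, 7, 1, 4, 0], [0, 7, 6, 0, 3, 7, 6, 5, 1], [6, 7, 4, 3, 0, 2, 1], [1, 2, 0, 3, 4, 7, 6], [1, 3, 7, 4, 6, 2, 7, 3], [6, 7, 2, 6, 2, 7], [1, 2, 4, 7, 5, 3, 7, 4], [3, 7, 4, 5, 2, 7, 3], [7, 5, 3, 0], [1, 4, 7, 3, 5, 7, 4, 1], [0, 6, 0, 5, 6, 0], [1, 6, 7, 4, 5, 7], [6, 7, 3, 1, 7, 4, 0], [1, 6, 0, 2, 7, 4, 0]]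

/-- Transporters of base point 2. -/
def morb2 : List (List ℕ) := [[1, 0, 5, 7, 3, 6, 7, 3, 7, 5], [2, 0, 6, 3, 1, 7, 3, 6, 0, 3], [3, 0, 6, 7, 6, 0, 3], [5, 6, 3, 7, 0, 3, 4, 6], [0, 5, 4, 3, 7, 2, 4, 7, 3, 4, 5, 0], [1, 7, 3, 2, 0, 7, 4, 3, 7, 0], [7, 5, 7, 3, 7, 3, 4, 6, 7, 1, 0], [6, 7, 3, 0, 6, 0, 3, 7, 6], [1, 3, 6, 3], [0, 6, 2, 3, 7, 5, 0, 3, 6, 1, 0], [2, 7, 3, 2, 6, 2, 5, 3, 7, 2], [0, 1, 6, 0, 3, 7, 3, 0, 6, 0], [3, 6, 3, 7, 5, 0, 6, 5, 7, 0], [0, 6, 0, 3, 7, 3, 0, 6, 1, 0], [1, 2, 4, 7, 3, 7, 1, 4, 3, 1], [5, 6, 3, 0, 7, 3, 6, 5], [1, 3, 7, 5, 3, 1, 6, 0, 3, 7, 5, 0], [0, 4, 5, 4, 7, 3, 6, 7, 3, 7, 5], [1, 2, 4, 7, 3, 7, 4, 6, 2, 1], [3, 4, 7, 3, 5, 7, 6, 5, 1], [0, 2, 7, 3, 7, 1, 4, 7, 0], [0, 6, 4, 3, 0, 7, 2, 3,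 6, 0], [], [1, 4, 5, 2, 7, 3, 7, 4, 2, 1], [0, 7, 4, 3, 7, 4, 1, 3, 7, 0], [7, 5, 3, 4, 6, 7, 3, 6, 7, 5, 0], [0, 5, 6, 3, 7, 5, 7, 3, 6, 0], [4, 5, 4], [6, 1, 0, 3, 4, 7, 5, 6, 0, 2, 0], [1, 3, 7, 5, 3, 4, 7, 4, 3, 7, 5], [0, 6, 0, 2, 3, 6, 7, 1, 3, 0, 6, 0], [2, 6, 2], [3, 0, 6, 7, 4, 0, 6, 0], [3, 0, 6, 1, 7, 6, 0, 2], [1, 3, 1, 2], [0, 7, 4, 7, 3, 7, 4, 7, 0], [2, 0, 6, 7, 1, 6, 0, 3], [2, 4, 7, 4, 3, 7, 3, 4, 7, 3], [2, 3, 4, 7, 3, 7, 4, 2, 1], [0, 3, 2, 7, 2, 4, 1, 7, 1, 0], [7, 5, 6, 7, 6, 5, 7], [0, 7, 3, 1, 4, 7, 3, 4, 7, 0], [0, 6, 4, 7, 5, 3, 7, 4, 3, 0], [2, 7, 3, 5, 4, 7, 4, 6, 3, 7, 4, 2], [0, 5, 7, 6, 3, 7, 6, 4, 3, 5, 7], [1, 3, 0, 6, 7, 6, 0, 3, 1], [0, 6, 3, 7, 2, 3, 0, 4, 6, 0], [0, 6, 4, 7, 5, 3, 7, 4, 3, 1,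 0], [1, 5, 7, 3, 6, 7, 3, 7, 5, 1], [0, 6, 0, 3, 7, 6, 2, 7, 3, 6, 5, 0], [0, 6, 0, 3, 7, 3, 0, 6, 0], [1, 0, 7, 5, 6, 5, 7, 0], [0, 6, 3, 2, 0, 7, 2, 3, 6, 0], [0, 6, 4, 3, 0, 7, 3, 4, 6, 0], [0, 7, 3, 6, 3, 0, 7, 3, 4, 2, 5], [0, 7, 4, 1, 7, 3, 7, 2, 0], [0, 6, 3, 2, 7, 0, 3, 4, 6, 0], [2, 7, 6, 3, 5, 3, 7, 3, 0, 6, 7, 2], [0, 6, 2, 6, 7, 3, 6, 7, 3, 7, 5], [0, 1, 3, 7, 5, 4, 5, 7, 3, 0], [0, 3, 7, 3, 0, 6, 7, 0, 3, 1], [0, 3, 7, 5, 4, 5, 7, 3, 1, 0], [5, 7, 4, 3, 7, 1, 6, 3, 7, 5, 0], [0, 1, 7, 4, 7, 3, 7, 4, 7, 0], [3, 6, 0, 3, 2, 6, 7, 6, 0, 2], [0, 7, 1, 3, 4, 7, 1, 3, 1, 4, 7, 0], [0, 3, 0, 7, 3, 6, 3, 6, 7, 0, 3, 0], [1, 6, 4, 7, 5, 3, 7, 1, 4, 2], [0, 1, 3, 2, 7, 4, 2, 1, 7, 0], [0, 2, 7, 3, 7, 1, 4, 7, 1, 0], [0, 1, 5,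 6, 3, 7, 5, 7, 3, 6, 0], [0, 7, 5, 6, 3, 6, 7, 3, 7, 1, 6], [1, 6, 7, 3, 4, 7, 4, 3, 7, 4, 5, 2], [6, 4, 3, 0, 7, 3, 4, 6], [3, 4, 7, 3, 5, 7, 4, 6, 1], [0, 6, 3, 0, 5, 7, 3, 2, 6, 0], [0, 7, 5, 6, 5, 7, 0, 1], [1, 2, 4, 7, 3, 7, 4, 2, 1], [0, 1, 0], [6, 4, 3, 0, 7, 3, 6, 5], [0, 4, 7, 3, 7, 2, 4, 1, 3, 7, 4]]

/-- Transporters of base point 3. -/
def morb3 : List (List ℕ) := [[1, 3, 6, 1, 3, 7, 1, 3, 7, 6, 3, 1], [2, 7, 1, 3, 7, 3], [0, 2, 0, 1, 6, 7, 3, 7, 4, 3, 0, 6], [2, 6, 2, 0, 3, 7, 3, 7, 6, 3], [2, 7, 1, 3, 1, 7, 2], [0, 2, 0, 4, 7, 6, 3, 6, 7, 4, 0, 3, 5], [1, 6, 1, 7, 3, 6, 7, 5, 4, 3, 5, 7, 5], [2, 6, 3, 6, 1, 7, 3, 7, 6, 3, 1], [2, 3, 1, 7, 3, 7, 6, 3, 1], [], [3, 2, 6, 3, 1, 6], [0, 4, 7, 1, 6, 3, 7, 3, 6, 7, 3, 4,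 2, 0], [0, 2, 0, 5, 3, 6, 7, 6, 3, 5, 0, 2], [0, 2, 3, 1, 6, 7, 3, 7, 6, 3, 5], [2, 0, 6, 3, 6, 7, 5, 3, 6, 0, 3, 1], [2, 0, 4, 7, 6, 3, 6, 7, 0, 3, 0, 4, 0], [1, 3, 6, 7, 3, 7, 0, 1, 0, 2], [2, 3, 6, 3, 6, 2], [2, 1, 6, 7, 3, 7, 1, 6, 3, 2], [2, 6, 7, 3, 5, 7, 4, 5, 2, 1], [2, 6, 7, 3, 5, 7, 4, 5, 1, 3], [1, 3, 6, 7, 3, 7, 1, 6, 3, 6, 2], [1, 6, 7, 2, 3, 5, 7, 6, 4, 7, 3, 5, 7], [5, 3, 6, 7, 3, 7, 6, 1, 3, 2, 0], [2, 1, 6, 7, 3, 6, 7, 6, 3, 7, 3, 0], [1, 2, 5, 4, 7, 5, 3, 7, 6, 2], [2, 0, 6, 0, 3, 1, 7, 3, 7, 6, 0, 3], [2, 7, 3, 5, 7, 1, 4, 5, 3, 1], [5, 2, 7, 3, 4, 6, 7, 4, 0, 3, 5, 1, 0], [3, 7, 3, 7, 3], [3, 6, 7, 3, 7, 3, 0, 2, 6, 2], [0, 1, 3, 7, 3, 7, 6, 3, 2, 6, 2], [2, 0, 1, 0, 7, 3, 7, 6, 3, 1], [3, 4, 5, 7, 3, 6, 3,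 7, 5, 4, 3, 5, 0], [1, 2, 1, 3], [3, 7, 3, 1, 7, 2]]

/-- The words move a point to different points and fix some points. -/
noncomputable def orbM (O : List (List ℕ)) (p : ℕ) (fix : List ℕ) : Bool :=
  (O.all fun L => ltW 8 L && fix.all fun q => Nat.beq (actM L q) q) &&
    (let M := O.foldr (fun L M => Nat.lor (Nat.shiftLeft 1 (actM L p)) M) 0
     Nat.beq ((List.range 275).countP fun i => M.testBit i) O.length)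

theorem mchain_checks : orbM morb0 mbase0 [] = true ∧ orbM morb1 mbase1 [(mbase0 : ℕ)] = true ∧
    orbM morb2 mbase2 [(mbase0 : ℕ), (mbase1 : ℕ)] = true ∧
    orbM morb3 mbase3 [(mbase0 : ℕ), (mbase1 : ℕ), (mbase2 : ℕ)] = true ∧
    59875200 < morb0.length * morb1.length * morb2.length * morb3.length := by
  decide +kernel

/-- A letter keeps the lower half of the adjacency. -/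
noncomputable def adjOK (x : ℕ) : Bool :=
  McL275.eagerN (codes.getD x 0) fun c => (List.range 275).all fun i =>
    McL275.eagerN (McL275.gRow i) fun r => McL275.eagerN (McL275.gRow (img c i)) fun r' =>
      (List.range i).all fun j => r'.testBit (img c j) == r.testBit j

theorem adj_check0 : adjOK 0 = true := by decide +kernel

theorem adj_check1 : adjOK 1 = true := by decide +kernel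

theorem adj_check2 : adjOK 2 = true := by decide +kernel

theorem adj_check3 : adjOK 3 = true := by decide +kernel

theorem adj_check4 : adjOK 4 = true := by decide +kernel

theorem adj_check5 : adjOK 5 = true := by decide +kernel

theorem adj_check6 : adjOK 6 = true := by decide +kernel

theorem adj_check7 : adjOK 7 = true := by decide +kernel

theorem adjOK_all {x : ℕ} (hx : x < 8) : adjOK x = true := by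
  interval_cases x
  exacts [adj_check0, adj_check1, adj_check2, adj_check3, adj_check4, adj_check5, adj_check6, adj_check7]

end CfsgLib.Recog.McLInv
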