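import Cfsg.Agent.Lib.Recog.McLInv.TabGood
import Cfsg.Agent.Lib.Recog.McLInv.ModelChain

/-!
The eight letters generate the McLaughlin group on its 275 points, and a group with the same
relations contains a copy of it.
-/

set_option autoImplicit false
set_option maxRecDepth 100000
set_option Elab.async false

namespace CfsgLib.Recog.McLInv

open Cfsg CfsgLib.InvChar.Coset
open CfsgLib.Recog.McL275 (AutΓ actV actV_mem actV_injective adjΓ adj_symm unique_simple)
open CfsgLib.Golay (mclGroup card_mclGroup isSimple_mclGroup)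

theorem orbM_spec {O : List (List ℕ)} {p : ℕ} {fix : List ℕ} (h : orbM O p fix = true) :
    (∀ L ∈ O, (∀ x ∈ L, x < 8) ∧ ∀ q ∈ fix, actM L q = q) ∧ (O.map fun L => actM L p).Nodup := by
  simp only [orbM, Bool.and_eq_true, List.all_eq_true] at h
  refine ⟨fun L hL => ⟨ltW_spec (h.1 L hL).1, fun q hq => Nat.eq_of_beq_eq_true ((h.1 L hL).2 q hq)⟩, ?_⟩
  have h2 := Nat.eq_of_beq_eq_true h.2
  refine List.dedup_eq_self.1 ((List.dedup_sublist _).eq_of_length ?_)
  refine le_antisymm (List.dedup_sublist _).length_le ?_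
  rw [List.length_map, ← h2, List.countP_eq_length_filter, ← List.card_toFinset,
    ← List.toFinset_card_of_nodup (List.nodup_range.filter _)]
  refine Finset.card_le_card fun i hi => ?_
  rw [List.mem_toFinset, List.mem_filter] at hi
  exact List.mem_toFinset.2 (foldr_testBit p O i hi.2)

/-- The group of all eight letters. -/
def M8 : Subgroup (Equiv.Perm (Fin 275)) := Subgroup.closure (gm '' Set.Iio 8)

theorem gm_mem8 {x : ℕ} (hx : x < 8) : gm x ∈ M8 := Subgroup.subset_closure ⟨x, hx, rfl⟩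

theorem wprod_mem8 {L : List ℕ} (h : ∀ x ∈ L, x < 8) : wprod gm L ∈ M8 :=
  wprod_mem fun x hx => gm_mem8 (h x hx)

theorem gm_mem_aut {x : ℕ} (hx : x < 8) : gm x ∈ AutΓ := by
  suffices H : ∀ i j : Fin 275, adjΓ (gm x i) (gm x j) = adjΓ i j from H
  intro i j
  wlog hji : (j : ℕ) < i generalizing i j
  · rcases lt_or_eq_of_le (not_lt.1 hji) with h | h
    · rw [adj_symm, this j i h, adj_symm]
    · rw [Fin.ext h, adj_symm]
      have hd : ∀ k : Fin 275, adjΓ k k = false := fun k => by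
        have := List.all_eq_true.1 McL275.diag_ok k (List.mem_range.2 k.2)
        simpa [adjΓ] using this
      rw [hd, hd]
  have h := adjOK_all hx
  simp only [adjOK, McL275.eagerN_eq, List.all_eq_true, List.mem_range] at h
  have e := h i i.2 j hji
  simp only [beq_iff_eq] at e
  show (McL275.gRow ((mapL x i : Fin 275) : ℕ)).testBit ((mapL x j : Fin 275) : ℕ) = _
  rw [mapL_val hx, mapL_val hx]
  exact e

theorem M8_le_aut : M8 ≤ AutΓ := by
  rw [M8, Subgroup.closure_le]
  rintro _ ⟨x, hx, rfl⟩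
  exact gm_mem_aut hx

theorem C0_le_M8 : C0 ≤ M8 := Subgroup.closure_mono (Set.image_mono fun x (hx : x < 7) => Nat.lt_succ_of_lt hx)

theorem card_M8_gt : 59875200 < Nat.card M8 := by
  obtain ⟨o0, o1, o2, o3, hmul⟩ := mchain_checks
  obtain ⟨m0, n0⟩ := orbM_spec o0
  obtain ⟨m1, n1⟩ := orbM_spec o1
  obtain ⟨m2, n2⟩ := orbM_spec o2
  obtain ⟨m3, n3⟩ := orbM_spec o3
  let S := fun p : Fin 275 => MulAction.stabilizer (Equiv.Perm (Fin 275)) p
  have fixes : ∀ {L : List ℕ}, (∀ x ∈ L, x < 8) → ∀ q : Fin 275, actM L q = q → wprod gm L ∈ S q :=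
    fun hL q hq => Fin.ext ((wprod_gm_val _ hL q).trans hq)
  have b0 := orbit_bound (K := M8) mbase0 morb0 (fun L hL => wprod_mem8 (m0 L hL).1) (fun L hL => (m0 L hL).1) n0
  have b1 := orbit_bound (K := M8 ⊓ S mbase0) mbase1 morb1
    (fun L hL => ⟨wprod_mem8 (m1 L hL).1, fixes (m1 L hL).1 _ ((m1 L hL).2 _ (by simp))⟩)
    (fun L hL => (m1 L hL).1) n1
  have b2 := orbit_bound (K := M8 ⊓ S mbase0 ⊓ S mbase1) mbase2 morb2
    (fun L hL => ⟨⟨wprod_mem8 (m2 L hL).1, fixes (m2 L hL).1 _ ((m2 L hL).2 _ (by simp))⟩,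
      fixes (m2 L hL).1 _ ((m2 L hL).2 _ (by simp))⟩)
    (fun L hL => (m2 L hL).1) n2
  have b3 := orbit_bound (K := M8 ⊓ S mbase0 ⊓ S mbase1 ⊓ S mbase2) mbase3 morb3
    (fun L hL => ⟨⟨⟨wprod_mem8 (m3 L hL).1, fixes (m3 L hL).1 _ ((m3 L hL).2 _ (by simp))⟩,
      fixes (m3 L hL).1 _ ((m3 L hL).2 _ (by simp))⟩, fixes (m3 L hL).1 _ ((m3 L hL).2 _ (by simp))⟩)
    (fun L hL => (m3 L hL).1) n3
  rw [card_stab_eq] at b0 b1 b2 b3
  refine lt_of_lt_of_le (lt_of_lt_of_le hmul ?_) b0
  rw [mul_assoc, mul_assoc]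
  refine Nat.mul_le_mul_left _ (le_trans ?_ b1)
  refine Nat.mul_le_mul_left _ (le_trans ?_ b2)
  refine Nat.mul_le_mul_left _ (le_trans ?_ b3)
  exact Nat.le_mul_of_pos_right _ Nat.card_pos

/-- A simple group of this order has no proper subgroup of index below fifteen. -/
theorem eq_top_of_index_lt {B : Type*} [Group B] [IsSimpleGroup B] (cB : Nat.card B = 898128000)
    (N : Subgroup B) (hN : N.index < 15) : N = ⊤ := by
  haveI : Finite B := Nat.finite_of_card_ne_zero (by omega)
  rcases (Subgroup.normalCore_normal N).eq_bot_or_eq_top with h | h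
  · exfalso
    have hcore : (MulAction.toPermHom B (B ⧸ N)).ker = N.normalCore := (Subgroup.normalCore_eq_ker N).symm
    have hinj : Function.Injective (MulAction.toPermHom B (B ⧸ N)) := by
      rw [← MonoidHom.ker_eq_bot_iff, hcore, h]
    have hd := Subgroup.card_dvd_of_injective _ hinj
    rw [cB, Nat.card_perm, ← Subgroup.index] at hd
    have hd' := hd.trans (Nat.factorial_dvd_factorial (show N.index ≤ 14 by omega))
    norm_num [Nat.factorial] at hd'
  · exact top_le_iff.1 (h ▸ Subgroup.normalCore_le N)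

/-- The model group is the McLaughlin group. -/
theorem M8_eq : M8 = actV.range ∧ Nat.card M8 = 898128000 := by
  classical
  set R : Subgroup (Equiv.Perm (Fin 275)) := actV.range with hR
  haveI := isSimple_mclGroup
  let eR : mclGroup ≃* R := MonoidHom.ofInjective actV_injective
  haveI : IsSimpleGroup R := eR.symm.isSimpleGroup
  have cR : Nat.card R = 898128000 := by rw [← Nat.card_congr eR.toEquiv, card_mclGroup]
  have hRA : R ≤ AutΓ := by rintro _ ⟨g, rfl⟩; exact actV_mem g
  have hnorm : ∀ σ ∈ M8, ∀ r ∈ R, σ * r * σ⁻¹ ∈ R := fun σ hσ r hr => by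
    let f : Equiv.Perm (Fin 275) →* Equiv.Perm (Fin 275) := (MulAut.conj σ).toMonoidHom
    have h1 : R.map f ≤ AutΓ := by
      rintro _ ⟨x, hx, rfl⟩
      exact mul_mem (mul_mem (M8_le_aut hσ) (hRA hx)) (inv_mem (M8_le_aut hσ))
    have h2 : Nat.card (R.map f) = 898128000 := by
      rw [← cR]
      exact (Nat.card_congr (R.equivMapOfInjective f (MulAut.conj σ).injective).toEquiv).symm
    exact unique_simple h1 hRA h2 cR ▸ ⟨r, hr, rfl⟩
  let N : Subgroup M8 := R.subgroupOf M8
  haveI hN : N.Normal := ⟨fun r hr σ => hnorm σ σ.2 r hr⟩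
  have hidx : N.index < 15 := by
    have h1 : R.relIndex M8 ≤ R.relIndex AutΓ :=
      Subgroup.relIndex_le_of_le_right M8_le_aut Subgroup.index_ne_zero_of_finite
    have h2 := (R.subgroupOf AutΓ).card_mul_index
    rw [Nat.card_congr (Subgroup.subgroupOfEquivOfLe hRA).toEquiv, cR] at h2
    have h3 := McL275.card_AutΓ
    refine lt_of_le_of_lt h1 ?_
    show (R.subgroupOf AutΓ).index < 15
    by_contra hlt
    have := Nat.mul_le_mul_left 898128000 (not_lt.1 hlt)
    omega
  let q : C0 →* M8 ⧸ N := (QuotientGroup.mk' N).comp (Subgroup.inclusion C0_le_M8)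
  obtain ⟨hcov, hcard, hz⟩ := c0_cover
  have hq : q.ker = ⊤ := by
    refine (normal_cases (Subgroup.mem_center_iff.2 t0_comm) t0_ne hcov q.ker).resolve_left fun h => ?_
    haveI : Finite C0 := Nat.finite_of_card_ne_zero (by omega)
    have e := q.ker.card_mul_index
    rw [Subgroup.index_ker, hcard] at e
    have l1 : Nat.card q.ker ≤ 2 := by
      refine (Subgroup.card_le_of_le h).trans ?_
      rw [hcov.1]
    have l2 : Nat.card q.range ≤ N.index := Finite.card_subtype_le _
    have := Nat.mul_le_mul l1 (l2.trans hidx.le)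
    omega
  have hC : ∀ x, x < 7 → gm x ∈ R := fun x hx => by
    have h : q ⟨gm x, gm_mem hx⟩ = 1 := MonoidHom.mem_ker.1 (hq ▸ Subgroup.mem_top _)
    exact (QuotientGroup.eq_one_iff (N := N) (Subgroup.inclusion C0_le_M8 ⟨gm x, gm_mem hx⟩)).1 h
  have hw : gm 7 ∈ R := by
    let v : M8 := ⟨gm 7, gm_mem8 (by norm_num)⟩
    let u : M8 := ⟨gm 6, gm_mem8 (by norm_num)⟩
    have e2 : v * v = 1 := Subtype.ext (gm_sq 7)
    have e3 : u * v * (u * v) * (u * v) = 1 := Subtype.ext (by
      have := eqM_sound (L := [6, 7, 6, 7, 6, 7]) (L' := []) (by decide +kernel)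
      simpa [wprod, mul_assoc] using this)
    have hu : (QuotientGroup.mk' N u) = 1 := (QuotientGroup.eq_one_iff _).2 (hC 6 (by norm_num))
    have f3 := congrArg (QuotientGroup.mk' N) e3
    have f2 := congrArg (QuotientGroup.mk' N) e2
    simp only [map_mul, hu, one_mul, map_one] at f3 f2
    rw [f2, one_mul] at f3
    exact (QuotientGroup.eq_one_iff v).1 f3
  have hle : M8 ≤ R := by
    rw [M8, Subgroup.closure_le]
    rintro _ ⟨x, hx, rfl⟩
    rcases Nat.lt_succ_iff_lt_or_eq.1 (show x < 8 from hx) with h | rfl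
    exacts [hC x h, hw]
  have heq : M8.subgroupOf R = ⊤ := by
    refine eq_top_of_index_lt cR _ ?_
    by_contra hlt
    have e := (M8.subgroupOf R).card_mul_index
    rw [Nat.card_congr (Subgroup.subgroupOfEquivOfLe hle).toEquiv, cR] at e
    have := Nat.mul_le_mul (le_refl (Nat.card M8)) (not_lt.1 hlt)
    have := card_M8_gt
    omega
  have hge : R ≤ M8 := Subgroup.subgroupOf_eq_top.1 heq
  exact ⟨le_antisymm hle hge, by rw [le_antisymm hle hge, cR]⟩

/-- The relations of the model. -/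
theorem model_checks : (([0, 1, 2].all fun k => eqM ([7] ++ dGen.getD k [] ++ [7]) (dImg.getD k [])) &&
    TabGood.pats.all fun p => eqM p []) = true := by decide +kernel

/-- **A group with the relations contains McL, and in it the double cover.** -/
theorem exists_embedding {G : Type*} [Group G] (S : Setup G) (hinj : Function.Injective S.φ)
    (hp : ∀ p ∈ TabGood.pats, wprod S.f p = 1) :
    ∃ ι : mclGroup →* G, Function.Injective ι ∧ S.gen ≤ ι.range := by
  classical
  obtain ⟨hM, cM⟩ := M8_eq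
  have hmc := model_checks
  simp only [Bool.and_eq_true, List.all_eq_true] at hmc
  obtain ⟨hact, hpat⟩ := hmc
  have hlt : ∀ k < 3, (∀ x ∈ dGen.getD k [], x < 7) ∧ (∀ x ∈ dImg.getD k [], x < 7) := by decide
  let S2 : Setup (G × Equiv.Perm (Fin 275)) :=
    { φ := S.φ.prod C0.subtype
      w := (S.w, gm 7)
      w_sq := Prod.ext S.w_sq (gm_sq 7)
      act := fun k hk => by
        refine Prod.ext (S.act k hk) ?_
        show gm 7 * ((el (dGen.getD k []) : C0) : Equiv.Perm (Fin 275)) * gm 7 = ((el (dImg.getD k []) : C0) : _)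
        rw [el_val (hlt k hk).1, el_val (hlt k hk).2,
          ← eqM_sound (hact k (by interval_cases k <;> simp)), wprod_append, wprod_append]
        simp [wprod] }
  have hf : ∀ x < 8, S2.f x = (S.f x, gm x) := fun x hx => by
    rcases Nat.lt_succ_iff_lt_or_eq.1 hx with h | rfl
    · refine Prod.ext ?_ ?_ <;> simp [Setup.f, h, S2, cl_val]
    · rw [Setup.f_seven, Setup.f_seven]
  have hp2 : ∀ p ∈ TabGood.pats, wprod S2.f p = 1 := fun p hpm => by
    have h8 : ∀ x ∈ p, x < 8 := (show ∀ p ∈ TabGood.pats, ∀ x ∈ p, x < 8 by decide) p hpm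
    refine Prod.ext ?_ ?_
    · show MonoidHom.fst G _ (wprod S2.f p) = 1
      rw [map_wprod _ _ S.f p fun x hx => by simp [hf x (h8 x hx)], hp p hpm]
    · show MonoidHom.snd G _ (wprod S2.f p) = 1
      rw [map_wprod _ _ gm p fun x hx => by simp [hf x (h8 x hx)], eqM_sound (hpat p hpm)]
      rfl
  obtain ⟨hfin, hbound⟩ := S2.card_gen_le (defs := TabGood.defs)
    (fun k hk => Nat.le_of_ble_eq_true (List.all_eq_true.1 TabGood.defs_ok k (List.mem_range.2 hk)))
    hp2 TabGood.facts_ok TabGood.closed_ok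
  rw [TabGood.lives_idx] at hbound
  haveI := hfin
  let π : S2.gen →* Equiv.Perm (Fin 275) := (MonoidHom.snd G _).comp S2.gen.subtype
  have hmem : ∀ x < 8, S2.f x ∈ S2.gen := fun x hx => by
    rcases Nat.lt_succ_iff_lt_or_eq.1 hx with h | rfl
    · exact Subgroup.mem_sup_left ⟨cl x, by simp [Setup.f, h]⟩
    · rw [Setup.f_seven]; exact Subgroup.mem_sup_right (Subgroup.mem_zpowers _)
  have hπ : π.range = M8 := by
    refine le_antisymm ?_ ?_
    · rintro _ ⟨⟨y, hy⟩, rfl⟩
      have hle : S2.gen ≤ M8.comap (MonoidHom.snd G _) := sup_le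
        (by rintro _ ⟨c, rfl⟩; exact C0_le_M8 c.2)
        (Subgroup.zpowers_le.2 (gm_mem8 (by norm_num)))
      exact hle hy
    · rw [M8, Subgroup.closure_le]
      rintro _ ⟨x, hx, rfl⟩
      exact ⟨⟨_, hmem x hx⟩, by simp [π, hf x hx]⟩
  have hπinj : Function.Injective π := by
    have h1 : Nat.card π.range = 898128000 := by rw [hπ, cM]
    have h2 := π.ker.card_mul_index
    rw [Subgroup.index_ker, h1] at h2
    refine (MonoidHom.ker_eq_bot_iff π).1 ((Subgroup.card_eq_one).1 ?_)
    by_contra hne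
    have h3 : 2 ≤ Nat.card π.ker := by
      have := Nat.card_pos (α := π.ker)
      omega
    have := Nat.mul_le_mul_right 898128000 h3
    omega
  let e : mclGroup ≃* S2.gen :=
    ((MonoidHom.ofInjective actV_injective).trans
      (MulEquiv.subgroupCongr (hM.symm.trans hπ.symm))).trans (MonoidHom.ofInjective hπinj).symm
  let ι : mclGroup →* G := ((MonoidHom.fst G _).comp S2.gen.subtype).comp e.toMonoidHom
  have hrange : S.gen ≤ ι.range := by
    refine sup_le ?_ (Subgroup.zpowers_le.2 ?_)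
    · rintro _ ⟨c, rfl⟩
      exact ⟨e.symm ⟨S2.φ c, Subgroup.mem_sup_left ⟨c, rfl⟩⟩, by simp [ι, S2]⟩
    · exact ⟨e.symm ⟨S2.w, Subgroup.mem_sup_right (Subgroup.mem_zpowers _)⟩, by simp [ι, S2]⟩
  refine ⟨ι, ?_, hrange⟩
  haveI := isSimple_mclGroup
  rcases (MonoidHom.normal_ker ι).eq_bot_or_eq_top with h | h
  · exact (MonoidHom.ker_eq_bot_iff ι).1 h
  · exfalso
    obtain ⟨g, hg⟩ := hrange (Subgroup.mem_sup_left ⟨t0, rfl⟩)
    have : S.φ t0 = 1 := by
      rw [← hg]; exact MonoidHom.mem_ker.1 (h ▸ Subgroup.mem_top g)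
    exact t0_ne (hinj (this.trans S.φ.map_one.symm))

end CfsgLib.Recog.McLInv
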