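import Cfsg.Agent.Lib.Recog.McLInv.Engine

/-!
A closed table of double cosets bounds the generated group; a collapsed table is a contradiction.
-/

set_option autoImplicit false
set_option maxRecDepth 100000
set_option Elab.async false

namespace CfsgLib.Recog.McLInv

open CfsgLib.InvChar.Coset

/-- A node of the final table, with facts fixing it and elements of its stabiliser. -/
structure Live where
  /-- the node -/
  node : ℕ
  /-- facts fixing the node -/
  gens : List ℕ
  /-- stabiliser elements as words in these -/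
  elems : List (List ℕ)

/-- The facts fix the node. -/
noncomputable def liveGens (Fs : List Fact) (L : Live) : Bool :=
  L.gens.all fun g => Nat.blt g Fs.length &&
    let F := Fs.getD g ⟨false, 0, 0, 0, 0, 0⟩
    !F.edge && Nat.beq F.i L.node && Nat.beq F.j L.node && eqB (unp F.z) []

/-- A stabiliser element. -/
noncomputable def liveWord (Fs : List Fact) (L : Live) (k : ℕ) : List ℕ :=
  (L.elems.getD k []).flatMap fun g => unp (Fs.getD (L.gens.getD g 0) ⟨false, 0, 0, 0, 0, 0⟩).y

/-- The number of cosets of the double cover in the double coset. -/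
def Live.idx (L : Live) : ℕ := 40320 / L.elems.length

/-- The node carries enough stabiliser. -/
noncomputable def liveOK (Fs : List Fact) (L : Live) : Bool :=
  liveGens Fs L && L.elems.all (fun W => ltW L.gens.length W) && Nat.blt 0 L.elems.length &&
    distinctB L.elems.length (liveWord Fs L)

/-- The product of a coset with the extra letter lies in the table. -/
noncomputable def coverOK (Fs : List Fact) (nodes : List ℕ) (node x : ℕ) (P : ℕ × List Move) : Bool :=
  eqB (unp P.1) (xWords.getD x []) && chkPath Fs Fs.length P.2 ⟨0, node, P.1⟩ &&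
    leq (emits Fs P.2) [7] && nodes.any (Nat.beq (endSt P.2 ⟨0, node, P.1⟩).i)

/-- The table is closed. -/
noncomputable def closedOK (Fs : List Fact) (Ls : List Live) (cov : List (List (ℕ × List Move))) : Bool :=
  let nodes := 0 :: Ls.map fun L => L.node
  Ls.all (liveOK Fs) &&
    (List.range nodes.length).all fun l => (List.range 210).all fun x =>
      coverOK Fs nodes (nodes.getD l 0) x ((cov.getD l []).getD x (0, []))

/-- The table has collapsed. -/
noncomputable def collapsed (Fs : List Fact) (k : ℕ) : Bool :=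
  Nat.blt k Fs.length &&
    let F := Fs.getD k ⟨false, 0, 0, 0, 0, 0⟩
    !F.edge && Nat.beq F.i F.j && eqB (unp F.y) [] && eqB (unp F.z) [] && neC (unp F.c) []

namespace Setup

variable {G : Type*} [Group G] (S : Setup G)

/-- **A collapsed table is impossible.** -/
theorem false_of_collapsed {defs : List (ℕ × ℕ)} {Fs : List Fact} {Js : List Just}
    {pats : List (List ℕ)} (hinj : Function.Injective S.φ) (hd : DefsOK defs)
    (hp : ∀ p ∈ pats, wprod S.f p = 1) (h : chkFacts Fs Js defs pats = true) {k : ℕ}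
    (hk : collapsed Fs k = true) : False := by
  simp only [collapsed, Bool.and_eq_true, Nat.blt_eq, Bool.not_eq_true'] at hk
  obtain ⟨hlt, ⟨⟨⟨he, hij⟩, hy⟩, hz⟩, hc⟩ := hk
  have hF := S.facts_sound defs hd hp h k hlt
  rw [FactOK, he, eqB_sound hy, eqB_sound hz, Nat.eq_of_beq_eq_true hij, el_nil, map_one] at hF
  simp only [midW, cond_false, mul_one] at hF
  exact neC_sound hc (hinj (by rw [el_nil, map_one]; exact right_eq_mul.1 hF))

/-- The group generated by the double cover and the extra involution. -/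
noncomputable def gen : Subgroup G := S.φ.range ⊔ Subgroup.zpowers S.w

/-- Elements in the double coset of a node. -/
def InCoset (defs : List (ℕ × ℕ)) (k : ℕ) (u : G) : Prop :=
  ∃ c y : C0, u = S.φ c * S.ν defs k * S.φ y

/-- **A closed table bounds the group.** -/
theorem card_gen_le {defs : List (ℕ × ℕ)} {Fs : List Fact} {Js : List Just} {pats : List (List ℕ)}
    {Ls : List Live} {cov : List (List (ℕ × List Move))} (hd : DefsOK defs)
    (hp : ∀ p ∈ pats, wprod S.f p = 1) (h : chkFacts Fs Js defs pats = true)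
    (hc : closedOK Fs Ls cov = true) :
    Finite S.gen ∧ Nat.card S.gen ≤ 40320 * (1 + (Ls.map Live.idx).sum) := by
  classical
  have hF := S.facts_sound defs hd hp h
  simp only [closedOK, Bool.and_eq_true, List.all_eq_true, List.mem_range] at hc
  obtain ⟨hLs, hcov⟩ := hc
  set nodes := 0 :: Ls.map fun L => L.node with hnodes
  let V : Set G := {u | ∃ k ∈ nodes, S.InCoset defs k u}
  have hright : ∀ u ∈ V, ∀ z : C0, u * S.φ z ∈ V := by
    rintro _ ⟨k, hk, c, y, rfl⟩ z
    exact ⟨k, hk, c, y * z, by rw [map_mul, ← mul_assoc]⟩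
  have hw : ∀ u ∈ V, u * S.w ∈ V := by
    rintro _ ⟨k, hk, c, y, rfl⟩
    obtain ⟨l, hl, rfl⟩ := List.mem_iff_getElem.1 hk
    obtain ⟨x, hx, i, hi, rfl⟩ := exists_xWord y
    have hP := hcov l hl x hx
    generalize (cov.getD l []).getD x (0, []) = P at hP
    simp only [coverOK, Bool.and_eq_true, List.any_eq_true] at hP
    obtain ⟨⟨⟨hs, hpath⟩, hem⟩, n, hn, hne⟩ := hP
    have e := S.chkPath_sound defs hF P.2 _ hpath
    rw [eq_of_leq _ _ hem, show wprod S.f [7] = S.w by simp [wprod, f_seven],
      List.getD_eq_getElem _ _ hl] at e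
    have hst : S.stVal defs ⟨0, nodes[l], P.1⟩ = S.ν defs nodes[l] * S.φ (el (xWords.getD x [])) := by
      show S.φ (el (unp 0)) * _ * _ = _
      rw [eqB_sound hs, show unp 0 = [] from rfl, el_nil, map_one, one_mul]
    have e2 : S.φ c * S.ν defs nodes[l] * S.φ (el (xWords.getD x []) * el (dW i)) * S.w =
        S.φ c * (S.stVal defs (endSt P.2 ⟨0, nodes[l], P.1⟩)) * S.φ (el (dA i)) := by
      rw [← e, hst, map_mul]
      simp only [mul_assoc]
      rw [S.act_dW hi]
    rw [e2]
    rw [List.getD_eq_getElem _ _ hl] at hne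
    refine ⟨_, Nat.eq_of_beq_eq_true hne ▸ hn, c * el (unp (endSt P.2 ⟨0, nodes[l], P.1⟩).c),
      el (unp (endSt P.2 ⟨0, nodes[l], P.1⟩).y) * el (dA i), ?_⟩
    simp only [stVal, map_mul, mul_assoc]
  -- each node gives few cosets
  have hnode : ∀ L ∈ Ls, ∃ s : Finset G, s.card ≤ 40320 * L.idx ∧ ∀ u, S.InCoset defs L.node u → u ∈ s := by
    intro L hL
    have hl := hLs L hL
    simp only [liveOK, Bool.and_eq_true, List.all_eq_true, Nat.blt_eq] at hl
    obtain ⟨⟨⟨hg, hW⟩, hpos⟩, hdist⟩ := hl
    simp only [liveGens, List.all_eq_true, Bool.and_eq_true, Nat.blt_eq, Bool.not_eq_true'] at hg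
    let P : C0 → Prop := fun s => ∃ c : C0, S.ν defs L.node * S.φ s = S.φ c * S.ν defs L.node
    let T : Subgroup C0 :=
      { carrier := {s | P s}
        one_mem' := ⟨1, by simp⟩
        mul_mem' := by
          rintro a b ⟨c, hca⟩ ⟨c', hcb⟩
          exact ⟨c * c', by rw [map_mul, ← mul_assoc, hca, mul_assoc, hcb, ← mul_assoc, map_mul]⟩
        inv_mem' := by
          rintro a ⟨c, hca⟩
          refine ⟨c⁻¹, ?_⟩
          rw [map_inv, map_inv, eq_inv_mul_iff_mul_eq, ← mul_assoc, ← hca, mul_inv_cancel_right] }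
    have hmem : ∀ k : Fin L.elems.length, el (liveWord Fs L k) ∈ T := by
      intro k
      rw [liveWord, el, wprod_flatten]
      refine wprod_mem fun g hgm => ?_
      have hWk := hW (L.elems.getD k []) (by rw [List.getD_eq_getElem _ _ k.2]; exact List.getElem_mem _)
      have hgl : g < L.gens.length := ltW_spec hWk g hgm
      obtain ⟨hlt, ⟨⟨he, hi⟩, hj⟩, hz⟩ := hg (L.gens.getD g 0) (by
        rw [List.getD_eq_getElem _ _ hgl]; exact List.getElem_mem _)
      have e := hF _ hlt
      rw [FactOK, he, Nat.eq_of_beq_eq_true hi, Nat.eq_of_beq_eq_true hj, eqB_sound hz, el_nil, map_one] at e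
      simp only [midW, cond_false, mul_one] at e
      exact ⟨_, e⟩
    have hT : L.elems.length ≤ Nat.card T := by
      refine le_of_eq_of_le (Nat.card_fin _).symm (Nat.card_le_card_of_injective
        (fun k : Fin L.elems.length => (⟨el (liveWord Fs L k), hmem k⟩ : T)) fun a b e => ?_)
      exact distinctB_spec hdist (congrArg Subtype.val e)
    have hidx : Nat.card (C0 ⧸ T) ≤ L.idx := by
      show T.index ≤ _
      rw [Live.idx, Nat.le_div_iff_mul_le hpos]
      calc T.index * L.elems.length ≤ T.index * Nat.card T := Nat.mul_le_mul_left _ hT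
        _ = 40320 := by rw [mul_comm, T.card_mul_index, c0_cover.2.1]
    haveI := Fintype.ofFinite C0
    haveI := Fintype.ofFinite (C0 ⧸ T)
    refine ⟨Finset.univ.image fun p : C0 × (C0 ⧸ T) => S.φ p.1 * S.ν defs L.node * S.φ (p.2.out)⁻¹, ?_, ?_⟩
    · refine Finset.card_image_le.trans ?_
      rw [Finset.card_univ, Fintype.card_prod, ← Nat.card_eq_fintype_card, ← Nat.card_eq_fintype_card,
        c0_cover.2.1]
      exact Nat.mul_le_mul_left _ hidx
    · rintro u ⟨c, y, rfl⟩
      have hs : y * ((QuotientGroup.mk y⁻¹ : C0 ⧸ T).out) ∈ T := by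
        have h' := QuotientGroup.eq.1 (Quotient.out_eq (QuotientGroup.mk y⁻¹ : C0 ⧸ T)).symm
        rwa [inv_inv] at h'
      obtain ⟨c', hc'⟩ := hs
      refine Finset.mem_image.2 ⟨(c * c', QuotientGroup.mk y⁻¹), Finset.mem_univ _, ?_⟩
      show S.φ (c * c') * _ * _ = _
      rw [map_mul, mul_assoc (S.φ c) (S.φ c'), ← hc', map_inv, map_mul]
      group
  choose s hs hmem using hnode
  let V' : Finset G := (Finset.univ.image fun c : C0 => S.φ c) ∪
    Ls.attach.toFinset.biUnion fun L => s L.1 L.2
  have hV : V ⊆ ↑V' := by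
    rintro u ⟨k, hk, hu⟩
    rw [hnodes, List.mem_cons, List.mem_map] at hk
    simp only [V', Finset.coe_union, Set.mem_union, Finset.mem_coe]
    rcases hk with rfl | ⟨L, hL, rfl⟩
    · obtain ⟨c, y, rfl⟩ := hu
      exact Or.inl (Finset.mem_image.2 ⟨c * y, Finset.mem_univ _, by rw [ν_zero, mul_one, map_mul]⟩)
    · exact Or.inr (Finset.mem_biUnion.2 ⟨⟨L, hL⟩, List.mem_toFinset.2 (List.mem_attach _ _), hmem L hL u hu⟩)
  haveI : Finite C0 := inferInstance
  have hsub : (S.gen : Set G) ⊆ V := by
    have h1 : (1 : G) ∈ V := ⟨0, List.mem_cons_self .., 1, 1, by simp [ν_zero]⟩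
    have hgen : S.gen = Subgroup.closure (Set.range S.φ ∪ {S.w}) := by
      rw [Subgroup.closure_union, ← MonoidHom.coe_range, Subgroup.closure_eq, ← Subgroup.zpowers_eq_closure]
      rfl
    intro u hu
    rw [SetLike.mem_coe, hgen] at hu
    refine Subgroup.closure_induction_right h1 ?_ ?_ hu
    · rintro x _ y (⟨z, rfl⟩ | rfl) hx
      exacts [hright x hx z, hw x hx]
    · rintro x _ y (⟨z, rfl⟩ | rfl) hx
      · rw [← map_inv]; exact hright x hx _
      · rw [inv_eq_of_mul_eq_one_right S.w_sq]; exact hw x hx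
  have hfin : (S.gen : Set G).Finite := (V'.finite_toSet).subset (hsub.trans hV)
  refine ⟨hfin.to_subtype, ?_⟩
  rw [← SetLike.coe_sort_coe, Nat.card_coe_set_eq]
  refine (Set.ncard_le_ncard (hsub.trans hV) V'.finite_toSet).trans ?_
  rw [Set.ncard_coe_finset]
  refine (Finset.card_union_le _ _).trans ?_
  rw [Nat.mul_add, mul_one]
  refine Nat.add_le_add ?_ ?_
  · refine Finset.card_image_le.trans ?_
    rw [Finset.card_univ, ← Nat.card_eq_fintype_card, c0_cover.2.1]
  · refine Finset.card_biUnion_le.trans ?_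
    calc ∑ L ∈ Ls.attach.toFinset, (s L.1 L.2).card ≤ ∑ L ∈ Ls.attach.toFinset, 40320 * L.1.idx :=
          Finset.sum_le_sum fun L _ => hs L.1 L.2
      _ ≤ (Ls.attach.map fun L => 40320 * L.1.idx).sum := by
          rw [← Multiset.sum_coe, ← Multiset.map_coe, Finset.sum_eq_multiset_sum]
          refine Multiset.le_iff_exists_add.1 (Multiset.dedup_le (Ls.attach : Multiset {L // L ∈ Ls})) |>.elim ?_
          intro r hr
          conv_rhs => rw [hr, Multiset.map_add, Multiset.sum_add]
          exact Nat.le_add_right _ _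
      _ = 40320 * (Ls.map Live.idx).sum := by
          rw [← List.sum_map_mul_left]
          conv_rhs => rw [← List.attach_map_subtype_val Ls, List.map_map]
          rfl

end Setup

end CfsgLib.Recog.McLInv
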