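import Cfsg.Agent.Lib.Recog.McLInv.Bound

/-! Table of double cosets, TabBadA. -/

set_option autoImplicit false
set_option maxRecDepth 100000
set_option Elab.async false

namespace CfsgLib.Recog.McLInv.TabBadA

/-- part 0 -/
def facts0 : List (Fact) := [
  ⟨true, 0, 402, 0, 1, 0⟩,
  ⟨false, 1, 1, 0x823, 1, 0⟩,
  ⟨false, 1, 0x18e3, 49, 1, 0⟩,
  ⟨false, 1, 0x50815, 0xb5596, 1, 0⟩,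
  ⟨true, 1, 402, 0, 2, 0⟩,
  ⟨false, 2, 0x4104, 0x4104, 2, 0⟩,
  ⟨false, 2, 0x40845, 0xc34107, 2, 0⟩,
  ⟨true, 2, 402, 0, 3, 0⟩,
  ⟨true, 3, 402, 0, 0, 0x261a5⟩,
  ⟨false, 3, 0, 178, 1, 0x190c87⟩,
  ⟨false, 2, 0x14185, 0xd13, 2, 0⟩,
  ⟨false, 2, 0, 0x320b5, 2, 0⟩]

/-- facts -/
def facts : List (Fact) := facts0

/-- part 0 -/
def justs0 : List (Just) := [
  ⟨true, ⟨0, 0, 0⟩, [], [], 0⟩,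
  ⟨false, ⟨0, 0, 403⟩, [⟨3, 0, false, 0, 0x823, 0, 402⟩, ⟨1, 0, false, 0, 0x823, 1, 0⟩], [⟨1, 0, false, 1, 0, 1, 1⟩], 0⟩,
  ⟨false, ⟨0, 0, 0x593⟩, [⟨3, 0, false, 0, 49, 0, 402⟩, ⟨1, 0, false, 0, 49, 1, 0⟩], [⟨1, 0, false, 2, 0, 1, 0x18e3⟩], 0⟩,
  ⟨false, ⟨0, 0, 0xa994⟩, [⟨3, 0, false, 0, 0xba996, 0, 402⟩, ⟨1, 0, false, 0, 0xba996, 1, 0⟩], [⟨1, 0, false, 3, 0, 1, 0x10a85⟩], 0⟩,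
  ⟨true, ⟨0, 0, 0⟩, [], [], 0⟩,
  ⟨false, ⟨0, 1, 0x20995⟩, [⟨1, 2, false, 0, 49, 1, 0x34425⟩, ⟨1, 1, false, 0, 0x4134, 1, 0x20c15⟩, ⟨1, 3, false, 0, 0x133b827, 1, 0x106a86⟩, ⟨1, 3, false, 0, 0x2a84e88, 1, 0x131ac6⟩, ⟨1, 1, false, 0, 0xaa6157, 1, 0x98d607⟩, ⟨1, 3, false, 0, 0x34105, 1, 0x68a4⟩, ⟨1, 2, false, 0, 0x4104, 1, 402⟩, ⟨1, 4, false, 0, 0x4104, 2, 0⟩], [⟨1, 4, false, 52, 0, 2, 0x4104⟩], 0⟩,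
  ⟨false, ⟨0, 1, 0xc13⟩, [⟨1, 2, false, 0, 49, 1, 0x308a5⟩, ⟨1, 3, false, 0, 0x268ea6, 1, 0x106a87⟩, ⟨1, 1, false, 0, 0x99dc108, 1, 0x20d56⟩, ⟨1, 2, false, 0, 0x887597, 1, 0x35486⟩, ⟨1, 3, false, 0, 0xe829d7, 1, 0x13a116⟩, ⟨1, 1, false, 0, 0x1317a08, 1, 0x82ea6⟩, ⟨1, 2, false, 0, 0x1510d57, 1, 0x7ac5⟩, ⟨1, 3, false, 0, 0xc34107, 1, 402⟩, ⟨1, 4, false, 0, 0xc34107, 2, 0⟩], [⟨1, 4, false, 125, 0, 2, 0x40845⟩], 0⟩,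
  ⟨true, ⟨0, 0, 0⟩, [], [], 0⟩,
  ⟨false, ⟨0, 0, 0⟩, [⟨0, 402, false, 0, 0, 0, 402⟩, ⟨1, 0, false, 0, 0, 1, 0⟩, ⟨0, 402, false, 0, 0, 1, 402⟩, ⟨1, 4, false, 0, 0, 2, 0⟩, ⟨0, 402, false, 0, 0, 2, 402⟩, ⟨1, 7, false, 0, 0, 3, 0⟩, ⟨0, 402, false, 0, 0, 3, 402⟩], [⟨0, 0x261a5, false, 0, 0, 0, 0x261a5⟩], 0⟩,
  ⟨false, ⟨0, 0, 0x261a5⟩, [⟨1, 8, true, 0, 0, 3, 402⟩], [⟨3, 0, false, 0, 178, 0, 0x820c87⟩, ⟨1, 0, false, 186, 178, 1, 0x261a5⟩], 0⟩]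

/-- part 1 -/
def justs1 : List (Just) := [
  ⟨false, ⟨0, 3, 0⟩, [⟨1, 9, false, 0, 178, 1, 0x190c87⟩, ⟨1, 3, false, 0, 0x2d54, 1, 0x190d56⟩, ⟨1, 2, false, 0, 0x22e95, 1, 0x2b5586⟩, ⟨1, 3, false, 0, 0x17ac5, 1, 0xbd606⟩, ⟨1, 3, false, 0, 0x533, 1, 0x2c84⟩, ⟨1, 4, false, 121, 0x533, 2, 0x34185⟩], [⟨1, 7, true, 0, 0, 2, 402⟩], 0⟩,
  ⟨false, ⟨0, 2, 0x2084⟩, [⟨1, 5, false, 0, 0x4104, 2, 0x40845⟩, ⟨1, 6, false, 0, 0xc33, 2, 0⟩], [⟨1, 10, false, 0, 0xd13, 2, 0x132106⟩, ⟨1, 10, false, 0, 0x45a4, 2, 0x14185⟩, ⟨1, 10, false, 0, 0x2084, 2, 0⟩], 0⟩]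

/-- justs -/
def justs : List (Just) := justs0 ++ justs1

/-- part 0 -/
def defs0 : List (ℕ × ℕ) := [
  (0, 402),
  (1, 402),
  (2, 402)]

/-- defs -/
def defs : List (ℕ × ℕ) := defs0

/-- patterns -/
def pats : List (List ℕ) := [[], [7, 7], [1, 3, 7, 1, 3, 7, 1, 3, 7, 1, 3, 7, 2, 3, 0, 3, 2], [2, 3, 0, 3, 2, 7, 3, 1, 7, 3, 1, 7, 3, 1, 7, 3, 1]]

theorem defs_ok : ((List.range defs.length).all fun k => Nat.ble (defs.getD k (0, 0)).1 k) = true := by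
  decide +kernel

theorem facts_ok : chkFacts facts justs defs pats = true := by decide +kernel

theorem collapsed_ok : collapsed facts 11 = true := by decide +kernel

end CfsgLib.Recog.McLInv.TabBadA
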