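import Cfsg.Agent.Lib.Recog.McLInv.Bound

/-! Table of double cosets, TabBadB. -/

set_option autoImplicit false
set_option maxRecDepth 100000
set_option Elab.async false

namespace CfsgLib.Recog.McLInv.TabBadB

/-- part 0 -/
def facts0 : List (Fact) := [
  ⟨true, 0, 402, 0, 1, 0⟩,
  ⟨false, 1, 1, 0x823, 1, 0⟩,
  ⟨false, 1, 0x18e3, 49, 1, 0⟩,
  ⟨false, 1, 0x50815, 0xb5596, 1, 0⟩,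
  ⟨true, 1, 402, 0, 2, 0⟩,
  ⟨false, 2, 1, 0x130d06, 2, 0⟩,
  ⟨false, 2, 0xc34107, 0x40845, 2, 0⟩,
  ⟨false, 2, 0x4104, 0x4104, 2, 0⟩,
  ⟨false, 2, 0x40845, 0xc34107, 2, 0⟩,
  ⟨true, 1, 97, 0x17995, 1, 0x713⟩,
  ⟨true, 2, 49, 0, 3, 0⟩,
  ⟨false, 3, 1, 0x2084, 3, 0⟩,
  ⟨false, 3, 0x4104, 0x413, 3, 0⟩,
  ⟨true, 3, 402, 0, 4, 0⟩,
  ⟨false, 4, 1, 1, 4, 0⟩,
  ⟨true, 4, 402, 0x32085, 1, 0x30d05⟩,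
  ⟨false, 4, 0, 0x5d2197, 1, 0x16aa6⟩,
  ⟨false, 1, 0, 0x2084, 1, 0⟩]

/-- facts -/
def facts : List (Fact) := facts0

/-- part 0 -/
def justs0 : List (Just) := [
  ⟨true, ⟨0, 0, 0⟩, [], [], 0⟩,
  ⟨false, ⟨0, 0, 403⟩, [⟨3, 0, false, 0, 0x823, 0, 402⟩, ⟨1, 0, false, 0, 0x823, 1, 0⟩], [⟨1, 0, false, 1, 0, 1, 1⟩], 0⟩,
  ⟨false, ⟨0, 0, 0x593⟩, [⟨3, 0, false, 0, 49, 0, 402⟩, ⟨1, 0, false, 0, 49, 1, 0⟩], [⟨1, 0, false, 2, 0, 1, 0x18e3⟩], 0⟩,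
  ⟨false, ⟨0, 0, 0xa994⟩, [⟨3, 0, false, 0, 0xba996, 0, 402⟩, ⟨1, 0, false, 0, 0xba996, 1, 0⟩], [⟨1, 0, false, 3, 0, 1, 0x10a85⟩], 0⟩,
  ⟨true, ⟨0, 0, 0⟩, [], [], 0⟩,
  ⟨false, ⟨0, 1, 403⟩, [⟨1, 1, false, 0, 0x823, 1, 0xc84⟩, ⟨1, 3, false, 0, 0x5aa197, 1, 0x416a87⟩, ⟨1, 3, false, 0, 0x1414e87, 1, 0x3d606⟩, ⟨1, 1, false, 0, 0x14841d7, 1, 0x7ac5⟩, ⟨1, 3, false, 0, 0x130d06, 1, 402⟩, ⟨1, 4, false, 0, 0x130d06, 2, 0⟩], [⟨1, 4, false, 1, 0, 2, 1⟩], 0⟩,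
  ⟨false, ⟨0, 1, 0x6085⟩, [⟨1, 2, false, 0, 49, 1, 0x994⟩, ⟨1, 3, false, 0, 0x268ea6, 1, 0x130a87⟩, ⟨1, 1, false, 0, 0x99dc108, 1, 0x26156⟩, ⟨1, 3, false, 0, 0x5509d7, 1, 0x98d607⟩, ⟨1, 3, false, 0, 0x20985, 1, 0x68a4⟩, ⟨1, 2, false, 0, 0x40845, 1, 402⟩, ⟨1, 4, false, 0, 0x40845, 2, 0⟩], [⟨1, 4, false, 16, 0, 2, 0xc34107⟩], 0⟩,
  ⟨false, ⟨0, 1, 0x20995⟩, [⟨1, 2, false, 0, 49, 1, 0x34425⟩, ⟨1, 1, false, 0, 0x4134, 1, 0x20c15⟩, ⟨1, 3, false, 0, 0x133b827, 1, 0x106a86⟩, ⟨1, 3, false, 0, 0x2a84e88, 1, 0x131ac6⟩, ⟨1, 1, false, 0, 0xaa6157, 1, 0x98d607⟩, ⟨1, 3, false, 0, 0x34105, 1, 0x68a4⟩, ⟨1, 2, false, 0, 0x4104, 1, 402⟩, ⟨1, 4, false, 0, 0x4104, 2, 0⟩], [⟨1, 4, false, 52, 0, 2, 0x4104⟩], 0⟩,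
  ⟨false, ⟨0, 1, 0xc13⟩, [⟨1, 2, false, 0, 49, 1, 0x308a5⟩, ⟨1, 3, false, 0, 0x268ea6, 1, 0x106a87⟩, ⟨1, 1, false, 0, 0x99dc108, 1, 0x20d56⟩, ⟨1, 2, false, 0, 0x887597, 1, 0x35486⟩, ⟨1, 3, false, 0, 0xe829d7, 1, 0x13a116⟩, ⟨1, 1, false, 0, 0x1317a08, 1, 0x82ea6⟩, ⟨1, 2, false, 0, 0x1510d57, 1, 0x7ac5⟩, ⟨1, 3, false, 0, 0xc34107, 1, 402⟩, ⟨1, 4, false, 0, 0xc34107, 2, 0⟩], [⟨1, 4, false, 125, 0, 2, 0x40845⟩], 0⟩,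
  ⟨false, ⟨0, 0, 0⟩, [⟨0, 97, false, 0, 0, 0, 97⟩, ⟨3, 0, false, 0, 0x5e3, 0, 402⟩, ⟨1, 0, false, 0, 0x5e3, 1, 0⟩, ⟨0, 97, false, 0, 0x5e3, 1, 97⟩], [⟨0, 0x8a3, false, 0, 0, 0, 0x8a3⟩, ⟨3, 0, false, 0, 178, 0, 0x22995⟩, ⟨1, 0, false, 57, 178, 1, 0x8a3⟩, ⟨0, 97, false, 0, 178, 1, 0x713⟩], 0⟩]

/-- part 1 -/
def justs1 : List (Just) := [
  ⟨true, ⟨0, 0, 0⟩, [], [], 0⟩,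
  ⟨false, ⟨0, 2, 50⟩, [⟨1, 6, false, 0, 0x40845, 2, 0x34105⟩, ⟨1, 7, false, 0, 0x2084, 2, 49⟩, ⟨1, 10, false, 0, 0x2084, 3, 0⟩], [⟨1, 10, false, 1, 0, 3, 1⟩], 0⟩,
  ⟨false, ⟨0, 2, 0x4134⟩, [⟨1, 5, false, 0, 0x130d06, 2, 0x20985⟩, ⟨1, 8, false, 0, 0x413, 2, 49⟩, ⟨1, 10, false, 0, 0x413, 3, 0⟩], [⟨1, 10, false, 52, 0, 3, 0x4104⟩], 0⟩,
  ⟨true, ⟨0, 0, 0⟩, [], [], 0⟩,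
  ⟨false, ⟨0, 3, 403⟩, [⟨1, 11, false, 0, 0x2084, 3, 0xc84⟩, ⟨1, 12, false, 0, 1, 3, 402⟩, ⟨1, 13, false, 0, 1, 4, 0⟩], [⟨1, 13, false, 1, 0, 4, 1⟩], 0⟩,
  ⟨false, ⟨0, 1, 33⟩, [⟨0, 402, false, 0, 0, 1, 0xca3⟩, ⟨1, 1, false, 0, 0x823, 1, 0x6504⟩, ⟨1, 2, false, 0, 0x6824, 1, 0xd14⟩, ⟨1, 1, false, 0, 0x32085, 1, 0x6885⟩, ⟨1, 4, false, 99, 0x32085, 2, 0x6194⟩, ⟨0, 402, false, 0, 0x32085, 2, 0x6824⟩, ⟨1, 10, false, 78, 0x32085, 3, 0x6184⟩, ⟨0, 402, false, 0, 0x32085, 3, 0x1a0886⟩, ⟨1, 13, false, 191, 0x32085, 4, 0x2084⟩, ⟨0, 402, false, 0, 0x32085, 4, 0x6084⟩], [⟨0, 0, false, 0, 0, 1, 33⟩], 27⟩,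
  ⟨false, ⟨0, 1, 33⟩, [⟨0, 97, false, 0, 0, 1, 802⟩, ⟨1, 1, false, 0, 0x823, 1, 0x1903⟩, ⟨1, 3, false, 0, 0x5aa197, 1, 0x42b05⟩, ⟨1, 1, false, 0, 0x1585417, 1, 0x8564⟩, ⟨1, 3, false, 0, 0x84d1d7, 1, 0x30ce5⟩, ⟨1, 9, false, 93, 0x1317837, 1, 0x11c206⟩, ⟨0, 97, false, 0, 0x1317837, 1, 0xb31187⟩, ⟨1, 3, false, 0, 0x8c34, 1, 0x342316⟩, ⟨1, 3, false, 0, 0x1588707, 1, 0xe0756⟩, ⟨1, 1, false, 0, 0x15c3827, 1, 0x2a61c6⟩, ⟨1, 3, false, 0, 0x352f07, 1, 0x11c206⟩, ⟨1, 9, false, 86, 0xba196, 1, 0x30ce5⟩, ⟨0, 97, false, 0, 0xba196, 1, 0xaa426⟩, ⟨1, 15, true, 89, 0x5d0597, 4, 0x2a6886⟩, ⟨0, 0x8a3, false, 0, 0x5d0597, 4, 0x54c85⟩], [], 0⟩,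
  ⟨false, ⟨0, 4, 1⟩, [⟨1, 16, false, 0, 0x5d2197, 1, 0x16aa5⟩, ⟨1, 3, false, 0, 0xc23, 1, 0x132196⟩, ⟨1, 1, false, 0, 0x190506, 1, 0x84c26⟩, ⟨1, 3, false, 0, 0xa829d7, 1, 0x305d6⟩, ⟨1, 3, false, 0, 0xc87597, 1, 0x16aa6⟩], [⟨1, 14, false, 0, 1, 4, 0⟩, ⟨1, 16, false, 0, 0xc17597, 1, 0x16aa6⟩], 0⟩]

/-- justs -/
def justs : List (Just) := justs0 ++ justs1

/-- part 0 -/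
def defs0 : List (ℕ × ℕ) := [
  (0, 402),
  (1, 402),
  (2, 49),
  (3, 402)]

/-- defs -/
def defs : List (ℕ × ℕ) := defs0

/-- patterns -/
def pats : List (List ℕ) := [[], [7, 7], [1, 3, 7, 1, 3, 7, 1, 3, 7, 1, 3, 7], [6, 7, 6, 7, 6, 7, 2, 1, 2], [7, 3, 1, 7, 3, 1, 7, 3, 1, 7, 3, 1], [2, 1, 2, 7, 6, 7, 6, 7, 6]]

theorem defs_ok : ((List.range defs.length).all fun k => Nat.ble (defs.getD k (0, 0)).1 k) = true := by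
  decide +kernel

theorem facts_ok : chkFacts facts justs defs pats = true := by decide +kernel

theorem collapsed_ok : collapsed facts 17 = true := by decide +kernel

end CfsgLib.Recog.McLInv.TabBadB
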