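import Cfsg.Agent.Lib.Recog.McLInv.Outer
import Cfsg.Agent.Lib.Recog.McLInv.Bound
import Cfsg.Agent.Lib.Recog.McLInv.TabGood
import Cfsg.Agent.Lib.Recog.McLInv.TabBadA
import Cfsg.Agent.Lib.Recog.McLInv.TabBadB

/-!
The two relators hold: their values lie in groups of order sixteen, and the exceptional values
collapse the table.
-/

set_option autoImplicit false
set_option maxRecDepth 100000
set_option Elab.async false

namespace CfsgLib.Recog.McLInv

open CfsgLib.InvChar.Coset

/-- The word of the first relator inside the double cover. -/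
def yA : List ℕ := [1, 3]

/-- The word of the second relator inside the double cover. -/
def yB : List ℕ := [6]

/-- A power as a word. -/
def powWord (y : List ℕ) (n : ℕ) : List ℕ := (List.replicate n (y ++ [7])).flatten

/-- The first relator. -/
def rA : List ℕ := powWord yA 4

/-- The second relator. -/
def rB : List ℕ := powWord yB 3

/-- The group of order sixteen and the action on it. -/
noncomputable def eElts (k : ℕ) : List ℕ := (eActs.getD k []).map fun p => p.1

/-- The action of the element on a member. -/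
noncomputable def eImg (y : List ℕ) (k i : ℕ) : ℕ :=
  ((eActs.getD k []).find? fun p => Nat.beq p.1 i).getD (0, 0) |>.2

/-- An iterate of the action. -/
noncomputable def eIter (y : List ℕ) (k : ℕ) : ℕ → ℕ → ℕ
  | 0, i => i
  | n + 1, i => eImg y k (eIter y k n i)

/-- Generators of the group of order sixteen, with the two involutions. -/
noncomputable def eBasis (k : ℕ) : List ℕ := 27 :: 191 :: eGens.getD k []

/-- The facts on a group of order sixteen. -/
noncomputable def eOK (y : List ℕ) (n k : ℕ) : Bool :=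
  ((List.range 192).all fun i =>
    !((eBasis k).all fun g => Nat.beq (mulD i g) (mulD g i)) || (eElts k).any (Nat.beq i)) &&
  ((eBasis k).all fun g => (eElts k).any (Nat.beq g) && Nat.beq (eIter y k n g) g) &&
  ltW 7 y &&
  (eElts k).all fun i => Nat.blt i 192 && (eElts k).any (Nat.beq (eImg y k i)) &&
    eqB (y ++ dW (alphaD i) ++ y.reverse) (dW (eImg y k i))

theorem e_checks : eOK yA 4 0 = true ∧ eOK yB 3 1 = true ∧
    ((eElts 0).all fun i => !Nat.beq (eImg yA 0 i) i || Nat.beq i 0 || Nat.beq i (badVal.getD 0 0)) = true ∧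
    ((eElts 1).all fun i => !Nat.beq (eImg yB 1 i) i || !Nat.beq (alphaD i) (invD i) || Nat.beq i 0 ||
      Nat.beq i (badVal.getD 1 0)) = true := by decide +kernel

theorem bad_words : eqB (dW (badVal.getD 0 0)) [2, 3, 0, 3, 2] = true ∧
    eqB (dW (badVal.getD 1 0)) [2, 1, 2] = true := by decide +kernel

namespace Setup

variable {G : Type*} [Group G] (S : Setup G)

theorem wprod_powWord (y : List ℕ) (hy : ∀ x ∈ y, x < 7) (n : ℕ) :
    wprod S.f (powWord y n) = (S.φ (el y) * S.w) ^ n := by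
  induction n with
  | zero => simp [powWord, wprod]
  | succ n ih =>
    rw [powWord, List.replicate_succ, List.flatten_cons, wprod_append, ← powWord, ih,
      pow_succ', wprod_append, S.wprod_f hy]
    simp [wprod, f_seven]

theorem conj_alpha {i : ℕ} (hi : i < 192) : S.w * S.φ (dEl i) * S.w = S.φ (dEl (alphaD i)) := by
  have him : ∀ k < 3, alphaIm.getD k 0 < 192 ∧ dEl (alphaIm.getD k 0) = el (dImg.getD k []) := fun k hk => by
    have h := List.all_eq_true.1 rep_checks.2.2 k (List.mem_range.2 hk)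
    simp only [Bool.and_eq_true, Nat.blt_eq] at h
    exact ⟨h.1.1.1.1, eqB_sound h.1.2⟩
  have e : S.φ (el (dW i)) * S.w = S.w * S.φ (el (dA i)) := S.act_dW hi
  rw [alphaD, mul_assoc, dEl, e, ← mul_assoc, S.w_sq, one_mul, (evD_spec (fun k hk => (him k hk).1) _ (dIdx_lt hi)).2,
    dA, el, wprod_flatten]
  exact congrArg S.φ (wprod_congr fun k hk => ((him k (dIdx_lt hi k hk)).2).symm)

end Setup

namespace Amb

variable {G : Type*} [Group G] (A : Amb G)

/-- The value of a relator. -/
theorem pow_value (S : Setup G) (hφ : S.φ = A.φ) {y : List ℕ} {n k : ℕ} (h : eOK y n k = true) :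
    (∀ x ∈ y, x < 7) ∧ ∃ i ∈ eElts k, i < 192 ∧ eImg y k i = i ∧ (S.φ (el y) * S.w) ^ n = S.φ (dEl i) := by
  simp only [eOK, Bool.and_eq_true, List.all_eq_true, List.any_eq_true, List.mem_range, Nat.blt_eq] at h
  obtain ⟨⟨⟨hcen, hbas⟩, hy⟩, hmem⟩ := h
  refine ⟨ltW_spec hy, ?_⟩
  set m := S.φ (el y) * S.w with hm
  have hstep : ∀ i ∈ eElts k, eImg y k i ∈ eElts k ∧ m * S.φ (dEl i) * m⁻¹ = S.φ (dEl (eImg y k i)) := by
    intro i hi
    obtain ⟨⟨hlt, u, hu, hue⟩, he⟩ := hmem i hi
    refine ⟨Nat.eq_of_beq_eq_true hue ▸ hu, ?_⟩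
    have e := eqB_sound he
    rw [el_append, el_append, el_reverse] at e
    rw [hm, show S.φ (el y) * S.w * S.φ (dEl i) * (S.φ (el y) * S.w)⁻¹ =
      S.φ (el y) * (S.w * S.φ (dEl i) * S.w⁻¹) * (S.φ (el y))⁻¹ by group,
      inv_eq_of_mul_eq_one_right S.w_sq, S.conj_alpha hlt, dEl, dEl, ← e, map_mul, map_mul, map_inv]
  have hiter : ∀ i ∈ eElts k, ∀ j, eIter y k j i ∈ eElts k ∧
      m ^ j * S.φ (dEl i) * (m ^ j)⁻¹ = S.φ (dEl (eIter y k j i)) := by
    intro i hi j
    induction j with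
    | zero => exact ⟨hi, by simp [eIter]⟩
    | succ j ih =>
      obtain ⟨h1, h2⟩ := hstep _ ih.1
      refine ⟨h1, ?_⟩
      rw [pow_succ', show m * m ^ j * S.φ (dEl i) * (m * m ^ j)⁻¹ =
        m * (m ^ j * S.φ (dEl i) * (m ^ j)⁻¹) * m⁻¹ by group, ih.2, h2]
      rfl
  have hfix : ∀ g ∈ eBasis k, g < 192 ∧ m ^ n * S.φ (dEl g) = S.φ (dEl g) * m ^ n := by
    intro g hg
    obtain ⟨⟨u, hu, hue⟩, hgi⟩ := hbas g hg
    obtain rfl := Nat.eq_of_beq_eq_true hue
    refine ⟨(hmem g hu).1.1, ?_⟩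
    rw [← mul_inv_eq_iff_eq_mul, (hiter g hu n).2, Nat.eq_of_beq_eq_true hgi]
  obtain ⟨n27, n191, -⟩ := named_el
  obtain ⟨c, hc, hce⟩ := A.exists_dEl (x := m ^ n)
    (by rw [← A.t_eq, ← n27, ← hφ]; exact (hfix 27 (List.mem_cons_self ..)).2)
    (by rw [← n191, ← hφ]; exact (hfix 191 (List.mem_cons_of_mem _ (List.mem_cons_self ..))).2)
  rw [← hφ] at hce
  have hcE : c ∈ eElts k := by
    have hall : ((eBasis k).all fun g => Nat.beq (mulD c g) (mulD g c)) = true :=
      List.all_eq_true.2 fun g hg => by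
        obtain ⟨hlt, he⟩ := hfix g hg
        rw [hce, ← map_mul, ← map_mul, ← (mulD_spec hc hlt).2, ← (mulD_spec hlt hc).2, hφ] at he
        rw [dEl_inj (mulD_spec hc hlt).1 (mulD_spec hlt hc).1 (A.inj he)]
        exact Nat.beq_refl _
    have h := hcen c hc
    rw [hall] at h
    simp only [Bool.not_true, Bool.false_or, List.any_eq_true, Bool.or_eq_true, Bool.false_eq_true,
      false_or] at h
    obtain ⟨u, hu, hue⟩ := h
    exact Nat.eq_of_beq_eq_true hue ▸ hu
  refine ⟨c, hcE, hc, ?_, hce⟩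
  obtain ⟨h1, h2⟩ := hstep c hcE
  refine dEl_inj (hmem _ h1).1.1 hc (A.inj ?_)
  rw [← hφ, ← h2, ← hce]
  group

/-- **Both relators hold.** -/
theorem relators_hold (S : Setup G) (hφ : S.φ = A.φ) : wprod S.f rA = 1 ∧ wprod S.f rB = 1 := by
  obtain ⟨hA, hB, hfA, hfB⟩ := e_checks
  obtain ⟨yA7, i, hiE, hi, hif, hiv⟩ := A.pow_value S hφ hA
  obtain ⟨yB7, j, hjE, hj, hjf, hjv⟩ := A.pow_value S hφ hB
  rw [← S.wprod_powWord yA yA7] at hiv
  rw [← S.wprod_powWord yB yB7] at hjv
  have hinj : Function.Injective S.φ := hφ ▸ A.inj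
  have hsh : ∀ L : List ℕ, (∀ x ∈ L, x < 7) → ∀ r : List ℕ, wprod S.f r = S.φ (el L) →
      wprod S.f (r ++ L.reverse) = 1 ∧ wprod S.f (r ++ L.reverse).reverse = 1 := by
    intro L hL r hr
    have e : wprod S.f (r ++ L.reverse) = 1 := by
      rw [wprod_append, wprod_reverse _ S.f_sq, S.wprod_f hL, hr, mul_inv_cancel]
    exact ⟨e, by rw [wprod_reverse _ S.f_sq, e, inv_one]⟩
  have hww : wprod S.f [7, 7] = 1 := by simp [wprod, Setup.f_seven, S.w_sq]
  have hAi : i = 0 ∨ i = badVal.getD 0 0 := by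
    have h := List.all_eq_true.1 hfA i hiE
    rw [hif, Nat.beq_refl] at h
    simp only [Bool.not_true, Bool.false_or, Bool.or_eq_true, Bool.false_eq_true, false_or] at h
    exact h.imp Nat.eq_of_beq_eq_true Nat.eq_of_beq_eq_true
  have hAone : wprod S.f rA = 1 := by
    rcases hAi with rfl | rfl
    · rw [rA, hiv, dEl_zero, map_one]
    · exfalso
      have e : S.φ (dEl (badVal.getD 0 0)) = S.φ (el [2, 3, 0, 3, 2]) := by rw [dEl, eqB_sound bad_words.1]
      obtain ⟨p1, p2⟩ := hsh [2, 3, 0, 3, 2] (by decide) rA (hiv.trans e)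
      refine S.false_of_collapsed hinj (fun k hk => Nat.le_of_ble_eq_true
        (List.all_eq_true.1 TabBadA.defs_ok k (List.mem_range.2 hk))) ?_ TabBadA.facts_ok TabBadA.collapsed_ok
      intro p hp
      have hm : p ∈ [[], [7, 7], rA ++ [2, 3, 0, 3, 2].reverse, (rA ++ [2, 3, 0, 3, 2].reverse).reverse] := by
        revert p; decide
      simp only [List.mem_cons, List.not_mem_nil, or_false] at hm
      rcases hm with rfl | rfl | rfl | rfl
      exacts [rfl, hww, p1, p2]
  refine ⟨hAone, ?_⟩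
  have hinvw : ∀ m : G, m = S.φ (el yB) * S.w → S.w * m * S.w = m⁻¹ := fun m hm => by
    have hy : S.φ (el yB) * S.φ (el yB) = 1 := by
      rw [← map_mul, yB, el_singleton, cl_sq, map_one]
    rw [hm, mul_inv_rev, inv_eq_of_mul_eq_one_right S.w_sq, inv_eq_of_mul_eq_one_right hy,
      mul_assoc S.w (S.φ (el yB) * S.w), mul_assoc (S.φ (el yB)), S.w_sq, mul_one]
  have hjalpha : alphaD j = invD j := by
    have him : ∀ k < 3, alphaIm.getD k 0 < 192 := fun k hk => by
      have h := List.all_eq_true.1 rep_checks.2.2 k (List.mem_range.2 hk)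
      simp only [Bool.and_eq_true, Nat.blt_eq] at h
      exact h.1.1.1.1
    refine dEl_inj (evD_spec him _ (dIdx_lt hj)).1 (invD_spec hj).1 (hinj ?_)
    show S.φ (dEl (alphaD j)) = _
    rw [← S.conj_alpha hj, (invD_spec hj).2, map_inv, ← hjv, S.wprod_powWord yB yB7]
    have hw' : S.w⁻¹ = S.w := inv_eq_of_mul_eq_one_right S.w_sq
    calc S.w * (S.φ (el yB) * S.w) ^ 3 * S.w = (S.w * (S.φ (el yB) * S.w) * S.w⁻¹) ^ 3 := by
          rw [conj_pow, hw']
      _ = _ := by rw [hw', hinvw _ rfl, inv_pow]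
  have hBj : j = 0 ∨ j = badVal.getD 1 0 := by
    have h := List.all_eq_true.1 hfB j hjE
    rw [hjf, hjalpha, Nat.beq_refl, Nat.beq_refl] at h
    simp only [Bool.not_true, Bool.false_or, Bool.or_eq_true, Bool.false_eq_true, false_or] at h
    exact h.imp Nat.eq_of_beq_eq_true Nat.eq_of_beq_eq_true
  rcases hBj with rfl | rfl
  · rw [rB, hjv, dEl_zero, map_one]
  · exfalso
    have e : S.φ (dEl (badVal.getD 1 0)) = S.φ (el [2, 1, 2]) := by rw [dEl, eqB_sound bad_words.2]
    obtain ⟨p1, p2⟩ := hsh [2, 1, 2] (by decide) rB (hjv.trans e)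
    refine S.false_of_collapsed hinj (fun k hk => Nat.le_of_ble_eq_true
      (List.all_eq_true.1 TabBadB.defs_ok k (List.mem_range.2 hk))) ?_ TabBadB.facts_ok TabBadB.collapsed_ok
    intro p hp
    have hm : p ∈ [[], [7, 7], rA, rA.reverse, rB ++ [2, 1, 2].reverse, (rB ++ [2, 1, 2].reverse).reverse] := by
      revert p; decide
    simp only [List.mem_cons, List.not_mem_nil, or_false] at hm
    rcases hm with rfl | rfl | rfl | rfl | rfl | rfl
    exacts [rfl, hww, hAone, by rw [wprod_reverse _ S.f_sq, hAone, inv_one], p1, p2]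

end Amb

/-- The patterns of the table follow from the two relators. -/
theorem Setup.good_pats {G : Type*} [Group G] (S : Setup G) (hA : wprod S.f rA = 1)
    (hB : wprod S.f rB = 1) : ∀ p ∈ TabGood.pats, wprod S.f p = 1 := by
  intro p hp
  have hm : p ∈ [[], [7, 7], rA, rB, rA.reverse, rB.reverse] := by revert p; decide
  simp only [List.mem_cons, List.not_mem_nil, or_false] at hm
  rcases hm with rfl | rfl | rfl | rfl | rfl | rfl
  exacts [rfl, by simp [wprod, Setup.f_seven, S.w_sq], hA, hB, by rw [wprod_reverse _ S.f_sq, hA, inv_one],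
    by rw [wprod_reverse _ S.f_sq, hB, inv_one]]

/-- **The generated group has order at most `898128000`.** -/
theorem Setup.card_gen_le_order {G : Type*} [Group G] (S : Setup G) (hA : wprod S.f rA = 1)
    (hB : wprod S.f rB = 1) : Finite S.gen ∧ Nat.card S.gen ≤ 898128000 := by
  obtain ⟨h1, h2⟩ := S.card_gen_le (fun k hk => Nat.le_of_ble_eq_true
    (List.all_eq_true.1 TabGood.defs_ok k (List.mem_range.2 hk))) (S.good_pats hA hB) TabGood.facts_ok
    TabGood.closed_ok
  rw [TabGood.lives_idx] at h2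
  exact ⟨h1, h2⟩

end CfsgLib.Recog.McLInv
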