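import Mathlib

/-!
A subgroup of order `898128000` containing the centraliser, of order `40320`, of an involution, with one class of
involutions and every element of order three commuting with an involution, is the whole group.
-/

set_option autoImplicit false
set_option linter.style.haveILetI false

namespace CfsgLib.Recog.McLInv

variable {G : Type*} [Group G]

theorem orderOf_two_iff {x : G} : orderOf x = 2 ↔ x * x = 1 ∧ x ≠ 1 := by
  rw [orderOf_eq_prime_iff, pow_two]

/-- The conjugates of an element under a subgroup. -/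
theorem ncard_conj_mul [Finite G] (H : Subgroup G) (t : G) :
    ((fun g => g * t * g⁻¹) '' (H : Set G)).ncard * Nat.card ((Subgroup.centralizer {t}).subgroupOf H) =
      Nat.card H := by
  obtain ⟨C, hC⟩ : ∃ C, C = (Subgroup.centralizer {t}).subgroupOf H := ⟨_, rfl⟩
  rw [← hC]
  have hker : ∀ a b : H, (a : G) * t * (a : G)⁻¹ = b * t * (b : G)⁻¹ ↔ a⁻¹ * b ∈ C := by
    intro a b
    rw [hC, Subgroup.mem_subgroupOf, Subgroup.mem_centralizer_singleton_iff, Subgroup.coe_mul, Subgroup.coe_inv]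
    constructor
    · intro e
      calc (a : G)⁻¹ * b * t = (a : G)⁻¹ * (b * t * (b : G)⁻¹) * b := by group
        _ = t * ((a : G)⁻¹ * b) := by rw [← e]; group
    · intro e
      calc (a : G) * t * (a : G)⁻¹ = a * (t * ((a : G)⁻¹ * b)) * (b : G)⁻¹ := by group
        _ = b * t * (b : G)⁻¹ := by rw [← e]; group
  have e : ((fun g => g * t * g⁻¹) '' (H : Set G)).ncard = C.index := by
    rw [← Nat.card_coe_set_eq, Subgroup.index]
    refine (Nat.card_eq_of_bijective (fun q : H ⧸ C => Quotient.liftOn' q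
      (fun a => (⟨(a : G) * t * (a : G)⁻¹, _, a.2, rfl⟩ : (fun g => g * t * g⁻¹) '' (H : Set G)))
      fun a b hab => Subtype.ext ((hker a b).2 (QuotientGroup.leftRel_apply.1 hab))) ⟨?_, ?_⟩).symm
    · intro q r
      induction q using Quotient.inductionOn' with
      | h a =>
        induction r using Quotient.inductionOn' with
        | h b => exact fun e => Quotient.sound' (QuotientGroup.leftRel_apply.2 ((hker a b).1 (congrArg Subtype.val e)))
    · rintro ⟨_, g, hg, rfl⟩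
      exact ⟨Quotient.mk'' ⟨g, hg⟩, rfl⟩
  rw [e, mul_comm, Subgroup.card_mul_index]

/-- A dihedral argument: an element of order three of `H` inverted from outside has an odd centraliser in `H`. -/
theorem not_inverted [Finite G] {H : Subgroup G}
    (hcent : ∀ z ∈ H, orderOf z = 2 → ∀ g : G, g * z = z * g → g ∈ H) {x z u : G} (hz : z ∈ H)
    (hz2 : orderOf z = 2) (hzx : z * x = x * z) (hu2 : orderOf u = 2) (huH : u ∉ H) (hux : u * x * u⁻¹ = x⁻¹)
    (hx : x * x ≠ 1) : False := by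
  obtain ⟨hzz, -⟩ := orderOf_two_iff.1 hz2
  obtain ⟨huu, -⟩ := orderOf_two_iff.1 hu2
  have hzi : z⁻¹ = z := inv_eq_of_mul_eq_one_left hzz
  have hui : u⁻¹ = u := inv_eq_of_mul_eq_one_left huu
  obtain ⟨d, hd⟩ : ∃ d, d = z * u := ⟨_, rfl⟩
  have hflipz : ∀ k : ℕ, z * d ^ k * z⁻¹ = (d ^ k)⁻¹ := fun k => by
    rw [← conj_pow, ← inv_pow]
    congr 1
    rw [hd, _root_.mul_inv_rev, hzi, hui, ← mul_assoc z z, hzz, one_mul]
  have hflipu : ∀ k : ℕ, u * d ^ k * u⁻¹ = (d ^ k)⁻¹ := fun k => by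
    rw [← conj_pow, ← inv_pow]
    congr 1
    rw [hd, _root_.mul_inv_rev, hzi, hui, mul_assoc, mul_assoc z, huu, mul_one]
  rcases Nat.even_or_odd (orderOf d) with ⟨j, hj⟩ | ⟨j, hj⟩
  · have hpos := orderOf_pos d
    have h1 : d ^ j ≠ 1 := fun e => by
      have := Nat.le_of_dvd (by omega) (orderOf_dvd_of_pow_eq_one e); omega
    have hzz' : d ^ j * d ^ j = 1 := by rw [← pow_add, ← hj, pow_orderOf_eq_one]
    have hi : (d ^ j)⁻¹ = d ^ j := inv_eq_of_mul_eq_one_left hzz'
    have h2 := hflipz j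
    rw [hi, mul_inv_eq_iff_eq_mul] at h2
    have h3 := hflipu j
    rw [hi, mul_inv_eq_iff_eq_mul] at h3
    exact huH (hcent _ (hcent z hz hz2 _ h2.symm) (orderOf_two_iff.2 ⟨hzz', h1⟩) u h3)
  · obtain ⟨c, hc⟩ : ∃ c, c = d ^ j := ⟨_, rfl⟩
    have hcz : z * c⁻¹ = c * z := by
      rw [hc, ← hflipz j]
      calc z * (z * d ^ j * z⁻¹) = (z * z) * d ^ j * z⁻¹ := by group
        _ = d ^ j * z := by rw [hzz, one_mul, hzi]
    have hczu : c * z * c⁻¹ = u := by
      rw [mul_assoc, hcz, ← mul_assoc, hc, ← pow_add]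
      have e : d ^ (j + j) = d⁻¹ := eq_inv_of_mul_eq_one_left (by
        rw [← pow_succ, show j + j + 1 = orderOf d by omega, pow_orderOf_eq_one])
      rw [e, hd, _root_.mul_inv_rev, hzi, hui, mul_assoc, hzz, mul_one]
    have hpow : ∀ k : ℕ, d ^ k * x * (d ^ k)⁻¹ = x ∨ d ^ k * x * (d ^ k)⁻¹ = x⁻¹ := by
      intro k
      induction k with
      | zero => exact Or.inl (by simp)
      | succ k ih =>
        have e : d * x * d⁻¹ = x⁻¹ := by
          calc d * x * d⁻¹ = z * (u * x * u⁻¹) * z⁻¹ := by rw [hd]; group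
            _ = x⁻¹ := by rw [hux, show z * x⁻¹ = x⁻¹ * z from (Commute.inv_right hzx).eq, mul_inv_cancel_right]
        rw [pow_succ', show d * d ^ k * x * (d * d ^ k)⁻¹ = d * (d ^ k * x * (d ^ k)⁻¹) * d⁻¹ by group]
        rcases ih with h | h <;> rw [h]
        · exact Or.inr e
        · refine Or.inl ?_
          rw [← conj_inv, e, inv_inv]
    have hcomm : Commute u (c * x * c⁻¹) := by
      rw [← hczu]
      show c * z * c⁻¹ * (c * x * c⁻¹) = c * x * c⁻¹ * (c * z * c⁻¹)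
      calc c * z * c⁻¹ * (c * x * c⁻¹) = c * (z * x) * c⁻¹ := by group
        _ = c * x * c⁻¹ * (c * z * c⁻¹) := by rw [hzx]; group
    have hux' : Commute u x := by
      rcases hpow j with h | h <;> rw [← hc] at h <;> rw [h] at hcomm
      · exact hcomm
      · simpa using hcomm.inv_right
    rw [hux'.eq, mul_inv_cancel_right] at hux
    exact hx (by nth_rw 2 [hux]; rw [mul_inv_cancel])

/-- An odd subgroup normalised by an involution that inverts no element of order three has few inverted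
elements. -/
theorem ncard_inverted_le [Finite G] {X : Subgroup G} {u : G} (hu2 : orderOf u = 2)
    (hX : ∀ y ∈ X, u * y * u⁻¹ ∈ X) (hodd : ¬ 2 ∣ Nat.card X) (hdvd : Nat.card X ∣ 2 ^ 7 * 3 ^ 6 * 9625)
    (h3 : ∀ x ∈ X, orderOf x = 3 → u * x * u⁻¹ ≠ x⁻¹) :
    {y : G | y ∈ X ∧ u * y * u⁻¹ = y⁻¹}.ncard ≤ 9625 := by
  classical
  haveI : Fact (Nat.Prime 3) := ⟨Nat.prime_three⟩
  obtain ⟨huu, -⟩ := orderOf_two_iff.1 hu2
  have hui : u⁻¹ = u := inv_eq_of_mul_eq_one_left huu
  let φ : X →* X := MonoidHom.mk' (fun y => ⟨u * y.1 * u⁻¹, hX y y.2⟩) fun a b =>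
    Subtype.ext (by simp [mul_assoc])
  have hφφ : ∀ y, φ (φ y) = y := fun y => Subtype.ext (by
    show u * (u * y.1 * u⁻¹) * u⁻¹ = y.1
    calc u * (u * y.1 * u⁻¹) * u⁻¹ = (u * u) * y.1 * (u * u)⁻¹ := by group
      _ = y.1 := by rw [huu, one_mul, inv_one, mul_one])
  have hsurj : Function.Surjective φ := fun y => ⟨φ y, hφφ y⟩
  haveI : Fintype (Sylow 3 X) := Fintype.ofFinite _
  obtain ⟨P, hP⟩ : ∃ P : Sylow 3 X, P.mapSurjective hsurj = P := by
    let f : Equiv.Perm (Sylow 3 X) := Function.Involutive.toPerm (fun P => P.mapSurjective hsurj) fun P =>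
      Sylow.ext (by
        show ((P : Subgroup X).map φ).map φ = P
        rw [Subgroup.map_map, show φ.comp φ = MonoidHom.id X from MonoidHom.ext hφφ, Subgroup.map_id])
    have hf : f ^ 2 ^ 1 = 1 := Equiv.ext fun P => by
      rw [pow_one, pow_two]
      exact Function.Involutive.toPerm_involutive _ P
    have hodd' : ¬ 2 ∣ Nat.card (Sylow 3 X) := fun h => by
      obtain ⟨P⟩ : Nonempty (Sylow 3 X) := inferInstance
      exact hodd ((h.trans (P.card_dvd_index)).trans (Subgroup.index_dvd_card _))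
    haveI : Fact (Nat.Prime 2) := ⟨Nat.prime_two⟩
    obtain ⟨P, hP⟩ := f.exists_fixed_point_of_prime (n := 1) (by rwa [← Nat.card_eq_fintype_card]) hf
    exact ⟨P, hP⟩
  obtain ⟨C, hC⟩ : ∃ C, C = (Subgroup.centralizer {u}).subgroupOf X := ⟨_, rfl⟩
  have hPC : (P : Subgroup X) ≤ C := by
    intro p hp
    have hφp : φ p ∈ (P : Subgroup X) := by
      rw [← hP]; exact ⟨p, hp, rfl⟩
    obtain ⟨q, hq⟩ : ∃ q, q = p⁻¹ * φ p := ⟨_, rfl⟩
    have hqP : q ∈ (P : Subgroup X) := hq ▸ mul_mem (inv_mem hp) hφp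
    have hφq : φ q = q⁻¹ := by rw [hq, map_mul, map_inv, hφφ, _root_.mul_inv_rev, inv_inv]
    suffices hq1 : q = 1 by
      rw [hC, Subgroup.mem_subgroupOf, Subgroup.mem_centralizer_singleton_iff]
      have e := congrArg Subtype.val (inv_mul_eq_one.1 (hq.symm.trans hq1))
      change (p : G) = u * p * u⁻¹ at e
      calc (p : G) * u = u * p * u⁻¹ * u := by rw [← e]
        _ = u * p := inv_mul_cancel_right _ _
    by_contra hq1
    obtain ⟨k, hk⟩ := IsPGroup.iff_orderOf.1 P.isPGroup' ⟨q, hqP⟩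
    rw [Subgroup.orderOf_mk] at hk
    have hk0 : k ≠ 0 := fun e => hq1 (orderOf_eq_one_iff.1 (by rw [hk, e, pow_zero]))
    obtain ⟨r, hr⟩ : ∃ r, r = q ^ 3 ^ (k - 1) := ⟨_, rfl⟩
    have hr3 : orderOf r = 3 := by
      rw [hr, orderOf_pow' _ (pow_ne_zero _ (by norm_num)), hk,
        Nat.gcd_eq_right (pow_dvd_pow 3 (Nat.sub_le k 1)), Nat.pow_div (Nat.sub_le k 1) (by norm_num),
        show k - (k - 1) = 1 by omega, pow_one]
    refine h3 r r.2 (by rw [Subgroup.orderOf_coe, hr3]) ?_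
    have e : φ r = r⁻¹ := by rw [hr, map_pow, hφq, inv_pow]
    exact congrArg Subtype.val e
  have hidx : C.index ≤ 9625 := by
    have hd := (Subgroup.index_dvd_card C).trans hdvd
    have h2 : Nat.Coprime C.index 2 := (Nat.prime_two.coprime_iff_not_dvd.2 fun h =>
      hodd (h.trans (Subgroup.index_dvd_card C))).symm
    have h3' : Nat.Coprime C.index 3 := (Nat.prime_three.coprime_iff_not_dvd.2 fun h =>
      P.not_dvd_index (h.trans (Subgroup.index_dvd_of_le hPC))).symm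
    exact Nat.le_of_dvd (by norm_num) (((h2.pow_right 7).mul_right (h3'.pow_right 6)).dvd_of_dvd_mul_left hd)
  refine le_trans ?_ hidx
  rw [← Nat.card_coe_set_eq, Subgroup.index]
  refine Nat.card_le_card_of_surjective
    (fun q : X ⧸ C => Quotient.liftOn' q (fun a => (⟨(a : G) * u * (a : G)⁻¹ * u⁻¹, ?_, ?_⟩ :
      {y : G | y ∈ X ∧ u * y * u⁻¹ = y⁻¹})) ?_) ?_
  · rw [mul_assoc, mul_assoc, show u * ((a : G)⁻¹ * u⁻¹) = u * (a : G)⁻¹ * u⁻¹ by group, ← conj_inv]
    exact mul_mem a.2 (inv_mem (hX a a.2))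
  · calc u * ((a : G) * u * (a : G)⁻¹ * u⁻¹) * u⁻¹ = u * a * u * (a : G)⁻¹ * (u⁻¹ * u⁻¹) := by group
      _ = u * a * u⁻¹ * (a : G)⁻¹ := by rw [hui, huu, mul_one]
      _ = ((a : G) * u * (a : G)⁻¹ * u⁻¹)⁻¹ := by group
  · intro a b hab
    rw [QuotientGroup.leftRel_apply, hC, Subgroup.mem_subgroupOf, Subgroup.mem_centralizer_singleton_iff,
      Subgroup.coe_mul, Subgroup.coe_inv] at hab
    refine Subtype.ext ?_
    show (a : G) * u * (a : G)⁻¹ * u⁻¹ = (b : G) * u * (b : G)⁻¹ * u⁻¹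
    congr 1
    calc (a : G) * u * (a : G)⁻¹ = a * (u * ((a : G)⁻¹ * b)) * (b : G)⁻¹ := by group
      _ = b * u * (b : G)⁻¹ := by rw [← hab]; group
  · rintro ⟨y, hy, hyu⟩
    obtain ⟨m, hm⟩ : ∃ m, orderOf y = 2 * m + 1 := by
      have : orderOf y ∣ Nat.card X := by
        rw [← Subgroup.orderOf_mk y hy]; exact orderOf_dvd_natCard _
      refine ⟨orderOf y / 2, ?_⟩
      have : ¬ 2 ∣ orderOf y := fun h => hodd (h.trans this)
      omega
    obtain ⟨s, hs⟩ : ∃ s, s = y ^ (m + 1) := ⟨_, rfl⟩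
    have hss : s * s = y := by
      rw [hs, ← pow_add, show m + 1 + (m + 1) = orderOf y + 1 by omega, pow_succ, pow_orderOf_eq_one, one_mul]
    have hsu : u * s⁻¹ * u⁻¹ = s := by
      rw [← conj_inv, hs, ← conj_pow, hyu, inv_pow, inv_inv]
    refine ⟨Quotient.mk'' ⟨s, hs ▸ pow_mem hy _⟩, Subtype.ext ?_⟩
    show s * u * s⁻¹ * u⁻¹ = y
    rw [mul_assoc, mul_assoc, ← mul_assoc u, hsu, hss]

/-- The endgame. -/
theorem eq_top_of_embedded [Finite G] (G0 : Subgroup G) (t : G) (ht : orderOf t = 2)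
    (hC : Subgroup.centralizer ({t} : Set G) ≤ G0)
    (cardC : Nat.card (Subgroup.centralizer ({t} : Set G)) = 40320)
    (hone : ∀ x ∈ G0, orderOf x = 2 → ∃ g ∈ G0, g * t * g⁻¹ = x) (cardG0 : Nat.card G0 = 898128000)
    (h3 : ∀ x ∈ G0, orderOf x = 3 → ∃ z ∈ G0, orderOf z = 2 ∧ z * x = x * z) : G0 = ⊤ := by
  classical
  haveI : Fact (Nat.Prime 2) := ⟨Nat.prime_two⟩
  haveI : Fintype G := Fintype.ofFinite G
  have hcent : ∀ z ∈ G0, orderOf z = 2 → ∀ g : G, g * z = z * g → g ∈ G0 := by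
    intro z hz hz2 g hg
    obtain ⟨h, hh, rfl⟩ := hone z hz hz2
    have : h⁻¹ * g * h ∈ G0 := hC (Subgroup.mem_centralizer_singleton_iff.2 (by
      calc h⁻¹ * g * h * t = h⁻¹ * (g * (h * t * h⁻¹)) * h := by group
        _ = t * (h⁻¹ * g * h) := by rw [hg]; group))
    have := G0.mul_mem (G0.mul_mem hh this) (G0.inv_mem hh)
    rwa [show h * (h⁻¹ * g * h) * h⁻¹ = g by group] at this
  by_contra htop
  obtain ⟨K, hK⟩ : ∃ K : Finset G, ∀ x, x ∈ K ↔ ∃ g : G, g * t * g⁻¹ = x :=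
    ⟨Finset.univ.image fun g => g * t * g⁻¹, fun x => by simp⟩
  have horder : ∀ x ∈ K, orderOf x = 2 := fun x hx => by
    obtain ⟨g, rfl⟩ := (hK x).1 hx
    rw [← MulAut.conj_apply, MulEquiv.orderOf_eq, ht]
  have hmul : ∀ H : Subgroup G, Subgroup.centralizer ({t} : Set G) ≤ H →
      ((fun g => g * t * g⁻¹) '' (H : Set G)).ncard * 40320 = Nat.card H := fun H hH => by
    have := ncard_conj_mul H t
    rwa [Nat.card_congr (Subgroup.subgroupOfEquivOfLe hH).toEquiv, cardC] at this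
  haveI : Fintype (G ⧸ G0) := Fintype.ofFinite _
  have hKcard : K.card = Fintype.card (G ⧸ G0) * 22275 := by
    have h := hmul ⊤ le_top
    rw [Subgroup.card_top, Subgroup.card_eq_card_quotient_mul_card_subgroup G0, cardG0,
      Nat.card_eq_fintype_card] at h
    have e : ((fun g => g * t * g⁻¹) '' ((⊤ : Subgroup G) : Set G)).ncard = K.card := by
      rw [← Set.ncard_coe_finset]
      congr 1
      ext x
      simp [hK]
    rw [e] at h
    omega
  have hone' : (K.filter fun x : G => (x : G ⧸ G0) = ((1 : G) : G ⧸ G0)).card ≤ 22275 := by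
    have h := hmul G0 hC
    rw [cardG0] at h
    rw [← Set.ncard_coe_finset]
    refine le_trans (Set.ncard_le_ncard ?_ (Set.toFinite _))
      (show ((fun g => g * t * g⁻¹) '' (G0 : Set G)).ncard ≤ 22275 by omega)
    intro x hx
    rw [Finset.coe_filter] at hx
    obtain ⟨hxK, hx⟩ := hx
    rw [QuotientGroup.eq, mul_one] at hx
    obtain ⟨g, hg, e⟩ := hone x (by simpa using G0.inv_mem hx) (horder x hxK)
    exact ⟨g, hg, e⟩
  obtain ⟨q, hq1, hq⟩ : ∃ q : G ⧸ G0, q ≠ ((1 : G) : G ⧸ G0) ∧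
      22275 ≤ (K.filter fun x : G => (x : G ⧸ G0) = q).card := by
    by_contra hno
    push Not at hno
    obtain ⟨g, hg⟩ : ∃ g : G, g ∉ G0 := by
      by_contra hh
      push Not at hh
      exact htop (eq_top_iff.2 fun g _ => hh g)
    have hlt : ∑ q : G ⧸ G0, (K.filter fun x : G => (x : G ⧸ G0) = q).card < ∑ _q : G ⧸ G0, 22275 := by
      refine Finset.sum_lt_sum (fun q _ => ?_) ⟨(g : G ⧸ G0), Finset.mem_univ _, hno _ fun e => hg ?_⟩
      · rcases eq_or_ne q ((1 : G) : G ⧸ G0) with rfl | hne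
        · exact hone'
        · exact (hno q hne).le
      · rw [QuotientGroup.eq, mul_one] at e
        simpa using G0.inv_mem e
    rw [← Finset.card_eq_sum_card_fiberwise fun x _ => Finset.mem_univ _, hKcard, Finset.sum_const,
      Finset.card_univ, smul_eq_mul] at hlt
    exact lt_irrefl _ hlt
  obtain ⟨u, hu⟩ := Finset.card_pos.1 (lt_of_lt_of_le (by norm_num) hq)
  rw [Finset.mem_filter] at hu
  obtain ⟨huK, rfl⟩ := hu
  have hu2 := horder u huK
  obtain ⟨huu, -⟩ := orderOf_two_iff.1 hu2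
  have hui : u⁻¹ = u := inv_eq_of_mul_eq_one_left huu
  have huG : u ∉ G0 := fun h => hq1 (by rw [QuotientGroup.eq, mul_one]; exact G0.inv_mem h)
  obtain ⟨X, hX⟩ : ∃ X, X = G0 ⊓ G0.comap (MulAut.conj u).toMonoidHom := ⟨_, rfl⟩
  have hmemX : ∀ {y}, y ∈ X ↔ y ∈ G0 ∧ u * y * u⁻¹ ∈ G0 := fun {y} => by rw [hX]; rfl
  have hXu : ∀ y ∈ X, u * y * u⁻¹ ∈ X := fun y hy => hmemX.2 ⟨(hmemX.1 hy).2, by
    rw [show u * (u * y * u⁻¹) * u⁻¹ = (u * u) * y * (u * u)⁻¹ by group, huu]
    simpa using (hmemX.1 hy).1⟩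
  have hodd : ¬ 2 ∣ Nat.card X := by
    intro h2
    let T := {y : X // y * y = 1}
    haveI : Fintype T := Fintype.ofFinite _
    haveI : Fintype X := Fintype.ofFinite _
    let iv : Equiv.Perm X := Equiv.inv X
    have hiv : iv ^ 2 ^ 1 = 1 := Equiv.ext fun y => by simp [pow_two, iv]
    have h1 := Equiv.Perm.card_compl_support_modEq hiv
    have hfix : iv.supportᶜ.card = Fintype.card T := by
      rw [← Fintype.card_coe]
      rw [← Nat.card_eq_fintype_card, ← Nat.card_eq_fintype_card]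
      exact Nat.card_congr (Equiv.subtypeEquivRight fun y => by
        simp [iv, Equiv.Perm.mem_support, inv_eq_iff_mul_eq_one])
    let c : Equiv.Perm T := Function.Involutive.toPerm (fun y => ⟨⟨u * y.1.1 * u⁻¹, hXu _ y.1.2⟩, by
        have e := congrArg Subtype.val y.2
        rw [Subgroup.coe_mul, Subgroup.coe_one] at e
        refine Subtype.ext ?_
        show u * y.1.1 * u⁻¹ * (u * y.1.1 * u⁻¹) = 1
        rw [show u * y.1.1 * u⁻¹ * (u * y.1.1 * u⁻¹) = u * (y.1.1 * y.1.1) * u⁻¹ by group, e, mul_one,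
          mul_inv_cancel]⟩) fun y => Subtype.ext (Subtype.ext (by
        show u * (u * y.1.1 * u⁻¹) * u⁻¹ = y.1.1
        calc u * (u * y.1.1 * u⁻¹) * u⁻¹ = (u * u) * y.1.1 * (u * u)⁻¹ := by group
          _ = y.1.1 := by rw [huu, one_mul, inv_one, mul_one]))
    have hc : c ^ 2 ^ 1 = 1 := Equiv.ext fun y => by
      rw [pow_one, pow_two]
      exact Function.Involutive.toPerm_involutive _ y
    have honly : ∀ y : T, c y = y → y = ⟨1, by simp⟩ := by
      intro y hy
      by_contra hne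
      have e := congrArg (fun y : T => y.1.1) hy
      change u * y.1.1 * u⁻¹ = y.1.1 at e
      refine huG (hcent y.1.1 (hmemX.1 y.1.2).1 (orderOf_two_iff.2
        ⟨congrArg Subtype.val y.2, fun e' => hne (Subtype.ext (Subtype.ext e'))⟩) u ?_)
      exact mul_inv_eq_iff_eq_mul.1 e
    have h3' := Equiv.Perm.card_compl_support_modEq hc
    have hone1 : c.supportᶜ.card = 1 := by
      rw [← Fintype.card_coe, Fintype.card_eq_one_iff]
      refine ⟨⟨⟨1, by simp⟩, ?_⟩, fun y => ?_⟩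
      · simp only [Finset.mem_compl, Equiv.Perm.notMem_support]
        exact Subtype.ext (Subtype.ext (show u * 1 * u⁻¹ = 1 by simp))
      · exact Subtype.ext (honly y.1 (Equiv.Perm.notMem_support.1 (Finset.mem_compl.1 y.2)))
    rw [Nat.card_eq_fintype_card] at h2
    unfold Nat.ModEq at h1 h3'
    omega
  have hdvd : Nat.card X ∣ 2 ^ 7 * 3 ^ 6 * 9625 := by
    have := Subgroup.card_dvd_of_le (show X ≤ G0 from fun y hy => (hmemX.1 hy).1)
    rw [cardG0] at this
    simpa using this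
  have hle := ncard_inverted_le hu2 hXu hodd hdvd fun x hx hx3 hux => by
    obtain ⟨z, hz, hz2, hzx⟩ := h3 x (hmemX.1 hx).1 hx3
    exact not_inverted hcent hz hz2 hzx hu2 huG hux fun e => by
      have := orderOf_dvd_of_pow_eq_one (show x ^ 2 = 1 by rw [pow_two, e])
      rw [hx3] at this
      exact absurd this (by norm_num)
  have hbig : (K.filter fun x : G => (x : G ⧸ G0) = (u : G ⧸ G0)).card ≤
      {y : G | y ∈ X ∧ u * y * u⁻¹ = y⁻¹}.ncard := by
    rw [← Set.ncard_coe_finset]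
    refine Set.ncard_le_ncard_of_injOn (fun x => u * x) (fun x hx => ?_) (mul_right_injective u).injOn
      (Set.toFinite _)
    rw [Finset.coe_filter] at hx
    obtain ⟨hxK, hx⟩ := hx
    have hxi : x⁻¹ = x := inv_eq_of_mul_eq_one_left (orderOf_two_iff.1 (horder x hxK)).1
    have hinv : u * (u * x) * u⁻¹ = (u * x)⁻¹ := by
      rw [_root_.mul_inv_rev, hxi, hui, ← mul_assoc u u, huu, one_mul]
    have hmem : u * x ∈ G0 := by
      have := QuotientGroup.eq.1 hx.symm
      rwa [hui] at this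
    exact ⟨hmemX.2 ⟨hmem, hinv ▸ G0.inv_mem hmem⟩, hinv⟩
  omega

end CfsgLib.Recog.McLInv
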