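import Cfsg.Agent.Lib.Recog.McLInv.Perms
import Cfsg.Agent.Lib.Recog.QSThree.AltPerm
import Cfsg.Agent.Lib.InvChar.DoubleCoverUtil
import Cfsg.Agent.Lib.KnownA.McLInvol.Main

/-!
Every non-split double cover of the alternating group of degree 8 is the group generated by the first
seven letters, with the central involution matching.
-/

set_option autoImplicit false
set_option maxRecDepth 100000
set_option Elab.async false

namespace CfsgLib.Recog.McLInv

open CfsgLib.InvChar.Coset

/-- A lift of a three cycle. -/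
noncomputable def y0 (i : Fin 6) : C0 := el (yW.getD i [])

theorem y_checks : ((List.range 6).all fun i =>
    eqC (yW.getD i [] ++ yW.getD i [] ++ yW.getD i []) [] &&
    (List.range 6).all fun j => Nat.beq i j ||
      eqC (yW.getD i [] ++ yW.getD j [] ++ (yW.getD i [] ++ yW.getD j [])) tW) = true := by
  decide +kernel

theorem letter_checks : ((List.range 7).all fun k =>
    ltW 6 (yLetters.getD k []) &&
      eqC ((yLetters.getD k []).flatMap fun i => yW.getD i []) [k]) = true := by
  decide +kernel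

theorem t0_checks : eqC (tW ++ tW) [] = true ∧ neC tW [] = true ∧
    ((List.range 7).all fun x => eqC (x :: tW) (tW ++ [x])) = true := by decide +kernel

theorem y0_pow (i : Fin 6) : y0 i ^ 3 = 1 := by
  have h := List.all_eq_true.1 y_checks i (List.mem_range.2 i.2)
  rw [Bool.and_eq_true] at h
  have e := eqC_sound h.1
  rw [el_append, el_append, el_nil] at e
  rw [pow_succ, pow_two]; exact e

theorem y0_pair {i j : Fin 6} (hij : i ≠ j) : y0 i * y0 j * (y0 i * y0 j) = t0 := by
  have h := List.all_eq_true.1 y_checks i (List.mem_range.2 i.2)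
  rw [Bool.and_eq_true, List.all_eq_true] at h
  have h2 := h.2 j (List.mem_range.2 j.2)
  rw [Bool.or_eq_true] at h2
  rcases h2 with h2 | h2
  · exact absurd (Fin.ext (Nat.eq_of_beq_eq_true h2)) hij
  · have e := eqC_sound h2
    rw [el_append, el_append] at e
    exact e

theorem closure_y0 : Subgroup.closure (Set.range y0) = ⊤ := by
  rw [eq_top_iff, ← closure_cl, Subgroup.closure_le]
  rintro _ ⟨k, hk, rfl⟩
  have h := List.all_eq_true.1 letter_checks k (List.mem_range.2 hk)
  rw [Bool.and_eq_true] at h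
  have e := eqC_sound h.2
  rw [el_singleton] at e
  exact e ▸ el_mem_closure (n := 6) (ltW_spec h.1)

theorem t0_sq : t0 * t0 = 1 := by
  rw [t0, ← el_append, eqC_sound t0_checks.1, el_nil]

theorem t0_ne : t0 ≠ 1 := neC_sound t0_checks.2.1

theorem t0_comm (c : C0) : c * t0 = t0 * c := by
  refine Subgroup.mem_center_iff.1 (mem_center_of_letters fun x hx => ?_) c
  have e := eqC_sound (List.all_eq_true.1 t0_checks.2.2 x (List.mem_range.2 hx))
  rw [el_append, ← List.singleton_append, el_append, el_singleton] at e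
  exact e

section Iso

variable {H : Type*} [Group H] [Finite H]

theorem center_eq {th : H} (hth : th ∈ Subgroup.center H) (hne : th ≠ 1)
    (hc : Nat.card (Subgroup.center H) = 2) {z : H} (hz : z ∈ Subgroup.center H) : z = 1 ∨ z = th := by
  rcases eq_or_ne z 1 with h | h
  · exact Or.inl h
  · obtain ⟨u, -, huniq⟩ := (Nat.card_eq_two_iff' (1 : Subgroup.center H)).1 hc
    have e1 : (⟨z, hz⟩ : Subgroup.center H) = u := huniq _ fun e => h (congrArg Subtype.val e)
    have e2 : (⟨th, hth⟩ : Subgroup.center H) = u := huniq _ fun e => hne (congrArg Subtype.val e)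
    exact Or.inr (congrArg Subtype.val (e1.trans e2.symm))

/-- A normal subgroup is central or everything. -/
theorem normal_cases {th : H} (hth : th ∈ Subgroup.center H) (hne : th ≠ 1)
    (hcov : Cfsg.IsNonsplitDoubleCover H (alternatingGroup (Fin 8))) (N : Subgroup H) [hN : N.Normal] :
    N ≤ Subgroup.center H ∨ N = ⊤ := by
  obtain ⟨hc, ⟨q⟩, hs⟩ := hcov
  haveI : IsSimpleGroup (alternatingGroup (Fin 8)) := alternatingGroup.isSimpleGroup (by simp)
  let π : H →* alternatingGroup (Fin 8) := q.toMonoidHom.comp (QuotientGroup.mk' (Subgroup.center H))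
  have hπ : Function.Surjective π := q.surjective.comp (QuotientGroup.mk'_surjective _)
  have hker : π.ker = Subgroup.center H := by
    ext z
    show q (QuotientGroup.mk' _ z) = 1 ↔ _
    rw [q.map_eq_one_iff]
    exact QuotientGroup.eq_one_iff _
  haveI : (N.map π).Normal := hN.map π hπ
  rcases (inferInstance : (N.map π).Normal).eq_bot_or_eq_top with h | h
  · exact Or.inl (hker ▸ (Subgroup.map_eq_bot_iff N).1 h)
  · refine Or.inr (eq_top_iff.2 fun x _ => ?_)
    have hdec : ∀ x : H, ∃ n ∈ N, n⁻¹ * x ∈ Subgroup.center H := fun x => by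
      obtain ⟨n, hn, e⟩ : π x ∈ N.map π := h ▸ Subgroup.mem_top _
      exact ⟨n, hn, by rw [← hker, MonoidHom.mem_ker, map_mul, map_inv, e, inv_mul_cancel]⟩
    have htN : th ∈ N := by
      by_contra hth'
      refine hs N (Subgroup.isComplement'_of_disjoint_and_mul_eq_univ ?_ (Set.eq_univ_of_forall fun x => ?_))
      · rw [disjoint_iff, eq_bot_iff]
        rintro z ⟨hz, hzN⟩
        rcases center_eq hth hne hc hz with rfl | rfl
        · exact one_mem _
        · exact absurd hzN hth'
      · obtain ⟨n, hn, hz⟩ := hdec x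
        refine ⟨n⁻¹ * x, hz, n, hn, ?_⟩
        show n⁻¹ * x * n = x
        rw [← Subgroup.mem_center_iff.1 hz n, mul_inv_cancel_left]
    obtain ⟨n, hn, hz⟩ := hdec x
    rcases center_eq hth hne hc hz with e | e <;> rw [inv_mul_eq_iff_eq_mul] at e <;> rw [e]
    · rwa [mul_one]
    · exact mul_mem hn htN

/-- **Uniqueness of the double cover.** -/
theorem exists_equiv (th : H) (hth : th ∈ Subgroup.center H) (hne : th ≠ 1)
    (hcov : Cfsg.IsNonsplitDoubleCover H (alternatingGroup (Fin 8))) :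
    ∃ e : C0 ≃* H, e t0 = th := by
  have hcov' := hcov
  obtain ⟨hc, ⟨q⟩, hs⟩ := hcov'
  haveI : Nontrivial (Fin 8) := inferInstance
  let π : H →* alternatingGroup (Fin 8) := q.toMonoidHom.comp (QuotientGroup.mk' (Subgroup.center H))
  have hπ : Function.Surjective π := q.surjective.comp (QuotientGroup.mk'_surjective _)
  have hker : ∀ z, π z = 1 → z = 1 ∨ z = th := fun z hz => center_eq hth hne hc (by
    have h' : q (QuotientGroup.mk' _ z) = 1 := hz
    rw [q.map_eq_one_iff] at h'
    exact (QuotientGroup.eq_one_iff _).1 h')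
  have hπt : π th = 1 := by
    show q (QuotientGroup.mk' _ th) = 1
    rw [q.map_eq_one_iff]
    exact (QuotientGroup.eq_one_iff _).2 hth
  have hth2 : th * th = 1 := by
    have := pow_card_eq_one' (x := (⟨th, hth⟩ : Subgroup.center H))
    rw [hc, pow_two] at this
    exact congrArg Subtype.val this
  have hcomm : ∀ x, x * th = th * x := fun x => Subgroup.mem_center_iff.1 hth x
  -- lifts of order three are unique
  obtain ⟨g8pow, g8pair⟩ := CfsgLib.Recog.QSThree.Alt.g8_rel
  have huniq : ∀ u v : H, u ^ 3 = 1 → v ^ 3 = 1 → π u = π v → u = v := fun u v hu hv e => by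
    rcases hker (u⁻¹ * v) (by rw [map_mul, map_inv, e, inv_mul_cancel]) with h | h
    · exact inv_mul_eq_one.1 h
    · exfalso
      rw [inv_mul_eq_iff_eq_mul] at h
      rw [h, (Commute.mul_pow (hcomm u) 3), hu, one_mul, pow_succ, pow_two, hth2, one_mul] at hv
      exact hne hv
  have hlift : ∀ g : alternatingGroup (Fin 8), g ^ 3 = 1 → ∃ x : H, x ^ 3 = 1 ∧ π x = g := fun g hg => by
    obtain ⟨y, rfl⟩ := hπ g
    have hy : (y ^ 3) * (y ^ 3) = 1 := by
      rcases hker (y ^ 3) (by rw [map_pow, hg]) with h | h <;> rw [h]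
      · rw [one_mul]
      · exact hth2
    refine ⟨y ^ 4, ?_, ?_⟩
    · rw [← pow_mul, show 4 * 3 = 3 + 3 + (3 + 3) from rfl, pow_add, pow_add, hy, one_mul]
    · rw [map_pow, pow_succ, hg, one_mul]
  choose x hx3 hxπ using fun i => hlift _ (g8pow i)
  have hz : ∀ i j, i ≠ j → x i * x j * (x i * x j) = 1 ∨ x i * x j * (x i * x j) = th := fun i j hij =>
    hker _ (by rw [map_mul, map_mul, hxπ, hxπ, g8pair i j hij])
  -- the value does not depend on the pair
  have hinv : ∀ i j, i ≠ j → x i * x j * (x i * x j) = 1 → x j * x i * (x j * x i) = 1 := fun i j _ h => by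
    have : x j * x i * (x j * x i) = (x i)⁻¹ * (x i * x j * (x i * x j)) * x i := by group
    rw [this, h, mul_one, inv_mul_cancel]
  have hmove : ∀ (p : alternatingGroup (Fin 8)) (i j i' j' : Fin 6), i ≠ j →
      p * CfsgLib.Recog.QSThree.Alt.g8 i * p⁻¹ = CfsgLib.Recog.QSThree.Alt.g8 i' →
      p * CfsgLib.Recog.QSThree.Alt.g8 j * p⁻¹ = CfsgLib.Recog.QSThree.Alt.g8 j' →
      x i' * x j' * (x i' * x j') = x i * x j * (x i * x j) := by
    intro p i j i' j' hij hi hj
    obtain ⟨y, rfl⟩ := hπ p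
    have ei : y * x i * y⁻¹ = x i' := huniq _ _ (by rw [conj_pow, hx3, mul_one, mul_inv_cancel])
      (hx3 _) (by rw [map_mul, map_mul, map_inv, hxπ, hxπ, hi])
    have ej : y * x j * y⁻¹ = x j' := huniq _ _ (by rw [conj_pow, hx3, mul_one, mul_inv_cancel])
      (hx3 _) (by rw [map_mul, map_mul, map_inv, hxπ, hxπ, hj])
    rw [← ei, ← ej, show y * x i * y⁻¹ * (y * x j * y⁻¹) * (y * x i * y⁻¹ * (y * x j * y⁻¹)) =
      y * (x i * x j * (x i * x j)) * y⁻¹ by group]
    rcases hz i j hij with h | h <;> rw [h]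
    · rw [mul_one, mul_inv_cancel]
    · rw [hcomm, mul_inv_cancel_right]
  have hconst : ∀ i j i' j' : Fin 6, i ≠ j → i' ≠ j' → x i * x j * (x i * x j) = 1 →
      x i' * x j' * (x i' * x j') = 1 := by
    have step : ∀ i j i' j' : Fin 6, i ≠ j → i' ≠ j' →
        ∃ p : alternatingGroup (Fin 8), (p * CfsgLib.Recog.QSThree.Alt.g8 i * p⁻¹ =
            CfsgLib.Recog.QSThree.Alt.g8 i' ∧
          p * CfsgLib.Recog.QSThree.Alt.g8 j * p⁻¹ = CfsgLib.Recog.QSThree.Alt.g8 j') ∨
          (p * CfsgLib.Recog.QSThree.Alt.g8 i * p⁻¹ = CfsgLib.Recog.QSThree.Alt.g8 j' ∧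
            p * CfsgLib.Recog.QSThree.Alt.g8 j * p⁻¹ = CfsgLib.Recog.QSThree.Alt.g8 i') := by
      intro i j i' j' hij hij'
      let c : Fin 6 → Fin 8 := fun k => ⟨k, by omega⟩
      let π₁ : Equiv.Perm (Fin 8) := Equiv.swap (c i) (c i')
      let π₂ : Equiv.Perm (Fin 8) := Equiv.swap (π₁ (c j)) (c j')
      have hc8 : ∀ k, ((CfsgLib.Recog.QSThree.Alt.g8 k : alternatingGroup (Fin 8)) : Equiv.Perm (Fin 8)) =
          CfsgLib.Clifford.AltSchur.c3 6 7 (c k) := fun k => by
        show CfsgLib.Clifford.AltSchur.c3 6 7 (![0, 1, 2, 3, 4, 5] k) = _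
        congr 1
        fin_cases k <;> rfl
      have h6 : ∀ k, (6 : Fin 8) ≠ c k ∧ (7 : Fin 8) ≠ c k := fun k => by
        have := k.2
        constructor <;> intro e <;> have e' := congrArg Fin.val e <;> simp [c] at e' <;> omega
      have fix : ∀ u : Fin 8, (∀ k, u ≠ c k) → π₂ (π₁ u) = u := fun u hu => by
        have h1 : π₁ u = u := Equiv.swap_apply_of_ne_of_ne (hu _) (hu _)
        rw [h1]
        refine Equiv.swap_apply_of_ne_of_ne (fun e => hu j (π₁.injective (h1.trans e))) (hu _)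
      have cinj : Function.Injective c := fun u v e => Fin.ext (congrArg (fun z : Fin 8 => (z : ℕ)) e)
      have ei : π₂ (π₁ (c i)) = c i' := by
        rw [show π₁ (c i) = c i' from Equiv.swap_apply_left _ _]
        refine Equiv.swap_apply_of_ne_of_ne (fun e => ?_) fun e => hij' (cinj e)
        rw [show c i' = π₁ (c i) from (Equiv.swap_apply_left _ _).symm] at e
        exact hij (cinj (π₁.injective e))
      have ej : π₂ (π₁ (c j)) = c j' := Equiv.swap_apply_left _ _
      have key : ∀ σ : Equiv.Perm (Fin 8), ∀ hσ : σ ∈ alternatingGroup (Fin 8), σ 6 = 6 → σ 7 = 7 →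
          ∀ k k', σ (c k) = c k' → (⟨σ, hσ⟩ : alternatingGroup (Fin 8)) *
            CfsgLib.Recog.QSThree.Alt.g8 k * (⟨σ, hσ⟩)⁻¹ = CfsgLib.Recog.QSThree.Alt.g8 k' := by
        intro σ hσ s6 s7 k k' hk
        refine Subtype.ext ?_
        show σ * (CfsgLib.Recog.QSThree.Alt.g8 k : Equiv.Perm (Fin 8)) * σ⁻¹ = _
        rw [hc8, hc8]
        rw [CfsgLib.Clifford.AltSchur.c3_conj, s6, s7, hk]
      have f6 := fix 6 fun k => (h6 k).1
      have f7 := fix 7 fun k => (h6 k).2
      rcases Int.units_eq_one_or (Equiv.Perm.sign (π₂ * π₁)) with hs' | hs'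
      · have hm : π₂ * π₁ ∈ alternatingGroup (Fin 8) := Equiv.Perm.mem_alternatingGroup.2 hs'
        exact ⟨⟨_, hm⟩, Or.inl ⟨key _ hm f6 f7 i i' ei, key _ hm f6 f7 j j' ej⟩⟩
      · have hm : Equiv.swap (c i') (c j') * (π₂ * π₁) ∈ alternatingGroup (Fin 8) := by
          rw [Equiv.Perm.mem_alternatingGroup, map_mul, Equiv.Perm.sign_swap (fun e => hij' (cinj e)), hs']
          rfl
        refine ⟨⟨_, hm⟩, Or.inr ⟨key _ hm ?_ ?_ i j' ?_, key _ hm ?_ ?_ j i' ?_⟩⟩ <;>
          simp only [Equiv.Perm.mul_apply, f6, f7, ei, ej]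
        all_goals first
          | exact Equiv.swap_apply_left _ _
          | exact Equiv.swap_apply_right _ _
          | exact Equiv.swap_apply_of_ne_of_ne (h6 _).1 (h6 _).1
          | exact Equiv.swap_apply_of_ne_of_ne (h6 _).2 (h6 _).2
    intro i j i' j' hij hij' h
    obtain ⟨p, hp | hp⟩ := step i j i' j' hij hij'
    · rw [hmove p i j i' j' hij hp.1 hp.2, h]
    · have := hmove p i j j' i' hij hp.1 hp.2
      exact hinv j' i' (Ne.symm hij') (this.trans h)
  have hall : ∀ i j, i ≠ j → x i * x j * (x i * x j) = th := by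
    intro i j hij
    refine (hz i j hij).resolve_left fun h1 => ?_
    obtain ⟨σ, hσ⟩ := CfsgLib.Recog.QSThree.Alt.exists_hom_carmichael (K := H) 6
      CfsgLib.Recog.QSThree.Alt.g8 g8pow g8pair CfsgLib.Recog.QSThree.Alt.closure_g8 x hx3
      fun i' j' hij' => hconst i j i' j' hij hij' h1
    have hsec : ∀ g, π (σ g) = g := fun g => by
      have : π.comp σ = MonoidHom.id _ := MonoidHom.eq_of_eqOn_dense CfsgLib.Recog.QSThree.Alt.closure_g8
        (by rintro _ ⟨k, rfl⟩; exact (congrArg π (hσ k)).trans (hxπ k))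
      exact DFunLike.congr_fun this g
    refine hs σ.range (Subgroup.isComplement'_of_disjoint_and_mul_eq_univ ?_ (Set.eq_univ_of_forall fun u => ?_))
    · rw [disjoint_iff, eq_bot_iff]
      rintro z ⟨hzc, g, rfl⟩
      have : g = 1 := by
        rcases center_eq hth hne hc hzc with e | e <;> rw [← hsec g, e]
        · exact map_one π
        · exact hπt
      rw [this, map_one]; exact one_mem _
    · refine ⟨u * (σ (π u))⁻¹, ?_, σ (π u), ⟨_, rfl⟩, inv_mul_cancel_right u _⟩
      rcases hker (u * (σ (π u))⁻¹) (by rw [map_mul, map_inv, hsec, mul_inv_cancel]) with e | e <;>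
        rw [e]
      exacts [one_mem _, hth]
  -- the pairs
  classical
  let z : Fin 6 → H × C0 := fun i => (x i, y0 i)
  let Γ := Subgroup.closure (Set.range z)
  have hT : (th, t0) ∈ Γ := by
    have e : z 0 * z 1 * (z 0 * z 1) = (th, t0) := Prod.ext (hall 0 1 (by decide)) (y0_pair (by decide))
    have hm : ∀ k, z k ∈ Γ := fun k => Subgroup.subset_closure ⟨k, rfl⟩
    exact e ▸ mul_mem (mul_mem (hm 0) (hm 1)) (mul_mem (hm 0) (hm 1))
  let T : Γ := ⟨(th, t0), hT⟩
  have hTc : ∀ u : Γ, u * T = T * u := fun u => Subtype.ext (Prod.ext (hcomm _) (t0_comm _))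
  have hT2 : T * T = 1 := Subtype.ext (Prod.ext hth2 t0_sq)
  haveI : (Subgroup.zpowers T).Normal := ⟨fun u hu g => by
    obtain ⟨k, rfl⟩ := Subgroup.mem_zpowers_iff.1 hu
    rw [← conj_zpow, hTc, mul_inv_cancel_right]
    exact Subgroup.zpow_mem _ (Subgroup.mem_zpowers T) k⟩
  let Q := QuotientGroup.mk' (Subgroup.zpowers T)
  let zz : Fin 6 → Γ := fun i => ⟨z i, Subgroup.subset_closure ⟨i, rfl⟩⟩
  have hQ := CfsgLib.Clifford.AltSchur.carmichael_bound 6 (fun i => Q (zz i))
    (fun i => by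
      rw [← map_pow, show zz i ^ 3 = 1 from Subtype.ext (Prod.ext (hx3 i) (y0_pow i)), map_one])
    (fun i j hij => by
      rw [← map_mul, ← map_mul, show zz i * zz j * (zz i * zz j) = T from
        Subtype.ext (Prod.ext (hall i j hij) (y0_pair hij))]
      exact (QuotientGroup.eq_one_iff _).2 (Subgroup.mem_zpowers T))
  have hzz : Subgroup.closure (Set.range zz) = ⊤ := by
    refine Subgroup.map_injective Γ.subtype_injective ?_
    rw [MonoidHom.map_closure, ← MonoidHom.range_eq_map, Subgroup.range_subtype, ← Set.range_comp]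
    rfl
  rw [Set.range_comp' Q zz, ← MonoidHom.map_closure, hzz,
    Subgroup.map_top_of_surjective Q (QuotientGroup.mk'_surjective _), Subgroup.card_top] at hQ
  have hΓ : Nat.card Γ ≤ 40320 := by
    rw [Subgroup.card_eq_card_quotient_mul_card_subgroup (Subgroup.zpowers T)]
    have h1 : Nat.card (Γ ⧸ Subgroup.zpowers T) ≤ 20160 := by
      have : (6 + 2).factorial = 40320 := rfl
      omega
    have h2 : Nat.card (Subgroup.zpowers T) ≤ 2 := by
      rw [Nat.card_zpowers]
      exact orderOf_le_of_pow_eq_one two_pos (by rw [pow_two, hT2])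
    calc _ ≤ 20160 * 2 := Nat.mul_le_mul h1 h2
      _ = _ := rfl
  have hH : Nat.card H = 40320 := by
    rw [← (Subgroup.center H).card_mul_index, hc, Subgroup.index, Nat.card_congr q.toEquiv,
      nat_card_alternatingGroup, Nat.card_fin]
    rfl
  let f1 : Γ →* H := (MonoidHom.fst H C0).comp Γ.subtype
  let f2 : Γ →* C0 := (MonoidHom.snd H C0).comp Γ.subtype
  have hf1 : Function.Surjective f1 := by
    intro u
    have hu : π u ∈ (Γ.map (π.comp (MonoidHom.fst H C0))) := by
      have : Subgroup.closure (Set.range CfsgLib.Recog.QSThree.Alt.g8) ≤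
          Γ.map (π.comp (MonoidHom.fst H C0)) := by
        rw [Subgroup.closure_le]
        rintro _ ⟨k, rfl⟩
        exact ⟨z k, Subgroup.subset_closure ⟨k, rfl⟩, hxπ k⟩
      exact this (CfsgLib.Recog.QSThree.Alt.closure_g8 ▸ Subgroup.mem_top _)
    obtain ⟨γ, hγ, e⟩ := hu
    rcases hker (γ.1⁻¹ * u) (by rw [map_mul, map_inv]; exact inv_mul_eq_one.2 e) with h | h
    · exact ⟨⟨γ, hγ⟩, inv_mul_eq_one.1 h⟩
    · exact ⟨⟨γ, hγ⟩ * T, (inv_mul_eq_iff_eq_mul.1 h).symm⟩
  have hb : Function.Bijective f1 := ⟨(hf1.bijective_of_nat_card_le (hH ▸ hΓ)).1, hf1⟩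
  let e1 := MulEquiv.ofBijective f1 hb
  let ψ : H →* C0 := f2.comp e1.symm.toMonoidHom
  have hψ : ∀ γ : Γ, ψ (f1 γ) = f2 γ := fun γ => by
    show f2 (e1.symm (e1 γ)) = _
    rw [MulEquiv.symm_apply_apply]
  have hψt : ψ th = t0 := hψ T
  have hsur : Function.Surjective ψ := by
    rw [← MonoidHom.range_eq_top, eq_top_iff, ← closure_y0, Subgroup.closure_le]
    rintro _ ⟨k, rfl⟩
    exact ⟨f1 (zz k), hψ (zz k)⟩
  have hinj : Function.Injective ψ := by
    rw [← MonoidHom.ker_eq_bot_iff, eq_bot_iff]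
    intro u hu
    rcases normal_cases hth hne hcov ψ.ker with h | h
    · rcases center_eq hth hne hc (h hu) with rfl | rfl
      · exact one_mem _
      · exact absurd (hψt.symm.trans hu) t0_ne
    · exact absurd (hψt.symm.trans (MonoidHom.mem_ker.1 (h ▸ Subgroup.mem_top th))) t0_ne
  exact ⟨(MulEquiv.ofBijective ψ ⟨hinj, hsur⟩).symm, by
    rw [MulEquiv.symm_apply_eq]; exact hψt.symm⟩

end Iso

open CfsgLib.KnownA.McLInvol in
/-- The model is such a cover. -/
theorem c0_cover : Cfsg.IsNonsplitDoubleCover C0 (alternatingGroup (Fin 8)) ∧ Nat.card C0 = 40320 ∧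
    Subgroup.center C0 ≤ Subgroup.zpowers t0 := by
  haveI : Finite (CfsgLib.KnownA.McLInvol.CM) := Nat.finite_of_card_ne_zero (by
    obtain ⟨hc, ⟨q⟩, -⟩ := CfsgLib.KnownA.McLInvol.isNonsplit
    rw [← (Subgroup.center CM).card_mul_index, hc, Subgroup.index, Nat.card_congr q.toEquiv,
      nat_card_alternatingGroup, Nat.card_fin]
    norm_num [Nat.factorial])
  obtain ⟨e, he⟩ := exists_equiv CfsgLib.KnownA.McLInvol.tC CfsgLib.KnownA.McLInvol.tC_mem_center
    (fun h => CfsgLib.KnownA.McLInvol.tM_ne (congrArg Subtype.val h))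
    CfsgLib.KnownA.McLInvol.isNonsplit
  have h := CfsgLib.InvChar.DoubleCoverUtil.double_cover_of_mulEquiv e.symm
    CfsgLib.KnownA.McLInvol.isNonsplit
  refine ⟨h, ?_, fun z hz => ?_⟩
  · obtain ⟨hc, ⟨q⟩, -⟩ := h
    rw [← (Subgroup.center C0).card_mul_index, hc, Subgroup.index, Nat.card_congr q.toEquiv,
      nat_card_alternatingGroup, Nat.card_fin]
    rfl
  · haveI : Finite C0 := inferInstance
    rcases center_eq (Subgroup.mem_center_iff.2 t0_comm) t0_ne h.1 hz with rfl | rfl
    exacts [one_mem _, Subgroup.mem_zpowers _]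

end CfsgLib.Recog.McLInv
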