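import Cfsg.Agent.Lib.Recog.McLInv.Struct
import Cfsg.Agent.Lib.Recog.McLInv.DataLocal

/-!
The centralizer of the second involution as a table, and the automorphisms exchanging the two
involutions.
-/

set_option autoImplicit false
set_option maxRecDepth 100000
set_option Elab.async false

namespace CfsgLib.Recog.McLInv

open CfsgLib.InvChar.Coset

/-- The element with a number. -/
noncomputable def dEl (i : ℕ) : C0 := el (dW i)

/-- A generator. -/
noncomputable def gEl (k : ℕ) : C0 := el (dGen.getD k [])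

/-- Right product with a generator. -/
noncomputable def stepD (i k : ℕ) : ℕ := Nat.shiftRight (dStep.getD i 0) (8 * k) % 256

/-- Right product with a word in the generators. -/
noncomputable def goD (i : ℕ) (L : List ℕ) : ℕ :=
  List.rec (motive := fun _ => ℕ → ℕ) (fun x => x) (fun k _ ih x => force (stepD x k) ih) L i

/-- A product. -/
noncomputable def mulD (i j : ℕ) : ℕ := goD i (dIdx.getD j [])

/-- A word evaluated at given images of the generators. -/
noncomputable def evD (im L : List ℕ) : ℕ :=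
  List.rec (motive := fun _ => ℕ → ℕ) (fun x => x) (fun k _ ih x => force (mulD x (im.getD k 0)) ih) L 0

/-- The inverse. -/
noncomputable def invD (i : ℕ) : ℕ := dInv.getD i 0

/-- A conjugate. -/
noncomputable def conjD (d i : ℕ) : ℕ := mulD (mulD d i) (invD d)

/-- The automorphism of the outer letter. -/
noncomputable def alphaD (i : ℕ) : ℕ := evD alphaIm (dIdx.getD i [])

/-- The other automorphism. -/
noncomputable def betaD (i : ℕ) : ℕ := evD betaIm (dIdx.getD i [])

/-- Conjugation by the letter. -/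
noncomputable def hD (i : ℕ) : ℕ := evD hIm (dIdx.getD i [])

theorem dIdx_zero : dIdx.getD 0 [] = [] := by decide +kernel

theorem step_checks : ((List.range 192).all fun i => (List.range 3).all fun k =>
    Nat.blt (stepD i k) 192 && eqB (dW i ++ dGen.getD k []) (dW (stepD i k))) = true := by
  decide +kernel

theorem dEl_zero : dEl 0 = 1 := by
  rw [dEl, dW, dIdx_zero, List.flatMap_nil, el_nil]

theorem goD_spec : ∀ (L : List ℕ) {i : ℕ}, i < 192 → (∀ k ∈ L, k < 3) →
    goD i L < 192 ∧ dEl (goD i L) = dEl i * el (L.flatMap fun k => dGen.getD k [])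
  | [], i, hi, _ => ⟨hi, by show dEl i = _; rw [List.flatMap_nil, el_nil, mul_one]⟩
  | k :: L, i, hi, h => by
    have hs := List.all_eq_true.1 (List.all_eq_true.1 step_checks i (List.mem_range.2 hi)) k
      (List.mem_range.2 (h k (List.mem_cons_self ..)))
    rw [Bool.and_eq_true, Nat.blt_eq] at hs
    obtain ⟨h1, h2⟩ := goD_spec L hs.1 fun j hj => h j (List.mem_cons_of_mem _ hj)
    show force (stepD i k) (fun x => goD x L) < 192 ∧ _
    rw [force_eq]
    refine ⟨h1, ?_⟩
    have e : goD i (k :: L) = goD (stepD i k) L := by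
      show force (stepD i k) (fun x => goD x L) = _
      rw [force_eq]
    rw [e, h2, dEl, dEl, ← eqB_sound hs.2, el_append, List.flatMap_cons, el_append, mul_assoc]

theorem dIdx_lt {j : ℕ} (hj : j < 192) : ∀ k ∈ dIdx.getD j [], k < 3 :=
  ltW_spec (List.all_eq_true.1 d_checks.2.2.1 j (List.mem_range.2 hj))

theorem mulD_spec {i j : ℕ} (hi : i < 192) (hj : j < 192) :
    mulD i j < 192 ∧ dEl (mulD i j) = dEl i * dEl j := by
  have h := goD_spec (dIdx.getD j []) hi (dIdx_lt hj)
  exact ⟨h.1, h.2⟩

theorem dEl_inj {i j : ℕ} (hi : i < 192) (hj : j < 192) (h : dEl i = dEl j) : i = j :=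
  congrArg Fin.val (distinctB_spec d_checks.2.2.2 (a₁ := ⟨i, hi⟩) (a₂ := ⟨j, hj⟩) h)

theorem inv_checks : ((List.range 192).all fun i =>
    Nat.blt (invD i) 192 && Nat.beq (mulD i (invD i)) 0) = true := by decide +kernel

theorem invD_spec {i : ℕ} (hi : i < 192) : invD i < 192 ∧ dEl (invD i) = (dEl i)⁻¹ := by
  have h := List.all_eq_true.1 inv_checks i (List.mem_range.2 hi)
  rw [Bool.and_eq_true, Nat.blt_eq] at h
  refine ⟨h.1, eq_inv_of_mul_eq_one_right ?_⟩
  rw [← (mulD_spec hi h.1).2, Nat.eq_of_beq_eq_true h.2, dEl_zero]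

theorem conjD_spec {d i : ℕ} (hd : d < 192) (hi : i < 192) :
    conjD d i < 192 ∧ dEl (conjD d i) = dEl d * dEl i * (dEl d)⁻¹ := by
  obtain ⟨h1, e1⟩ := mulD_spec hd hi
  obtain ⟨h2, e2⟩ := invD_spec hd
  obtain ⟨h3, e3⟩ := mulD_spec h1 h2
  exact ⟨h3, by show dEl (mulD (mulD d i) (invD d)) = _; rw [e3, e1, e2]⟩

theorem evD_spec {im : List ℕ} (him : ∀ k < 3, im.getD k 0 < 192) : ∀ L : List ℕ, (∀ k ∈ L, k < 3) →
    evD im L < 192 ∧ dEl (evD im L) = wprod (fun k => dEl (im.getD k 0)) L := by
  suffices key : ∀ L : List ℕ, (∀ k ∈ L, k < 3) → ∀ x < 192,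
      List.rec (motive := fun _ => ℕ → ℕ) (fun x => x)
          (fun k _ ih x => force (mulD x (im.getD k 0)) ih) L x < 192 ∧
        dEl (List.rec (motive := fun _ => ℕ → ℕ) (fun x => x)
          (fun k _ ih x => force (mulD x (im.getD k 0)) ih) L x) =
          dEl x * wprod (fun k => dEl (im.getD k 0)) L by
    intro L hL
    have := key L hL 0 (by norm_num)
    rwa [dEl_zero, one_mul] at this
  intro L
  induction L with
  | nil => exact fun _ x hx => ⟨hx, by simp [wprod]⟩
  | cons k L ih =>
    intro h x hx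
    obtain ⟨h1, e1⟩ := mulD_spec hx (him k (h k (List.mem_cons_self ..)))
    obtain ⟨h2, e2⟩ := ih (fun j hj => h j (List.mem_cons_of_mem _ hj)) _ h1
    show force (mulD x (im.getD k 0)) _ < 192 ∧ dEl (force (mulD x (im.getD k 0)) _) = _
    rw [force_eq]
    exact ⟨h2, by rw [e2, e1, wprod_cons', mul_assoc]⟩

theorem dEl_eq_word {i : ℕ} (hi : i < 192) : dEl i = wprod gEl (dIdx.getD i []) := by
  rw [dEl, dW, el, wprod_flatten]; rfl

theorem gen_idx_checks : ((List.range 3).all fun k =>
    Nat.blt (stepD 0 k) 192 && eqB (dW (stepD 0 k)) (dGen.getD k [])) = true := by decide +kernel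

theorem gEl_eq {k : ℕ} (hk : k < 3) : stepD 0 k < 192 ∧ dEl (stepD 0 k) = gEl k := by
  have h := List.all_eq_true.1 gen_idx_checks k (List.mem_range.2 hk)
  rw [Bool.and_eq_true, Nat.blt_eq] at h
  exact ⟨h.1, eqB_sound h.2⟩

theorem named_checks : evD [stepD 0 0, stepD 0 1, stepD 0 2] tIdx = 27 ∧
    evD [stepD 0 0, stepD 0 1, stepD 0 2] aIdx = 191 ∧
    eqB (dW 27) tW = true ∧ eqB (dW 191) aW = true ∧ eqB (dW 190) (tW ++ aW) = true ∧
    ltW 3 tIdx = true ∧ ltW 3 aIdx = true := by decide +kernel

theorem named_el : dEl 27 = t0 ∧ dEl 191 = a0 ∧ dEl 190 = t0 * a0 := by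
  obtain ⟨-, -, h1, h2, h3, -, -⟩ := named_checks
  exact ⟨eqB_sound h1, eqB_sound h2, by rw [dEl, eqB_sound h3, el_append]; rfl⟩

/-- Images of the generators satisfy the conditions. -/
noncomputable def isHom (im : List ℕ) (Rs : List (List ℕ)) : Bool :=
  Rs.all fun L => Nat.beq (evD im L) 0

/-- The search for images of the generators. -/
noncomputable def searchOK : Bool :=
  dReps.all fun u => bif isHom [u] relOne then
    (List.range 192).all fun v => bif isHom [u, v] relTwo && Nat.beq (evD [u, v] tIdx) 191 then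
      (List.range 192).all fun x => bif isHom [u, v, x] relThree && Nat.beq (evD [u, v, x] aIdx) 27 then
        sols.any fun s => leq s.1 [u, v, x]
      else true
    else true
  else true

theorem search_ok : searchOK = true := by decide +kernel

theorem rel_checks : (relOne.all fun L => ltW 1 L && Nat.beq (evD [stepD 0 0] L) 0) = true ∧
    (relTwo.all fun L => ltW 2 L && Nat.beq (evD [stepD 0 0, stepD 0 1] L) 0) = true ∧
    (relThree.all fun L => ltW 3 L && Nat.beq (evD [stepD 0 0, stepD 0 1, stepD 0 2] L) 0) = true ∧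
    ltW 2 tIdx = true := by decide +kernel

theorem rep_checks : ((List.range 192).all fun j =>
    Nat.blt (dRep.getD j (0, 0)).1 192 && Nat.blt (dRep.getD j (0, 0)).2 192 &&
      dReps.any (Nat.beq (dRep.getD j (0, 0)).1) &&
      Nat.beq (conjD (dRep.getD j (0, 0)).2 (dRep.getD j (0, 0)).1) j) = true ∧
    (sols.all fun s => Nat.blt s.2.2 192 && (List.range 3).all fun k => Nat.beq (s.1.getD k 0)
      (conjD s.2.2 (bif Nat.beq s.2.1 0 then alphaIm.getD k 0 else betaIm.getD k 0))) = true ∧
    ((List.range 3).all fun k => Nat.blt (alphaIm.getD k 0) 192 && Nat.blt (betaIm.getD k 0) 192 &&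
      Nat.blt (hIm.getD k 0) 192 && eqB (dW (alphaIm.getD k 0)) (dImg.getD k []) &&
      eqB (ataW ++ dGen.getD k [] ++ ataW) (dW (hIm.getD k 0))) = true := by decide +kernel

/-- The centre and the fixed points of the automorphism. -/
theorem square_checks : ((List.range 192).all fun i => Nat.beq i 0 || Nat.beq i 190 ||
    !((List.range 3).all fun k => Nat.beq (mulD i (stepD 0 k)) (mulD (stepD 0 k) i)) ||
      !Nat.beq (alphaD i) i) = true ∧
    ((List.range 3).all fun k => Nat.beq (evD alphaIm (dIdx.getD (alphaIm.getD k 0) [])) (stepD 0 k)) =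
      true := by decide +kernel

theorem sep_check : sepElt < 192 ∧ ((List.range 192).all fun d =>
    !Nat.beq (conjD d sepElt) (betaD (hD (betaD (hD (betaD (hD sepElt))))))) = true := by decide +kernel

end CfsgLib.Recog.McLInv
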