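import Cfsg.Agent.Lib.Recog.McLInv.Struct

/-!
Certified enumerations of double cosets of the double cover in a group generated by it and one more
involution normalising the centralizer of the second involution.

A state `(c, i, y)` stands for `φ c * ν i * φ y`, where `ν i` is the representative of node `i`.  A
fact equates two states, possibly after one multiplication by the extra involution; each new fact is
justified by two paths from one state whose emitted words differ by a relator.
-/

set_option autoImplicit false
set_option maxRecDepth 100000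
set_option Elab.async false

namespace CfsgLib.Recog.McLInv

open CfsgLib.InvChar.Coset

/-- The word with a given code: the length in four bits, then three bits to a letter. -/
noncomputable def unp (n : ℕ) : List ℕ := (List.range (n % 16)).map fun k => n / 16 / 8 ^ k % 8

/-- A fact between two nodes. -/
structure Fact where
  /-- whether the extra letter occurs -/
  edge : Bool
  /-- the first node -/
  i : ℕ
  /-- the word after the first node -/
  y : ℕ
  /-- the word before the second node -/
  c : ℕ
  /-- the second node -/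
  j : ℕ
  /-- the word after the second node -/
  z : ℕ

/-- The fact read backwards. -/
noncomputable def Fact.rev (F : Fact) : Fact := ⟨F.edge, F.j, F.z, F.c, F.i, F.y⟩

/-- A step in a path, with the state it leads to. -/
structure Move where
  /-- `0` a word, `1` a fact, `3` a change at the first node -/
  kind : ℕ
  /-- the word or the number of the fact -/
  f : ℕ
  /-- whether the fact is used backwards -/
  bwd : Bool
  /-- the element of the centralizer of the second involution -/
  d : ℕ
  /-- the word before the node -/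
  c : ℕ
  /-- the node -/
  i : ℕ
  /-- the word after the node -/
  y : ℕ

/-- A state. -/
structure St where
  /-- the word before the node -/
  c : ℕ
  /-- the node -/
  i : ℕ
  /-- the word after the node -/
  y : ℕ

/-- The state reached by a step. -/
def Move.dest (m : Move) : St := ⟨m.c, m.i, m.y⟩

/-- A fact used in a given direction to pass between two states. -/
noncomputable def chkUse (F : Fact) (bwd : Bool) (d : ℕ) (S T : St) : Bool :=
  bif bwd then
    Nat.beq S.i F.j && Nat.beq T.i F.i && eqB (unp T.c) (unp S.c ++ (unp F.c).reverse) &&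
      bif F.edge then Nat.blt d 192 && eqB (unp S.y) (unp F.z ++ dW d) && eqB (unp T.y) (unp F.y ++ dA d)
      else eqB (unp T.y) (unp F.y ++ ((unp F.z).reverse ++ unp S.y))
  else
    Nat.beq S.i F.i && Nat.beq T.i F.j && eqB (unp T.c) (unp S.c ++ unp F.c) &&
      bif F.edge then Nat.blt d 192 && eqB (unp S.y) (unp F.y ++ dW d) && eqB (unp T.y) (unp F.z ++ dA d)
      else eqB (unp T.y) (unp F.z ++ ((unp F.y).reverse ++ unp S.y))

/-- One step, the facts before `t` being known. -/
noncomputable def chkMove (Fs : List Fact) (t : ℕ) (S : St) (m : Move) : Bool :=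
  bif Nat.beq m.kind 0 then
    Nat.beq m.i S.i && eqB (unp m.c) (unp S.c) && eqB (unp m.y) (unp S.y ++ unp m.f)
  else bif Nat.beq m.kind 1 then
    Nat.blt m.f t && chkUse (Fs.getD m.f ⟨false, 0, 0, 0, 0, 0⟩) m.bwd m.d S m.dest
  else
    Nat.beq S.i 0 && Nat.beq m.i 0 && eqB (unp m.c ++ unp m.y) (unp S.c ++ unp S.y)

/-- The word emitted by a step. -/
noncomputable def emit (Fs : List Fact) (m : Move) : List ℕ :=
  bif Nat.beq m.kind 0 then unp m.f
  else bif Nat.beq m.kind 1 && (Fs.getD m.f ⟨false, 0, 0, 0, 0, 0⟩).edge then [7] else []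

/-- A path. -/
noncomputable def chkPath (Fs : List Fact) (t : ℕ) (ms : List Move) : St → Bool :=
  List.rec (motive := fun _ => St → Bool) (fun _ => true)
    (fun m _ ih S => chkMove Fs t S m && ih m.dest) ms

/-- The word emitted along a path. -/
noncomputable def emits (Fs : List Fact) (ms : List Move) : List ℕ := ms.flatMap (emit Fs)

/-- The end of a path. -/
noncomputable def endSt (ms : List Move) : St → St :=
  List.rec (motive := fun _ => St → St) (fun S => S) (fun m _ ih _ => ih m.dest) ms

/-- Equality of lists of numbers. -/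
noncomputable def memPat (pats : List (List ℕ)) (L : List ℕ) : Bool := pats.any fun p => leq p L

/-- A justification of a fact. -/
structure Just where
  /-- whether the fact defines a node -/
  isDef : Bool
  /-- the first state -/
  start : St
  /-- the first path -/
  left : List Move
  /-- the second path -/
  right : List Move
  /-- the element used when the new fact is applied -/
  d : ℕ

/-- One fact is justified. -/
noncomputable def chkFactAt (Fs : List Fact) (Js : List Just) (defs : List (ℕ × ℕ))
    (pats : List (List ℕ)) (t : ℕ) : Bool :=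
  let F := Fs.getD t ⟨false, 0, 0, 0, 0, 0⟩
  let J := Js.getD t ⟨false, ⟨0, 0, 0⟩, [], [], 0⟩
  bif J.isDef then
    F.edge && Nat.blt 0 F.j && Nat.ble F.j defs.length && Nat.blt F.i F.j &&
      Nat.beq F.i (defs.getD (F.j - 1) (0, 0)).1 && Nat.beq F.y (defs.getD (F.j - 1) (0, 0)).2 &&
      eqB (unp F.c) [] && eqB (unp F.z) []
  else
    chkPath Fs t J.left J.start && chkPath Fs t J.right J.start &&
      chkUse F false J.d (endSt J.left J.start) (endSt J.right J.start) &&
      memPat pats (emits Fs J.left ++ ((bif F.edge then [7] else []) ++ (emits Fs J.right).reverse))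

/-- All facts are justified. -/
noncomputable def chkFacts (Fs : List Fact) (Js : List Just) (defs : List (ℕ × ℕ))
    (pats : List (List ℕ)) : Bool :=
  (List.range Fs.length).all (chkFactAt Fs Js defs pats)

/-- A group with the double cover and the extra involution. -/
structure Setup (G : Type*) [Group G] where
  /-- the embedding of the double cover -/
  φ : C0 →* G
  /-- the extra involution -/
  w : G
  w_sq : w * w = 1
  act : ∀ k < 3, w * φ (el (dGen.getD k [])) * w = φ (el (dImg.getD k []))

namespace Setup

variable {G : Type*} [Group G] (S : Setup G)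

/-- The letters in the group. -/
noncomputable def f (x : ℕ) : G := if x < 7 then S.φ (cl x) else S.w

theorem f_sq (x : ℕ) : S.f x * S.f x = 1 := by
  unfold f; split
  · rw [← map_mul, cl_sq, map_one]
  · exact S.w_sq

theorem wprod_f {L : List ℕ} (h : ∀ x ∈ L, x < 7) : wprod S.f L = S.φ (el L) := by
  rw [el, map_wprod S.φ cl S.f L fun x hx => by simp [f, h x hx]]

theorem f_seven : S.f 7 = S.w := by simp [f]

theorem act_dW {d : ℕ} (hd : d < 192) : S.φ (el (dW d)) * S.w = S.w * S.φ (el (dA d)) := by
  have hlt := ltW_spec (List.all_eq_true.1 d_checks.2.2.1 d (List.mem_range.2 hd))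
  have key : ∀ L : List ℕ, (∀ k ∈ L, k < 3) →
      S.φ (el (L.flatMap fun k => dGen.getD k [])) * S.w =
        S.w * S.φ (el (L.flatMap fun k => dImg.getD k [])) := by
    intro L hL
    induction L with
    | nil => simp [el, wprod]
    | cons k L ih =>
      have e1 : S.φ (el (dGen.getD k [])) * S.w = S.w * S.φ (el (dImg.getD k [])) := by
        rw [← S.act k (hL k (List.mem_cons_self ..)), ← mul_assoc, ← mul_assoc, S.w_sq, one_mul]
      rw [List.flatMap_cons, List.flatMap_cons, el_append, el_append, map_mul, map_mul, mul_assoc,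
        ih fun j hj => hL j (List.mem_cons_of_mem _ hj), ← mul_assoc, e1, mul_assoc]
  exact key _ hlt

variable (defs : List (ℕ × ℕ))

/-- Representatives, with fuel. -/
noncomputable def nu : ℕ → ℕ → G
  | 0, _ => 1
  | n + 1, k => if k = 0 then 1 else
      nu n (defs.getD (k - 1) (0, 0)).1 * S.φ (el (unp (defs.getD (k - 1) (0, 0)).2)) * S.w

/-- The parents come first. -/
def DefsOK : Prop := ∀ k < defs.length, (defs.getD k (0, 0)).1 ≤ k

theorem nu_stable (h : DefsOK defs) : ∀ n k, k ≤ n → k ≤ defs.length → S.nu defs n k = S.nu defs k k := by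
  intro n
  induction n using Nat.strong_induction_on with
  | _ n ih =>
    intro k hk hl
    rcases Nat.eq_zero_or_pos k with rfl | hk0
    · cases n <;> simp [nu]
    obtain ⟨m, rfl⟩ : ∃ m, k = m + 1 := ⟨k - 1, by omega⟩
    obtain ⟨n', rfl⟩ : ∃ n', n = n' + 1 := ⟨n - 1, by omega⟩
    have hp := h m (by omega)
    simp only [nu, Nat.succ_ne_zero, if_false, Nat.add_sub_cancel]
    rw [ih n' (by omega) _ (by omega) (by omega)]
    rcases Nat.lt_or_ge m (n' + 1) with hm | hm
    · rw [ih m hm _ hp (by omega)]
    · omega

/-- The representative of a node. -/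
noncomputable def ν (k : ℕ) : G := S.nu defs k k

theorem ν_zero : S.ν defs 0 = 1 := rfl

theorem ν_def (h : DefsOK defs) {k : ℕ} (hk : k < defs.length) :
    S.ν defs (k + 1) = S.ν defs (defs.getD k (0, 0)).1 * S.φ (el (unp (defs.getD k (0, 0)).2)) * S.w := by
  show S.nu defs (k + 1) (k + 1) = _
  simp only [nu, Nat.succ_ne_zero, if_false, Nat.add_sub_cancel]
  rw [S.nu_stable defs h k _ (h k hk) (by have := h k hk; omega)]
  rfl

/-- The value of a state. -/
noncomputable def stVal (T : St) : G :=
  S.φ (el (unp T.c)) * S.ν defs T.i * S.φ (el (unp T.y))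

/-- The extra letter of a fact. -/
noncomputable def midW (b : Bool) : G := bif b then S.w else 1

/-- The truth of a fact. -/
def FactOK (F : Fact) : Prop :=
  S.ν defs F.i * S.φ (el (unp F.y)) * S.midW F.edge =
    S.φ (el (unp F.c)) * S.ν defs F.j * S.φ (el (unp F.z))

theorem midW_sq (b : Bool) : S.midW b * S.midW b = 1 := by cases b <;> simp [midW, S.w_sq]

theorem midW_seven (b : Bool) : wprod S.f (bif b then [7] else []) = S.midW b := by
  cases b <;> simp [wprod, midW, f_seven]

theorem chkUse_fwd {F : Fact} {d : ℕ} {A B : St} (h : chkUse F false d A B = true) :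
    S.stVal defs A * S.midW F.edge = S.φ (el (unp A.c)) *
        (S.ν defs F.i * S.φ (el (unp F.y)) * S.midW F.edge) *
        (bif F.edge then S.φ (el (dA d)) else S.φ (el ((unp F.y).reverse ++ unp A.y))) ∧
      S.stVal defs B = S.φ (el (unp A.c)) *
        (S.φ (el (unp F.c)) * S.ν defs F.j * S.φ (el (unp F.z))) *
        (bif F.edge then S.φ (el (dA d)) else S.φ (el ((unp F.y).reverse ++ unp A.y))) := by
  simp only [chkUse, cond_false, Bool.and_eq_true] at h
  obtain ⟨⟨⟨hi, hj⟩, hc⟩, hr⟩ := h
  have ei := Nat.eq_of_beq_eq_true hi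
  have ej := Nat.eq_of_beq_eq_true hj
  have ec := eqB_sound hc
  cases he : F.edge with
  | false =>
    rw [he, cond_false] at hr
    have ez := eqB_sound hr
    simp only [stVal, midW, ei, ej, ec, ez, cond_false, el_append, map_mul, el_reverse, map_inv, mul_one]
    constructor <;> group
  | true =>
    rw [he, cond_true, Bool.and_eq_true, Bool.and_eq_true, Nat.blt_eq] at hr
    obtain ⟨⟨hd, hy⟩, hz⟩ := hr
    have ey := eqB_sound hy
    have ez := eqB_sound hz
    simp only [stVal, midW, ei, ej, ec, ey, ez, cond_true, el_append, map_mul]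
    constructor
    · simp only [mul_assoc]
      rw [S.act_dW hd]
    · group

theorem chkUse_sound {F : Fact} (hF : S.FactOK defs F) {bwd : Bool} {d : ℕ} {A B : St}
    (h : chkUse F bwd d A B = true) : S.stVal defs A * S.midW F.edge = S.stVal defs B := by
  cases bwd with
  | false =>
    obtain ⟨h1, h2⟩ := S.chkUse_fwd defs h
    rw [h1, h2, hF]
  | true =>
    have hF' : S.ν defs F.j * S.φ (el (unp F.z)) * S.midW F.edge =
        S.φ (el ((unp F.c).reverse)) * S.ν defs F.i * S.φ (el (unp F.y)) := by
      calc _ = S.φ (el (unp F.c).reverse) * (S.φ (el (unp F.c)) * S.ν defs F.j * S.φ (el (unp F.z))) *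
            S.midW F.edge := by rw [el_reverse, map_inv]; group
        _ = S.φ (el (unp F.c).reverse) * (S.ν defs F.i * S.φ (el (unp F.y))) *
            (S.midW F.edge * S.midW F.edge) := by rw [← hF]; group
        _ = _ := by rw [midW_sq, mul_one, ← mul_assoc]
    simp only [chkUse, cond_true, Bool.and_eq_true] at h
    obtain ⟨⟨⟨hi, hj⟩, hc⟩, hr⟩ := h
    have ei := Nat.eq_of_beq_eq_true hi
    have ej := Nat.eq_of_beq_eq_true hj
    have ec := eqB_sound hc
    cases he : F.edge with
    | false =>
      rw [he, cond_false] at hr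
      rw [he] at hF'
      simp only [midW, cond_false, mul_one] at hF' ⊢
      have ez := eqB_sound hr
      simp only [stVal, ei, ej, ec, ez, el_append, map_mul, el_reverse, map_inv] at hF' ⊢
      calc S.φ (el (unp A.c)) * S.ν defs F.j * S.φ (el (unp A.y))
          = S.φ (el (unp A.c)) * (S.ν defs F.j * S.φ (el (unp F.z))) *
              ((S.φ (el (unp F.z)))⁻¹ * S.φ (el (unp A.y))) := by group
        _ = _ := by rw [hF']; group
    | true =>
      rw [he, cond_true, Bool.and_eq_true, Bool.and_eq_true, Nat.blt_eq] at hr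
      rw [he] at hF'
      obtain ⟨⟨hd, hy⟩, hz⟩ := hr
      have ey := eqB_sound hy
      have ez := eqB_sound hz
      simp only [stVal, midW, cond_true, ei, ej, ec, ey, ez, el_append, map_mul] at hF' ⊢
      calc S.φ (el (unp A.c)) * S.ν defs F.j * (S.φ (el (unp F.z)) * S.φ (el (dW d))) * S.w
          = S.φ (el (unp A.c)) * (S.ν defs F.j * S.φ (el (unp F.z)) * (S.φ (el (dW d)) * S.w)) := by group
        _ = S.φ (el (unp A.c)) * (S.ν defs F.j * S.φ (el (unp F.z)) * S.w) * S.φ (el (dA d)) := by
            rw [S.act_dW hd]; group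
        _ = _ := by rw [hF']; group

theorem chkMove_sound {Fs : List Fact} {t : ℕ}
    (hFs : ∀ k < t, S.FactOK defs (Fs.getD k ⟨false, 0, 0, 0, 0, 0⟩)) {A : St} {m : Move}
    (h : chkMove Fs t A m = true) :
    S.stVal defs A * wprod S.f (emit Fs m) = S.stVal defs m.dest := by
  unfold chkMove at h
  unfold emit
  cases h0 : Nat.beq m.kind 0 with
  | true =>
    simp only [h0, cond_true, Bool.and_eq_true] at h ⊢
    obtain ⟨⟨hi, hc⟩, hy⟩ := h
    have hlt : ∀ x ∈ unp m.f, x < 7 := by
      have h' := hy
      simp only [eqB, Bool.and_eq_true] at h'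
      exact fun x hx => ltW_spec h'.1.1.1.2 x (List.mem_append_right _ hx)
    simp only [stVal, Move.dest, Nat.eq_of_beq_eq_true hi, eqB_sound hc, eqB_sound hy, el_append, map_mul,
      S.wprod_f hlt, mul_assoc]
  | false =>
    cases h1 : Nat.beq m.kind 1 with
    | true =>
      simp only [h0, h1, cond_false, cond_true, Bool.and_eq_true, Nat.blt_eq, Bool.true_and] at h ⊢
      rw [S.midW_seven]
      exact S.chkUse_sound defs (hFs _ h.1) h.2
    | false =>
      simp only [h0, h1, cond_false, Bool.and_eq_true, Bool.false_and] at h ⊢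
      obtain ⟨⟨hi, hi'⟩, he⟩ := h
      have e := congrArg S.φ (eqB_sound he)
      simp only [el_append, map_mul] at e
      simp only [stVal, Move.dest, Nat.eq_of_beq_eq_true hi, Nat.eq_of_beq_eq_true hi', ν_zero, wprod_nil', mul_one]
      exact e.symm

theorem chkPath_sound {Fs : List Fact} {t : ℕ}
    (hFs : ∀ k < t, S.FactOK defs (Fs.getD k ⟨false, 0, 0, 0, 0, 0⟩)) :
    ∀ (ms : List Move) (A : St), chkPath Fs t ms A = true →
      S.stVal defs A * wprod S.f (emits Fs ms) = S.stVal defs (endSt ms A)
  | [], A, _ => by simp [emits, endSt, wprod]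
  | m :: ms, A, h => by
    have h' : (chkMove Fs t A m && chkPath Fs t ms m.dest) = true := h
    rw [Bool.and_eq_true] at h'
    show S.stVal defs A * wprod S.f (emit Fs m ++ emits Fs ms) = S.stVal defs (endSt ms m.dest)
    rw [wprod_append, ← mul_assoc, S.chkMove_sound defs hFs h'.1, chkPath_sound hFs ms _ h'.2]

theorem facts_sound {Fs : List Fact} {Js : List Just} {pats : List (List ℕ)} (hd : DefsOK defs)
    (hp : ∀ p ∈ pats, wprod S.f p = 1) (h : chkFacts Fs Js defs pats = true) :
    ∀ k < Fs.length, S.FactOK defs (Fs.getD k ⟨false, 0, 0, 0, 0, 0⟩) := by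
  intro k
  induction k using Nat.strong_induction_on with
  | _ k ih =>
    intro hk
    have hk' : chkFactAt Fs Js defs pats k = true := List.all_eq_true.1 h k (List.mem_range.2 hk)
    unfold chkFactAt at hk'
    simp only at hk'
    generalize Fs.getD k ⟨false, 0, 0, 0, 0, 0⟩ = F at hk' ⊢
    generalize Js.getD k ⟨false, ⟨0, 0, 0⟩, [], [], 0⟩ = J at hk'
    cases hJ : J.isDef with
    | true =>
      simp only [hJ, cond_true, Bool.and_eq_true, Nat.blt_eq, Nat.ble_eq] at hk'
      obtain ⟨⟨⟨⟨⟨⟨⟨he, hj0⟩, hjl⟩, -⟩, hp1⟩, hp2⟩, hc⟩, hz⟩ := hk'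
      show S.ν defs F.i * S.φ (el (unp F.y)) * S.midW F.edge = _
      obtain ⟨m, hm⟩ : ∃ m, F.j = m + 1 := ⟨F.j - 1, by omega⟩
      rw [hm, Nat.add_sub_cancel] at hp1 hp2
      rw [eqB_sound hc, eqB_sound hz, he, hm, S.ν_def defs hd (by omega), Nat.eq_of_beq_eq_true hp1,
        Nat.eq_of_beq_eq_true hp2, el_nil, map_one, one_mul, mul_one]
      rfl
    | false =>
      simp only [hJ, cond_false, Bool.and_eq_true] at hk'
      obtain ⟨⟨⟨hl, hr⟩, hu⟩, hpat⟩ := hk'
      have hFs : ∀ j < k, S.FactOK defs (Fs.getD j ⟨false, 0, 0, 0, 0, 0⟩) := fun j hj => ih j hj (by omega)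
      have e1 := S.chkPath_sound defs hFs J.left J.start hl
      have e2 := S.chkPath_sound defs hFs J.right J.start hr
      obtain ⟨p, hp', hpe⟩ := List.any_eq_true.1 hpat
      have e3 := hp p hp'
      rw [eq_of_leq _ _ hpe, wprod_append, wprod_append, wprod_reverse _ S.f_sq, S.midW_seven,
        ← mul_assoc, mul_inv_eq_one] at e3
      have e : S.stVal defs (endSt J.left J.start) * S.midW F.edge = S.stVal defs (endSt J.right J.start) := by
        rw [← e1, mul_assoc, e3, e2]
      obtain ⟨h1, h2⟩ := S.chkUse_fwd defs hu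
      rw [h1, h2] at e
      exact mul_left_cancel (mul_right_cancel e)

end Setup

end CfsgLib.Recog.McLInv
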