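import Cfsg.Agent.Lib.Recog.McLInv.ThreeChecks
import Cfsg.Agent.Lib.KnownA.McLSchur.Cover
import Cfsg.Agent.Lib.Recog.McL275.Official

/-!
Every element of order three of the McLaughlin group commutes with an involution.
-/

set_option autoImplicit false
set_option maxRecDepth 100000
set_option Elab.async false

namespace CfsgLib.Recog.McLInv

open Cfsg CfsgLib.Golay CfsgLib.KnownA.SchurCert CfsgLib.KnownA.SchurCert.Co3Cert CfsgLib.KnownA.SchurCert.McLCert

variable {gen : ℕ → mclGroup}

theorem wordI_mem (hgen : GenSpec gen) {i : ℕ} (hi : i < 729) : wprod gen (wordI i) ∈ (piE hgen).range := by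
  refine ⟨eOf i, ?_⟩
  rw [piE_apply]
  congr 1
  exact congrArg wordI (numVW_eOf ⟨i, hi⟩)

theorem exists_index (hgen : GenSpec gen) {a : mclGroup} (ha : a ∈ (piE hgen).range) :
    ∃ i < 729, wprod gen (wordI i) = a := by
  obtain ⟨e, rfl⟩ := ha
  exact ⟨_, numVW_lt _ _, (piE_apply hgen e).symm⟩

theorem eq_of_code (hgen : GenSpec gen) {w w' : List ℕ} (hw : wprod gen w ∈ (piE hgen).range)
    (hw' : wprod gen w' ∈ (piE hgen).range) (h : codeW w = codeW w') : wprod gen w = wprod gen w' := by
  obtain ⟨i, hi, ei⟩ := exists_index hgen hw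
  obtain ⟨j, hj, ej⟩ := exists_index hgen hw'
  have ht := tbl_ok
  simp only [tblChk, Bool.and_eq_true, decide_eq_true_iff] at ht
  have hn := nodupB_spec ht.2
  rw [ht.1] at hn
  have e : codeW (wordI i) = codeW (wordI j) :=
    (codeW_congr hgen ei).trans (h.trans (codeW_congr hgen ej).symm)
  have : i = j := List.inj_on_of_nodup_map hn (List.mem_range.2 hi) (List.mem_range.2 hj) e
  rw [← ei, ← ej, this]

theorem card_range_piE (hgen : GenSpec gen) : Nat.card (piE hgen).range = 729 := by
  rw [← Nat.card_fin 729]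
  refine (Nat.card_eq_of_bijective
    (fun i : Fin 729 => (⟨wprod gen (wordI i), wordI_mem hgen i.2⟩ : (piE hgen).range)) ⟨?_, ?_⟩).symm
  · exact fun a b e => Fin.ext (code_inj hgen a.2 b.2 (congrArg Subtype.val e))
  · rintro ⟨a, ha⟩
    obtain ⟨i, hi, e⟩ := exists_index hgen ha
    exact ⟨⟨i, hi⟩, Subtype.ext e⟩

theorem commute_in_sylow (hgen : GenSpec gen) {a : mclGroup} (ha : a ∈ (piE hgen).range) (h3 : orderOf a = 3) :
    ∃ z : mclGroup, orderOf z = 2 ∧ z * a = a * z := by
  obtain ⟨i, hi, rfl⟩ := exists_index hgen ha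
  have h := List.all_eq_true.1 three_ok i (List.mem_range.2 hi)
  rw [Bool.and_eq_true, Nat.blt_eq] at h
  obtain ⟨hlen, h⟩ := h
  simp only [threeOK, Bool.or_eq_true, Bool.not_eq_true'] at h
  have hmem : ∀ {j : ℕ}, j < 729 → wprod gen (wordI j) ∈ (piE hgen).range := fun hj => wordI_mem hgen hj
  rcases h with (h | h) | h
  · exfalso
    rw [Nat.eq_of_beq_eq_true h, wordI_zero] at h3
    simp [wprod] at h3
  · exfalso
    have e : wprod gen (wordI i ++ (wordI i ++ wordI i)) = wprod gen [] := by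
      rw [wprod_app, wprod_app, show wprod gen ([] : List ℕ) = 1 by simp [wprod], ← pow_three, ← h3,
        pow_orderOf_eq_one]
    rw [codeW_congr hgen e, Nat.beq_refl] at h
    exact Bool.noConfusion h
  · obtain ⟨⟨r, Z⟩, hrz⟩ : ∃ p, p = threeReps.getD (threeTab.getD i 0 / 729) (0, []) := ⟨_, rfl⟩
    rw [← hrz] at h
    have hm : (r, Z) ∈ threeReps := by
      rw [hrz, List.getD_eq_getElem _ _ hlen]; exact List.getElem_mem _
    have hr := List.all_eq_true.1 rep_ok _ hm
    simp only [Bool.and_eq_true, Nat.blt_eq, Bool.not_eq_true'] at hr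
    obtain ⟨⟨⟨hr, hc⟩, hsq⟩, hne⟩ := hr
    have hv : threeTab.getD i 0 % 729 < 729 := Nat.mod_lt _ (by norm_num)
    generalize threeTab.getD i 0 % 729 = v at h hv
    have e := eq_of_code hgen (w := wordI v ++ wordI i) (w' := wordI r ++ wordI v)
      (by rw [wprod_app]; exact mul_mem (hmem hv) (hmem hi))
      (by rw [wprod_app]; exact mul_mem (hmem hr) (hmem hv)) (Nat.eq_of_beq_eq_true h)
    have hc' := eqv_eq hgen hc
    have hsq' := eqv_eq hgen hsq
    rw [wprod_app, wprod_app] at e hc'
    rw [wprod_app, show wprod gen ([] : List ℕ) = 1 by simp [wprod]] at hsq'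
    have hne' : wprod gen Z ≠ 1 := fun e' => by
      have hs : ∀ v, sameV (vecW rowsCov v Z) (vecW rowsCov v []) = true := fun v => by
        rw [sameV_iff, hgen, hgen, e']; simp [wprod]
      simp only [eqv, hs, List.all_eq_true, cond_true] at hne
      rw [List.all_eq_false] at hne
      obtain ⟨j, -, hj⟩ := hne
      exact hj rfl
    refine ⟨(wprod gen (wordI v))⁻¹ * wprod gen Z * wprod gen (wordI v), ?_, ?_⟩
    · rw [orderOf_eq_prime_iff, pow_two]
      refine ⟨?_, fun e' => hne' ?_⟩
      · calc _ = (wprod gen (wordI v))⁻¹ * (wprod gen Z * wprod gen Z) * wprod gen (wordI v) := by group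
          _ = 1 := by rw [hsq', mul_one, inv_mul_cancel]
      · calc wprod gen Z = wprod gen (wordI v) *
              ((wprod gen (wordI v))⁻¹ * wprod gen Z * wprod gen (wordI v)) * (wprod gen (wordI v))⁻¹ := by group
          _ = 1 := by rw [e', mul_one, mul_inv_cancel]
    · generalize wprod gen (wordI v) = V at e ⊢
      generalize wprod gen (wordI r) = Rr at e hc'
      generalize wprod gen (wordI i) = A at e ⊢
      obtain rfl : A = V⁻¹ * Rr * V := by rw [mul_assoc, ← e, inv_mul_cancel_left]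
      calc V⁻¹ * wprod gen Z * V * (V⁻¹ * Rr * V) = V⁻¹ * (wprod gen Z * Rr) * V := by group
        _ = V⁻¹ * Rr * V * (V⁻¹ * wprod gen Z * V) := by rw [← hc']; group

/-- Every element of order three commutes with an involution. -/
theorem mclGroup_invol_commute {x : mclGroup} (hx : orderOf x = 3) :
    ∃ z : mclGroup, orderOf z = 2 ∧ z * x = x * z := by
  classical
  haveI : Finite mclGroup := Nat.finite_of_card_ne_zero (by rw [card_mclGroup]; norm_num)
  haveI : Fact (Nat.Prime 3) := ⟨Nat.prime_three⟩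
  obtain ⟨gen, hgen⟩ := CfsgLib.KnownA.SchurCert.McLCert.exists_gen matsCov_ok
  have hgen : GenSpec gen := hgen
  have hP : Nat.card (piE hgen).range = 3 ^ (Nat.card mclGroup).factorization 3 := by
    rw [card_range_piE, card_mclGroup]
    have : (898128000 : ℕ).factorization 3 = 6 := by
      rw [show (898128000 : ℕ) = 3 ^ 6 * 1232000 by norm_num, Nat.factorization_mul (by norm_num) (by norm_num),
        Finsupp.add_apply, Nat.Prime.factorization_pow Nat.prime_three, Finsupp.single_eq_same,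
        Nat.factorization_eq_zero_of_not_dvd (by norm_num : ¬ 3 ∣ 1232000)]
    rw [this]
    norm_num
  obtain ⟨P, hPeq⟩ : ∃ P : Sylow 3 mclGroup, (P : Subgroup mclGroup) = (piE hgen).range :=
    ⟨Sylow.ofCard _ hP, rfl⟩
  have hxp : IsPGroup 3 (Subgroup.zpowers x) :=
    IsPGroup.of_card (n := 1) (by rw [Nat.card_zpowers, hx, pow_one])
  obtain ⟨Q, hQ⟩ := hxp.exists_le_sylow
  obtain ⟨g, hg⟩ := MulAction.exists_smul_eq mclGroup P Q
  have hxQ : x ∈ (Q : Subgroup mclGroup) := hQ (Subgroup.mem_zpowers x)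
  rw [← hg, Sylow.coe_subgroup_smul, Subgroup.mem_pointwise_smul_iff_inv_smul_mem, hPeq] at hxQ
  have hval : ((MulAut.conj g)⁻¹ • x : mclGroup) = g⁻¹ * x * g := rfl
  rw [hval] at hxQ
  obtain ⟨z, hz, hzx⟩ := commute_in_sylow hgen hxQ (by
    have := (MulAut.conj g⁻¹).orderOf_eq x
    simp only [MulAut.conj_apply, inv_inv] at this
    rw [this, hx])
  refine ⟨g * z * g⁻¹, by rw [← MulAut.conj_apply, MulEquiv.orderOf_eq, hz], ?_⟩
  calc g * z * g⁻¹ * x = g * (z * (g⁻¹ * x * g)) * g⁻¹ := by group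
    _ = x * (g * z * g⁻¹) := by rw [hzx]; group

/-- Every element of order three of `McL` commutes with an involution. -/
theorem exists_invol_commute {x : Spor.McL} (hx : orderOf x = 3) :
    ∃ z : Spor.McL, orderOf z = 2 ∧ z * x = x * z := by
  obtain ⟨z, hz, hzx⟩ := mclGroup_invol_commute (x := CfsgLib.Recog.McL275.officialEquiv.symm x)
    (by rw [MulEquiv.orderOf_eq, hx])
  exact ⟨CfsgLib.Recog.McL275.officialEquiv z, by rw [MulEquiv.orderOf_eq, hz],
    by simpa using congrArg CfsgLib.Recog.McL275.officialEquiv hzx⟩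

end CfsgLib.Recog.McLInv
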