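import Cfsg.Agent.Lib.Recog.McLInv.Ident
import Cfsg.Agent.Lib.Recog.McLInv.Relators
import Cfsg.Agent.Lib.Recog.McLInv.Endgame
import Cfsg.Agent.Lib.Recog.McLInv.ThreeInvol
import Cfsg.Agent.Lib.Perm.SwappedPair

/-!
A finite group with an involution centraliser isomorphic to the double cover of the alternating group
of degree eight, in which the involution is not isolated, is the McLaughlin group.
-/

set_option autoImplicit false
set_option maxRecDepth 100000
set_option Elab.async false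

namespace CfsgLib.Recog.McLInv

open CfsgLib.InvChar.Coset
open CfsgLib.Golay (mclGroup card_mclGroup)

variable {G : Type*} [Group G]

/-- A subgroup containing the centralizer and an element exchanging the two involutions has one class
of involutions. -/
theorem Amb.one_class [Finite G] (A : Amb G) {G0 : Subgroup G} (hC : A.φ.range ≤ G0) {w : G} (hwG : w ∈ G0)
    (hw : w * A.t * w⁻¹ = A.φ a0) (cardG0 : Nat.card G0 = 898128000) {x : G} (hx : x ∈ G0)
    (hx2 : orderOf x = 2) : ∃ g ∈ G0, g * A.t * g⁻¹ = x := by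
  haveI : _root_.Fact (Nat.Prime 2) := ⟨Nat.prime_two⟩
  have cC : Nat.card A.φ.range = 40320 := by
    rw [← Nat.card_congr (MonoidHom.ofInjective A.inj).toEquiv, c0_cover.2.1]
  let C : Subgroup G0 := A.φ.range.subgroupOf G0
  have cC' : Nat.card C = 40320 := (Nat.card_congr (Subgroup.subgroupOfEquivOfLe hC).toEquiv).trans cC
  obtain ⟨P, hP⟩ := Sylow.exists_subgroup_card_pow_prime 2 (G := C) (n := 7) (by rw [cC']; norm_num)
  have hP' : Nat.card (P.map C.subtype) = 2 ^ (Nat.card G0).factorization 2 := by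
    rw [Nat.card_congr (P.equivMapOfInjective _ C.subtype_injective).toEquiv.symm, hP, cardG0]
    congr 1
    rw [show (898128000 : ℕ) = 2 ^ 7 * 7016625 by norm_num, Nat.factorization_mul (by norm_num) (by norm_num),
      Finsupp.add_apply, Nat.Prime.factorization_pow Nat.prime_two, Finsupp.single_eq_same,
      Nat.factorization_eq_zero_of_not_dvd (by norm_num : ¬ 2 ∣ 7016625)]
  let Q : Sylow 2 G0 := Sylow.ofCard _ hP'
  have hxp : IsPGroup 2 (Subgroup.zpowers (⟨x, hx⟩ : G0)) :=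
    IsPGroup.of_card (n := 1) (by rw [Nat.card_zpowers, Subgroup.orderOf_mk, hx2, pow_one])
  obtain ⟨R, hR⟩ := hxp.exists_le_sylow
  obtain ⟨g, hg⟩ := MulAction.exists_smul_eq G0 Q R
  have hxR : (⟨x, hx⟩ : G0) ∈ (R : Subgroup G0) := hR (Subgroup.mem_zpowers _)
  rw [← hg, Sylow.coe_subgroup_smul, Subgroup.mem_pointwise_smul_iff_inv_smul_mem] at hxR
  obtain ⟨y, -, hy⟩ := hxR
  obtain ⟨c, hc⟩ := (y.2 : ((y : G0) : G) ∈ A.φ.range)
  have hcx : A.φ c = (g : G)⁻¹ * x * g := by
    rw [hc]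
    exact congrArg Subtype.val hy
  obtain ⟨hxx, hx1⟩ := orderOf_two_iff.1 hx2
  have c2 : c * c = 1 := A.inj (by
    rw [map_mul, hcx, map_one, show (g : G)⁻¹ * x * g * ((g : G)⁻¹ * x * g) = (g : G)⁻¹ * (x * x) * g by group,
      hxx, mul_one, inv_mul_cancel])
  have c1 : c ≠ 1 := fun e => hx1 (by
    rw [e, map_one] at hcx
    calc x = g * ((g : G)⁻¹ * x * g) * (g : G)⁻¹ := by group
      _ = 1 := by rw [← hcx, mul_one, mul_inv_cancel])
  rcases eq_or_ne c t0 with rfl | hct
  · refine ⟨g, g.2, ?_⟩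
    rw [← A.t_eq, hcx]
    group
  · obtain ⟨h, rfl⟩ := invol_class c2 c1 hct
    refine ⟨g * A.φ h * w, mul_mem (mul_mem g.2 (hC ⟨h, rfl⟩)) hwG, ?_⟩
    rw [show (g : G) * A.φ h * w * A.t * ((g : G) * A.φ h * w)⁻¹ =
      g * (A.φ h * (w * A.t * w⁻¹) * (A.φ h)⁻¹) * (g : G)⁻¹ by group, hw, ← map_inv, ← map_mul, ← map_mul, hcx]
    group

/-- The recognition theorem. -/
theorem recognise [Finite G] (t : G) (ht : orderOf t = 2)
    (hcov : Cfsg.IsNonsplitDoubleCover (Subgroup.centralizer ({t} : Set G)) (alternatingGroup (Fin 8))) :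
    Subgroup.centralizer ({t} : Set G) ⊔ Cfsg.oddCore G = ⊤ ∨ Nonempty (G ≃* Cfsg.Spor.McL) := by
  by_cases hiso : Cfsg.IsIsolatedInvolution t
  · exact Or.inl (CfsgLib.Perm.SwappedPair.sup_oddCore_eq_top hiso)
  right
  obtain ⟨g, hgc, hgne⟩ : ∃ g : G, Commute t (g * t * g⁻¹) ∧ g * t * g⁻¹ ≠ t := by
    by_contra hno
    push Not at hno
    exact hiso ⟨ht, hno⟩
  let tc : Subgroup.centralizer ({t} : Set G) := ⟨t, Subgroup.mem_centralizer_singleton_iff.2 rfl⟩
  have htc : tc ∈ Subgroup.center (Subgroup.centralizer ({t} : Set G)) :=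
    Subgroup.mem_center_iff.2 fun x => Subtype.ext (Subgroup.mem_centralizer_singleton_iff.1 x.2)
  have htne : tc ≠ 1 := fun e => (orderOf_two_iff.1 ht).2 (congrArg Subtype.val e)
  obtain ⟨e, he⟩ := exists_equiv tc htc htne hcov
  let A : Amb G :=
    { φ := (Subgroup.centralizer ({t} : Set G)).subtype.comp e.toMonoidHom
      inj := Subtype.val_injective.comp e.injective
      t := t
      t_eq := congrArg Subtype.val he
      cent := fun x hx => ⟨e.symm ⟨x, Subgroup.mem_centralizer_singleton_iff.2 hx⟩, by simp⟩ }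
  obtain ⟨g0, h1, h2⟩ := A.exists_exchange hgc hgne
  obtain ⟨S, hSφ, hSw⟩ := A.exists_outer h1 h2
  obtain ⟨hrA, hrB⟩ := A.relators_hold S hSφ
  obtain ⟨ι, hι, hle⟩ := exists_embedding S (hSφ ▸ A.inj) (S.good_pats hrA hrB)
  have cardG0 : Nat.card ι.range = 898128000 := by
    rw [← Nat.card_congr (MonoidHom.ofInjective hι).toEquiv, card_mclGroup]
  have hC : A.φ.range ≤ ι.range := hSφ ▸ le_sup_left.trans hle
  have hcent : Subgroup.centralizer ({t} : Set G) ≤ ι.range := fun x hx =>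
    hC (A.cent x (Subgroup.mem_centralizer_singleton_iff.1 hx))
  have htop : ι.range = ⊤ := by
    refine eq_top_of_embedded ι.range t ht hcent ?_ (fun x hx hx2 => ?_) cardG0 fun x hx hx3 => ?_
    · rw [← Nat.card_congr e.toEquiv, c0_cover.2.1]
    · refine A.one_class hC (hle (Subgroup.mem_sup_right (Subgroup.mem_zpowers S.w))) ?_ cardG0 hx hx2
      rw [inv_eq_of_mul_eq_one_right S.w_sq]
      exact hSw
    · obtain ⟨y, rfl⟩ := hx
      obtain ⟨z, hz, hzy⟩ := mclGroup_invol_commute (x := y) (by rw [← orderOf_injective ι hι, hx3])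
      exact ⟨ι z, ⟨z, rfl⟩, by rw [orderOf_injective ι hι, hz], by rw [← map_mul, hzy, map_mul]⟩
  refine ⟨?_⟩
  exact ((MonoidHom.ofInjective hι).trans ((MulEquiv.subgroupCongr htop).trans Subgroup.topEquiv)).symm.trans
    CfsgLib.Recog.McL275.officialEquiv

end CfsgLib.Recog.McLInv
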