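import Cfsg.Agent.Lib.Recog.MoorePresentation
import Cfsg.Prelude.Def_SporadicB
import Mathlib.GroupTheory.Perm.Cycle.Type
import Mathlib.GroupTheory.Index
import Mathlib.GroupTheory.Complement

/-!
# Moore generators in a non-split double cover of `A₈`

A non-split double cover of the alternating group of degree eight is generated by six elements satisfying
Moore's relations lifted to the cover (`Tuple`), and any group generated by such elements has at most
40320 elements, so the relations present the cover.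
-/

set_option autoImplicit false
set_option maxRecDepth 20000
set_option Elab.async false

namespace CfsgLib.Recog.McLInv

open Subgroup Equiv

local notation "A8" => alternatingGroup (Fin 8)

/-- Moore's relations lifted to a double cover with central involution `z`. -/
structure Tuple {K : Type*} [Group K] (z : K) (a : Fin 6 → K) : Prop where
  zz : z * z = 1
  comm : ∀ i, Commute (a i) z
  cube : a 0 ^ 3 = 1
  sq : ∀ i : Fin 6, 1 ≤ i.val → a i ^ 2 = z
  next' : ∀ i j : Fin 6, j.val = i.val + 1 → (a i * a j) ^ 3 = 1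
  far : ∀ i j : Fin 6, i.val + 1 < j.val → (a i * a j) ^ 2 = z

namespace Tuple

variable {K : Type*} [Group K] {z : K} {a : Fin 6 → K}

theorem z_mem (T : Tuple z a) : z ∈ closure (Set.range a) := by
  rw [← T.sq 1 le_rfl]
  exact pow_mem (Subgroup.subset_closure (Set.mem_range_self (1 : Fin 6))) 2

theorem map {L : Type*} [Group L] (f : K →* L) (T : Tuple z a) : Tuple (f z) (fun i => f (a i)) where
  zz := by rw [← map_mul, T.zz, map_one]
  comm i := (T.comm i).map f
  cube := by rw [← map_pow, T.cube, map_one]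
  sq i hi := by rw [← map_pow, T.sq i hi]
  next' i j h := by rw [← map_mul, ← map_pow, T.next' i j h, map_one]
  far i j h := by rw [← map_mul, ← map_pow, T.far i j h]

/-- A group generated by such a tuple has at most `40320` elements. -/
theorem card_le_of_top (T : Tuple z a) (hgen : closure (Set.range a) = ⊤) :
    Finite K ∧ Nat.card K ≤ 40320 := by
  have hz : ∀ g : K, Commute g z := by
    intro g
    have hg : g ∈ closure (Set.range a) := by rw [hgen]; exact mem_top g
    induction hg using closure_induction with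
    | mem x hx => obtain ⟨i, rfl⟩ := hx; exact T.comm i
    | one => exact Commute.one_left z
    | mul x y _ _ hx hy => exact hx.mul_left hy
    | inv x _ hx => exact hx.inv_left
  haveI hn : (zpowers z).Normal := ⟨fun n hn g => by
    obtain ⟨k, rfl⟩ := mem_zpowers_iff.1 hn
    rw [((hz g).zpow_right k).eq, mul_inv_cancel_right]
    exact zpow_mem (mem_zpowers z) k⟩
  haveI : Finite ↥(zpowers z) := Nat.finite_of_card_ne_zero (by
    rw [Nat.card_zpowers]
    intro h
    have := orderOf_dvd_of_pow_eq_one (show z ^ 2 = 1 by rw [pow_two, T.zz])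
    rw [h] at this
    omega)
  have hord : Nat.card ↥(zpowers z) ≤ 2 := by
    rw [Nat.card_zpowers]
    exact orderOf_le_of_pow_eq_one (by norm_num) (by rw [pow_two, T.zz])
  let π := QuotientGroup.mk' (zpowers z)
  have hπz : π z = 1 := (QuotientGroup.eq_one_iff z).2 (mem_zpowers z)
  have hG : Moore.Good 6 fun i => π (a i) := by
    refine ⟨fun i hi => ?_, fun i hi => ?_, fun i j h => ?_, fun i j h => ?_⟩
    · rw [show i = 0 from Fin.ext hi, ← map_pow, T.cube, map_one]
    · rw [← map_pow, T.sq i hi, hπz]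
    · rw [← map_mul, ← map_pow, T.next' i j h, map_one]
    · rw [← map_mul, ← map_pow, T.far i j h, hπz]
  obtain ⟨e⟩ := Moore.nonempty_equiv 6
  haveI : Finite (PresentedGroup (Moore.rels 6)) := Finite.of_equiv _ e.symm.toEquiv
  have hA : Nat.card A8 = 20160 := by
    rw [nat_card_alternatingGroup, Nat.card_eq_fintype_card, Fintype.card_fin]; rfl
  have hP : Nat.card (PresentedGroup (Moore.rels 6)) = 20160 := by
    rw [Nat.card_congr e.toEquiv]; exact hA
  let f : PresentedGroup (Moore.rels 6) →* K ⧸ zpowers z := PresentedGroup.toGroup (Moore.good_lift 6 hG)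
  have hf : Function.Surjective f := by
    rw [← MonoidHom.range_eq_top, eq_top_iff, ← Subgroup.map_top_of_surjective π (QuotientGroup.mk'_surjective _),
      ← hgen, MonoidHom.map_closure, closure_le]
    rintro _ ⟨_, ⟨i, rfl⟩, rfl⟩
    exact ⟨PresentedGroup.of i, PresentedGroup.toGroup.of _⟩
  haveI : Finite (K ⧸ zpowers z) := Finite.of_surjective f hf
  haveI hfin : Finite K := Finite.of_subgroup_quotient (zpowers z)
  refine ⟨hfin, ?_⟩
  rw [card_eq_card_quotient_mul_card_subgroup (zpowers z)]
  calc Nat.card (K ⧸ zpowers z) * Nat.card ↥(zpowers z) ≤ 20160 * 2 :=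
        Nat.mul_le_mul (hP ▸ Nat.card_le_card_of_surjective f hf) hord
    _ = 40320 := rfl

/-- The subgroup generated by such a tuple has at most `40320` elements. -/
theorem card_le (T : Tuple z a) :
    Finite ↥(closure (Set.range a)) ∧ Nat.card ↥(closure (Set.range a)) ≤ 40320 := by
  set S := closure (Set.range a) with hS
  let a' : Fin 6 → ↥S := fun i => ⟨a i, subset_closure ⟨i, rfl⟩⟩
  have T' : Tuple (⟨z, T.z_mem⟩ : ↥S) a' :=
    ⟨Subtype.ext T.zz, fun i => Subtype.ext (T.comm i), Subtype.ext T.cube,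
      fun i hi => Subtype.ext (T.sq i hi), fun i j h => Subtype.ext (T.next' i j h),
      fun i j h => Subtype.ext (T.far i j h)⟩
  refine T'.card_le_of_top ?_
  refine Subgroup.map_injective S.subtype_injective ?_
  rw [MonoidHom.map_closure, ← Set.range_comp, ← MonoidHom.range_eq_map, Subgroup.range_subtype]
  rfl

end Tuple

/-- The relations present the cover: a generated group of full order maps onto any other tuple. -/
theorem exists_hom {C K : Type*} [Group C] [Group K] {zC : C} {aC : Fin 6 → C} (TC : Tuple zC aC)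
    (hgen : closure (Set.range aC) = ⊤) (hcard : Nat.card C = 40320) {z : K} {a : Fin 6 → K}
    (T : Tuple z a) : ∃ f : C →* K, f zC = z ∧ ∀ i, f (aC i) = a i := by
  let w : Fin 6 → C × K := fun i => (aC i, a i)
  have TW : Tuple (zC, z) w :=
    ⟨Prod.ext TC.zz T.zz, fun i => (TC.comm i).prod (T.comm i), Prod.ext TC.cube T.cube,
      fun i hi => Prod.ext (TC.sq i hi) (T.sq i hi), fun i j h => Prod.ext (TC.next' i j h) (T.next' i j h),
      fun i j h => Prod.ext (TC.far i j h) (T.far i j h)⟩
  obtain ⟨hfin, hle⟩ := TW.card_le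
  haveI := hfin
  set R := closure (Set.range w) with hR
  let p : ↥R →* C := (MonoidHom.fst C K).comp R.subtype
  have hsur : Function.Surjective p := by
    rw [← MonoidHom.range_eq_top, eq_top_iff, ← hgen, closure_le]
    rintro _ ⟨i, rfl⟩
    exact ⟨⟨w i, subset_closure ⟨i, rfl⟩⟩, rfl⟩
  have hbij : Function.Bijective p :=
    hsur.bijective_of_nat_card_le (hcard ▸ hle)
  let e := MulEquiv.ofBijective p hbij
  refine ⟨((MonoidHom.snd C K).comp R.subtype).comp e.symm.toMonoidHom, ?_, fun i => ?_⟩
  · rw [show zC = e ⟨(zC, z), TW.z_mem⟩ from rfl]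
    simp
  · rw [show aC i = e ⟨w i, subset_closure ⟨i, rfl⟩⟩ from rfl]
    simp [w]

/-- Moore's generators of `A₈`. -/
def gen (i : Fin 6) : Perm (Fin 8) :=
  swap 0 1 * swap ⟨i.val + 1, by omega⟩ ⟨i.val + 2, by omega⟩

theorem gen_mem (i : Fin 6) : gen i ∈ A8 := by
  rw [Perm.mem_alternatingGroup, gen, Perm.sign_mul, Perm.sign_swap (by decide),
    Perm.sign_swap (by simp [Fin.ext_iff])]
  rfl

/-- Moore's generators as elements of `A₈`. -/
def genA (i : Fin 6) : A8 := ⟨gen i, gen_mem i⟩

theorem genA_good : Moore.Good 6 genA := by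
  refine ⟨?_, ?_, ?_, ?_⟩ <;> decide +kernel

theorem genA_double :
    (gen 1 * gen 1 = 1 ∧ gen 1 ≠ 1 ∧ (gen 1).support.card = 4 ∧ gen 1 * swap 0 1 = swap 0 1 * gen 1) ∧
    (∀ i : Fin 6, 1 ≤ i.val → gen i * gen i = 1 ∧ gen i ≠ 1 ∧ (gen i).support.card = 4) ∧
    (∀ i j : Fin 6, i.val + 1 < j.val → (gen i * gen j) * (gen i * gen j) = 1 ∧ gen i * gen j ≠ 1 ∧
      (gen i * gen j).support.card = 4) := by
  decide +kernel

theorem isConj_gen_one {p : A8} (h2 : p.1 * p.1 = 1) (h1 : p.1 ≠ 1) (hs : p.1.support.card = 4) :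
    ∃ π : A8, π * genA 1 * π⁻¹ = p := by
  have htype : ∀ q : Perm (Fin 8), q * q = 1 → q ≠ 1 → q.support.card = 4 →
      q.cycleType = Multiset.replicate 2 2 := by
    intro q q2 q1 qs
    haveI : Fact (Nat.Prime 2) := ⟨Nat.prime_two⟩
    have ho : orderOf q = 2 := orderOf_eq_prime (by rw [pow_two, q2]) q1
    obtain ⟨m, hm⟩ := Perm.cycleType_prime_order (ho.symm ▸ Nat.prime_two : (orderOf q).Prime)
    rw [ho] at hm
    have hsum := q.sum_cycleType
    rw [hm, Multiset.sum_replicate, smul_eq_mul, qs] at hsum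
    rw [hm, show m + 1 = 2 by omega]
  obtain ⟨⟨g2, g1, gs, gc⟩, -⟩ := genA_double
  obtain ⟨π, hπ⟩ := isConj_iff.1
    (Perm.isConj_iff_cycleType_eq.2 ((htype _ g2 g1 gs).trans (htype _ h2 h1 hs).symm))
  rcases Int.units_eq_one_or (Perm.sign π) with h | h
  · exact ⟨⟨π, Perm.mem_alternatingGroup.2 h⟩, Subtype.ext hπ⟩
  · refine ⟨⟨π * swap 0 1, Perm.mem_alternatingGroup.2 (by
      rw [Perm.sign_mul, h, Perm.sign_swap (by decide)]; rfl)⟩, Subtype.ext ?_⟩
    show π * swap 0 1 * gen 1 * (π * swap 0 1)⁻¹ = p.1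
    rw [← hπ, mul_inv_rev, mul_assoc π, ← gc, swap_inv]
    simp [mul_assoc]

theorem gen_succ : ∀ i : Fin 7, i ≠ 0 → ∃ k : Fin 6, swap (0 : Fin 8) 1 * swap i.castSucc i.succ = gen k := by
  decide +kernel

/-- Moore's generators generate. -/
theorem gen_closure : closure (Set.range genA) = ⊤ := by
  set H : Subgroup (Perm (Fin 8)) := closure (Set.range gen) with hH
  have hle : H ≤ A8 := (closure_le _).2 (by rintro _ ⟨i, rfl⟩; exact gen_mem i)
  have key : ∀ p : Perm (Fin 8), p ∈ H ∨ p * swap 0 1 ∈ H := by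
    intro p
    have hp : p ∈ Submonoid.closure (Set.range fun i : Fin 7 => swap i.castSucc i.succ) := by
      rw [Perm.mclosure_swap_castSucc_succ]; trivial
    induction hp using Submonoid.closure_induction_right with
    | one => exact Or.inl (one_mem H)
    | mul_right x _ y hy ih =>
      obtain ⟨i, rfl⟩ := hy
      rcases eq_or_ne i 0 with rfl | hi
      · have hs : swap (0 : Fin 7).castSucc (0 : Fin 7).succ = swap (0 : Fin 8) 1 := rfl
        show x * swap _ _ ∈ H ∨ x * swap _ _ * swap 0 1 ∈ H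
        rw [hs]
        rcases ih with h | h
        · exact Or.inr (by rw [mul_assoc, swap_mul_self, mul_one]; exact h)
        · exact Or.inl h
      · obtain ⟨k, hk⟩ := gen_succ i hi
        have hkH : gen k ∈ H := subset_closure ⟨k, rfl⟩
        show x * swap _ _ ∈ H ∨ x * swap _ _ * swap 0 1 ∈ H
        rcases ih with h | h
        · refine Or.inr ?_
          have := mul_mem h (inv_mem hkH)
          rwa [← hk, mul_inv_rev, swap_inv, swap_inv, ← mul_assoc] at this
        · refine Or.inl ?_
          have := mul_mem h hkH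
          rwa [← hk, mul_assoc, ← mul_assoc (swap (0 : Fin 8) 1), swap_mul_self, one_mul] at this
  refine Subgroup.map_injective (alternatingGroup (Fin 8)).subtype_injective ?_
  rw [MonoidHom.map_closure, ← Set.range_comp, ← MonoidHom.range_eq_map, Subgroup.range_subtype]
  refine le_antisymm hle fun p hp => (key p).resolve_right fun h => ?_
  have h' := Perm.mem_alternatingGroup.1 (hle h)
  rw [Perm.sign_mul, Perm.mem_alternatingGroup.1 hp, Perm.sign_swap (by decide)] at h'
  exact absurd h' (by decide)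

theorem gen_top {M : Type*} [Group M] (F : M →* A8) {x : Fin 6 → M} (h : ∀ i, F (x i) = genA i) :
    F.range = ⊤ := by
  rw [eq_top_iff, ← gen_closure, closure_le]
  rintro _ ⟨i, rfl⟩
  exact ⟨x i, h i⟩

section Cover

variable {C : Type*} [Group C] [Finite C]

/-- A non-split double cover of `A₈` is generated by a lifted tuple of Moore generators. -/
theorem exists_tuple (h : Cfsg.IsNonsplitDoubleCover C A8) :
    ∃ (z : C) (a : Fin 6 → C), Tuple z a ∧ orderOf z = 2 ∧ center C = zpowers z ∧
      closure (Set.range a) = ⊤ ∧ Nat.card C = 40320 ∧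
      ∃ q : C →* A8, Function.Surjective q ∧ q.ker = center C ∧ ∀ i, q (a i) = genA i := by
  classical
  obtain ⟨hc, ⟨ε⟩, hns⟩ := h
  haveI : Fact (Nat.Prime 2) := ⟨Nat.prime_two⟩
  let q : C →* A8 := ε.toMonoidHom.comp (QuotientGroup.mk' (center C))
  have hq : Function.Surjective q := ε.surjective.comp (QuotientGroup.mk'_surjective _)
  have hk : q.ker = center C := by
    ext x
    rw [MonoidHom.mem_ker, show q x = ε (x : C ⧸ center C) from rfl, map_eq_one_iff _ ε.injective,
      QuotientGroup.eq_one_iff]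
  obtain ⟨zc, hzc⟩ : ∃ zc : ↥(center C), orderOf zc = 2 :=
    exists_prime_orderOf_dvd_card' 2 (dvd_of_eq hc.symm)
  set z : C := (zc : C) with hzdef
  have hzo : orderOf z = 2 := by rw [hzdef, Subgroup.orderOf_coe, hzc]
  have hZ : center C = zpowers z := by
    refine (Subgroup.eq_of_le_of_card_ge (zpowers_le.2 zc.2) ?_).symm
    rw [hc, Nat.card_zpowers, hzo]
  have hzz : z * z = 1 := by rw [← pow_two, ← hzo, pow_orderOf_eq_one]
  have hz1 : z ≠ 1 := fun e => by rw [e, orderOf_one] at hzo; omega
  have hcom : ∀ g : C, Commute g z := fun g => mem_center_iff.1 zc.2 g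
  have hcen : ∀ {g : C}, q g = 1 → g = 1 ∨ g = z := by
    intro g hg
    have hm : g ∈ zpowers z := by rw [← hZ, ← hk]; exact hg
    obtain ⟨n, rfl⟩ := mem_zpowers_iff.1 hm
    rcases Int.even_or_odd n with ⟨m, rfl⟩ | ⟨m, rfl⟩
    · left; rw [← two_mul, zpow_mul, zpow_two, hzz, one_zpow]
    · right; rw [zpow_add, zpow_mul, zpow_two, hzz, one_zpow, one_mul, zpow_one]
  have hqz : q z = 1 := by rw [← MonoidHom.mem_ker, hk]; exact zc.2
  -- the squares of the lifts of the double transpositions agree
  obtain ⟨l, hl⟩ := hq (genA 1)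
  have hsq : ∀ g : C, (q g).1 * (q g).1 = 1 → (q g).1 ≠ 1 → (q g).1.support.card = 4 →
      g ^ 2 = l ^ 2 := by
    intro g g2 g1 gs
    obtain ⟨π, hπ⟩ := isConj_gen_one g2 g1 gs
    obtain ⟨p, hp⟩ := hq π
    have hl2 : Commute p (l ^ 2) := by
      rcases hcen (g := l ^ 2) (by
        rw [map_pow, hl]; exact Subtype.ext ((pow_two _).trans genA_double.1.1)) with e | e <;> rw [e]
      exacts [Commute.one_right p, hcom p]
    have hc2 : (p * l * p⁻¹) ^ 2 = l ^ 2 := by rw [conj_pow, hl2.eq, mul_inv_cancel_right]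
    rcases hcen (g := (p * l * p⁻¹)⁻¹ * g) (by
      rw [map_mul, map_inv, map_mul, map_mul, map_inv, hp, hl, hπ, inv_mul_cancel]) with e | e
    · rw [inv_mul_eq_one] at e; rw [← e, hc2]
    · rw [inv_mul_eq_iff_eq_mul] at e
      rw [e, (hcom _).mul_pow, hc2, pow_two z, hzz, mul_one]
  -- the adjusted lifts
  have hlift0 : ∃ a : C, q a = genA 0 ∧ a ^ 3 = 1 := by
    obtain ⟨a, ha⟩ := hq (genA 0)
    rcases hcen (g := a ^ 3) (by rw [map_pow, ha]; exact genA_good.cube 0 rfl) with e | e
    · exact ⟨a, ha, e⟩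
    · refine ⟨a * z, by rw [map_mul, hqz, ha, mul_one], ?_⟩
      rw [(hcom a).mul_pow, e, pow_succ z, pow_two, hzz, one_mul, hzz]
  have hstep : ∀ (p : C) (i j : Fin 6), q p = genA i → j.val = i.val + 1 →
      ∃ a : C, q a = genA j ∧ (p * a) ^ 3 = 1 := by
    intro p i j hp hij
    obtain ⟨a, ha⟩ := hq (genA j)
    rcases hcen (g := (p * a) ^ 3) (by rw [map_pow, map_mul, hp, ha]; exact genA_good.next' i j hij)
      with e | e
    · exact ⟨a, ha, e⟩
    · refine ⟨a * z, by rw [map_mul, hqz, ha, mul_one], ?_⟩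
      rw [← mul_assoc, (hcom (p * a)).mul_pow, e, pow_succ z, pow_two, hzz, one_mul, hzz]
  obtain ⟨a0, q0, c0⟩ := hlift0
  obtain ⟨a1, q1, c1⟩ := hstep a0 0 1 q0 rfl
  obtain ⟨a2, q2, c2⟩ := hstep a1 1 2 q1 rfl
  obtain ⟨a3, q3, c3⟩ := hstep a2 2 3 q2 rfl
  obtain ⟨a4, q4, c4⟩ := hstep a3 3 4 q3 rfl
  obtain ⟨a5, q5, c5⟩ := hstep a4 4 5 q4 rfl
  let a : Fin 6 → C := ![a0, a1, a2, a3, a4, a5]
  have hqa : ∀ i, q (a i) = genA i := by
    intro i
    fin_cases i <;> assumption
  have hnext : ∀ i j : Fin 6, j.val = i.val + 1 → (a i * a j) ^ 3 = 1 := by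
    intro i j hij
    fin_cases i <;> fin_cases j <;> simp only [Fin.reduceFinMk] at hij ⊢ <;>
      first
        | exact absurd hij (by decide)
        | assumption
  have hS : ∀ i : Fin 6, 1 ≤ i.val → a i ^ 2 = l ^ 2 := fun i hi => by
    obtain ⟨g2, g1, gs⟩ := genA_double.2.1 i hi
    refine hsq _ ?_ ?_ ?_ <;> rw [hqa] <;> assumption
  have hF : ∀ i j : Fin 6, i.val + 1 < j.val → (a i * a j) ^ 2 = l ^ 2 := fun i j hij => by
    obtain ⟨g2, g1, gs⟩ := genA_double.2.2 i j hij
    refine hsq _ ?_ ?_ ?_ <;> rw [map_mul, hqa, hqa] <;> assumption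
  obtain ⟨e⟩ := Moore.nonempty_equiv 6
  have hA : Nat.card A8 = 20160 := by
    rw [nat_card_alternatingGroup, Nat.card_eq_fintype_card, Fintype.card_fin]; rfl
  have hcard : Nat.card C = 40320 := by
    rw [card_eq_card_quotient_mul_card_subgroup q.ker,
      Nat.card_congr (QuotientGroup.quotientKerEquivOfSurjective q hq).toEquiv, hk, hc, hA]
  -- the images generate
  let F : PresentedGroup (Moore.rels 6) →* A8 := PresentedGroup.toGroup (Moore.good_lift 6 genA_good)
  have hFof : ∀ i, F (PresentedGroup.of i) = genA i := fun i => PresentedGroup.toGroup.of _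
  have hz : l ^ 2 = z := by
    refine ((hcen (g := l ^ 2) (by
      rw [map_pow, hl]; exact Subtype.ext ((pow_two _).trans genA_double.1.1))).resolve_left fun h1 => ?_)
    have hGood : Moore.Good 6 a :=
      ⟨fun i hi => by rw [show i = 0 from Fin.ext hi]; exact c0, fun i hi => by rw [hS i hi, h1], hnext,
        fun i j hij => by rw [hF i j hij, h1]⟩
    let s : PresentedGroup (Moore.rels 6) →* C := PresentedGroup.toGroup (Moore.good_lift 6 hGood)
    have hs : q.comp s = F := PresentedGroup.ext fun i => by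
      rw [MonoidHom.comp_apply, hFof, show s (PresentedGroup.of i) = a i from PresentedGroup.toGroup.of _, hqa]
    refine hns s.range ?_
    have hFsur : Function.Surjective F := by
      rw [← MonoidHom.range_eq_top]
      exact gen_top F hFof
    haveI : Finite (PresentedGroup (Moore.rels 6)) := Finite.of_equiv _ e.symm.toEquiv
    have hFinj : Function.Injective F := (hFsur.bijective_of_nat_card_le (by
      rw [Nat.card_congr e.toEquiv])).1
    refine isComplement'_of_card_mul_and_disjoint ?_ ?_
    · have hsinj : Function.Injective s := fun x y hxy => hFinj (by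
        rw [← hs]; exact congrArg q hxy)
      rw [hc, ← Nat.card_congr (MonoidHom.ofInjective hsinj).toEquiv, Nat.card_congr e.toEquiv, hA, hcard]
    · rw [disjoint_iff, eq_bot_iff]
      rintro _ ⟨hx, y, rfl⟩
      have : F y = 1 := by
        rw [← hs]
        show q (s y) = 1
        rw [← MonoidHom.mem_ker, hk]; exact hx
      rw [mem_bot, hFinj (this.trans (map_one F).symm), map_one]
  have T : Tuple z a :=
    ⟨hzz, fun i => hcom _, c0, fun i hi => (hS i hi).trans hz, hnext, fun i j hij => (hF i j hij).trans hz⟩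
  refine ⟨z, a, T, hzo, hZ, ?_, hcard, q, hq, hk, hqa⟩
  rw [eq_top_iff]
  intro x _
  have hx : q x ∈ (closure (Set.range a)).map q := by
    rw [MonoidHom.map_closure, ← Set.range_comp, show (q ∘ a) = genA from funext hqa]
    rw [gen_closure]; exact mem_top _
  obtain ⟨y, hy, hyx⟩ := hx
  rcases hcen (g := y⁻¹ * x) (by rw [map_mul, map_inv, hyx, inv_mul_cancel]) with e' | e'
  · rw [inv_mul_eq_one] at e'; exact e' ▸ hy
  · rw [inv_mul_eq_iff_eq_mul] at e'
    exact e' ▸ mul_mem hy T.z_mem

end Cover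

end CfsgLib.Recog.McLInv
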