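import Cfsg.Agent.Lib.Recog.McLInv.DTable
import Cfsg.Agent.Lib.Recog.McLInv.Engine

/-!
An element exchanging the two involutions can be chosen to be an involution inducing the given
automorphism on their common centralizer.
-/

set_option autoImplicit false
set_option maxRecDepth 100000
set_option Elab.async false

namespace CfsgLib.Recog.McLInv

open CfsgLib.InvChar.Coset

/-- A group with the double cover as an involution centralizer. -/
structure Amb (G : Type*) [Group G] where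
  /-- the embedding -/
  φ : C0 →* G
  inj : Function.Injective φ
  /-- the involution -/
  t : G
  t_eq : φ t0 = t
  cent : ∀ x : G, x * t = t * x → ∃ c, φ c = x

namespace Amb

variable {G : Type*} [Group G] (A : Amb G)

theorem comm_t (c : C0) : A.φ c * A.t = A.t * A.φ c := by
  rw [← A.t_eq, ← map_mul, t0_comm, map_mul]

theorem t_sq : A.t * A.t = 1 := by rw [← A.t_eq, ← map_mul, t0_sq, map_one]

theorem a_sq : A.φ a0 * A.φ a0 = 1 := by
  rw [← map_mul, a0, ← el_append, eqB_sound a0_checks.1, el_nil, map_one]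

/-- An element commuting with both involutions lies in the table. -/
theorem exists_dEl {x : G} (ht : x * A.t = A.t * x) (ha : x * A.φ a0 = A.φ a0 * x) :
    ∃ i < 192, x = A.φ (dEl i) := by
  obtain ⟨c, rfl⟩ := A.cent x ht
  obtain ⟨i, hi, rfl⟩ := exists_dW (c := c) (mem_Dsub.2 (A.inj (by rw [map_mul, map_mul, ha])))
  exact ⟨i, hi, rfl⟩

/-- A homomorphism on the generators is one on the words. -/
theorem conj_word {g : G} {im : List ℕ} (him : ∀ k < 3, im.getD k 0 < 192)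
    (hg : ∀ k < 3, g * A.φ (gEl k) * g⁻¹ = A.φ (dEl (im.getD k 0))) (L : List ℕ) (hL : ∀ k ∈ L, k < 3) :
    g * A.φ (wprod gEl L) * g⁻¹ = A.φ (dEl (evD im L)) := by
  rw [(evD_spec him L hL).2]
  induction L with
  | nil => simp [wprod]
  | cons k L ih =>
    rw [wprod_cons', wprod_cons', map_mul, map_mul, ← hg k (hL k (List.mem_cons_self ..)),
      ← ih fun j hj => hL j (List.mem_cons_of_mem _ hj)]
    group

theorem conj_dEl {g : G} {im : List ℕ} (him : ∀ k < 3, im.getD k 0 < 192)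
    (hg : ∀ k < 3, g * A.φ (gEl k) * g⁻¹ = A.φ (dEl (im.getD k 0))) {i : ℕ} (hi : i < 192) :
    g * A.φ (dEl i) * g⁻¹ = A.φ (dEl (evD im (dIdx.getD i []))) := by
  rw [dEl_eq_word hi]
  exact A.conj_word him hg _ (dIdx_lt hi)

theorem evD_base {L : List ℕ} (hL : ∀ k ∈ L, k < 3) {n : ℕ} (h : evD [stepD 0 0, stepD 0 1, stepD 0 2] L = n) :
    dEl n = wprod gEl L := by
  have hb : ∀ k < 3, [stepD 0 0, stepD 0 1, stepD 0 2].getD k 0 = stepD 0 k := fun k hk => by
    interval_cases k <;> rfl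
  rw [← h, (evD_spec (fun k hk => (hb k hk).symm ▸ (gEl_eq hk).1) L hL).2]
  exact wprod_congr fun k hk => by rw [hb k (hL k hk), (gEl_eq (hL k hk)).2]

theorem evD_congr {im im' : List ℕ} (him : ∀ k < 3, im.getD k 0 < 192) (him' : ∀ k < 3, im'.getD k 0 < 192)
    {n : ℕ} {L : List ℕ} (hn : n ≤ 3) (hL : ∀ k ∈ L, k < n) (h : ∀ k < n, im.getD k 0 = im'.getD k 0) :
    evD im L = evD im' L := by
  have hL3 : ∀ k ∈ L, k < 3 := fun k hk => lt_of_lt_of_le (hL k hk) hn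
  refine dEl_inj (evD_spec him L hL3).1 (evD_spec him' L hL3).1 ?_
  rw [(evD_spec him L hL3).2, (evD_spec him' L hL3).2]
  exact wprod_congr fun k hk => by rw [h k (hL k hk)]

theorem rel_image {g : G} {im base : List ℕ} (him : ∀ k < 3, im.getD k 0 < 192)
    (hg : ∀ k < 3, g * A.φ (gEl k) * g⁻¹ = A.φ (dEl (im.getD k 0))) {n : ℕ} (hn : n ≤ 3) {L : List ℕ}
    (hL : ∀ k ∈ L, k < n) (hb : ∀ k < n, base.getD k 0 = stepD 0 k) (hb' : ∀ k < 3, base.getD k 0 < 192)
    (h : evD base L = 0) : evD im L = 0 := by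
  have hL3 : ∀ k ∈ L, k < 3 := fun k hk => lt_of_lt_of_le (hL k hk) hn
  have h0 : dEl 0 = wprod gEl L := by
    rw [← h, (evD_spec hb' L hL3).2]
    exact wprod_congr fun k hk => by rw [hb k (hL k hk), (gEl_eq (hL3 k hk)).2]
  refine dEl_inj (evD_spec him L hL3).1 (by norm_num) (A.inj ?_)
  rw [← A.conj_word him hg L hL3, ← h0, dEl_zero, map_one, mul_one, mul_inv_cancel]

/-- An element exchanging the involutions induces one of the two automorphisms, up to the table. -/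
theorem exists_adjusted {g0 : G} (h1 : g0 * A.t * g0⁻¹ = A.φ a0) (h2 : g0 * A.φ a0 * g0⁻¹ = A.t) :
    ∃ g : G, g * A.t * g⁻¹ = A.φ a0 ∧ g * A.φ a0 * g⁻¹ = A.t ∧
      ((∀ k < 3, g * A.φ (gEl k) * g⁻¹ = A.φ (dEl (alphaIm.getD k 0))) ∨
       ∀ k < 3, g * A.φ (gEl k) * g⁻¹ = A.φ (dEl (betaIm.getD k 0))) := by
  have himg : ∀ g : G, g * A.t * g⁻¹ = A.φ a0 → g * A.φ a0 * g⁻¹ = A.t → ∀ k < 3,
      ∃ j < 192, g * A.φ (gEl k) * g⁻¹ = A.φ (dEl j) := by
    intro g e1 e2 k hk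
    refine A.exists_dEl ?_ ?_
    · rw [← e2]
      have : A.φ (gEl k) * A.φ a0 = A.φ a0 * A.φ (gEl k) := by
        have e := eqB_sound (List.all_eq_true.1 d_checks.2.1 k (List.mem_range.2 hk))
        rw [el_append, el_append] at e
        rw [← map_mul, ← map_mul]
        exact congrArg A.φ e
      calc g * A.φ (gEl k) * g⁻¹ * (g * A.φ a0 * g⁻¹) = g * (A.φ (gEl k) * A.φ a0) * g⁻¹ := by group
        _ = _ := by rw [this]; group
    · rw [← e1]
      calc g * A.φ (gEl k) * g⁻¹ * (g * A.t * g⁻¹) = g * (A.φ (gEl k) * A.t) * g⁻¹ := by group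
        _ = _ := by rw [A.comm_t]; group
  have hswap : ∀ {d : ℕ}, d < 192 → ∀ {g : G}, g * A.t * g⁻¹ = A.φ a0 → g * A.φ a0 * g⁻¹ = A.t →
      (A.φ (dEl d))⁻¹ * g * A.t * ((A.φ (dEl d))⁻¹ * g)⁻¹ = A.φ a0 ∧
        (A.φ (dEl d))⁻¹ * g * A.φ a0 * ((A.φ (dEl d))⁻¹ * g)⁻¹ = A.t := by
    intro d hd g e1 e2
    have hc : dEl d * a0 = a0 * dEl d := mem_Dsub.1 (dW_mem hd)
    constructor
    · rw [show (A.φ (dEl d))⁻¹ * g * A.t * ((A.φ (dEl d))⁻¹ * g)⁻¹ =
        (A.φ (dEl d))⁻¹ * (g * A.t * g⁻¹) * A.φ (dEl d) by group, e1, mul_assoc, ← map_mul, ← hc, map_mul,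
        inv_mul_cancel_left]
    · rw [show (A.φ (dEl d))⁻¹ * g * A.φ a0 * ((A.φ (dEl d))⁻¹ * g)⁻¹ =
        (A.φ (dEl d))⁻¹ * (g * A.φ a0 * g⁻¹) * A.φ (dEl d) by group, e2, mul_assoc, ← A.comm_t,
        inv_mul_cancel_left]
  obtain ⟨hR, hsols, hgens⟩ := rep_checks
  -- normalise the first image
  obtain ⟨j, hj, ej⟩ := himg g0 h1 h2 0 (by norm_num)
  have hjr := List.all_eq_true.1 hR j (List.mem_range.2 hj)
  simp only [Bool.and_eq_true, Nat.blt_eq, List.any_eq_true] at hjr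
  obtain ⟨⟨⟨hr1, hd1⟩, u, hu, hue⟩, hconj⟩ := hjr
  obtain rfl := Nat.eq_of_beq_eq_true hue
  generalize hrd : dRep.getD j (0, 0) = rd at hr1 hd1 hu hconj
  obtain ⟨r, d⟩ := rd
  have hdj : dEl j = dEl d * dEl r * (dEl d)⁻¹ := by
    rw [← (conjD_spec hd1 hr1).2, Nat.eq_of_beq_eq_true hconj]
  obtain ⟨e1, e2⟩ := hswap hd1 h1 h2
  set g := (A.φ (dEl d))⁻¹ * g0 with hg
  obtain ⟨v, hv, ev⟩ := himg g e1 e2 1 (by norm_num)
  obtain ⟨x, hx, ex⟩ := himg g e1 e2 2 (by norm_num)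
  have eu : g * A.φ (gEl 0) * g⁻¹ = A.φ (dEl r) := by
    rw [hg, show (A.φ (dEl d))⁻¹ * g0 * A.φ (gEl 0) * ((A.φ (dEl d))⁻¹ * g0)⁻¹ =
      (A.φ (dEl d))⁻¹ * (g0 * A.φ (gEl 0) * g0⁻¹) * A.φ (dEl d) by group, ej, hdj, map_mul, map_mul, map_inv]
    group
  have him : ∀ k < 3, [r, v, x].getD k 0 < 192 := fun k hk => by
    interval_cases k <;> first | exact hr1 | exact hv | exact hx
  have hgg : ∀ k < 3, g * A.φ (gEl k) * g⁻¹ = A.φ (dEl ([r, v, x].getD k 0)) := fun k hk => by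
    interval_cases k <;> first | exact eu | exact ev | exact ex
  have him1 : ∀ k < 3, [r].getD k 0 < 192 := fun k hk => by
    interval_cases k <;> first | exact hr1 | exact (by norm_num : (0 : ℕ) < 192)
  have him2 : ∀ k < 3, [r, v].getD k 0 < 192 := fun k hk => by
    interval_cases k <;> first | exact hr1 | exact hv | exact (by norm_num : (0 : ℕ) < 192)
  have hg0 := (gEl_eq (show 0 < 3 by norm_num)).1
  have hg1 := (gEl_eq (show 1 < 3 by norm_num)).1
  have hg2 := (gEl_eq (show 2 < 3 by norm_num)).1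
  obtain ⟨hq1, hq2, hq3, htlt⟩ := rel_checks
  simp only [List.all_eq_true, Bool.and_eq_true] at hq1 hq2 hq3
  have hone : isHom [r] relOne = true := List.all_eq_true.2 fun L hL => by
    have hlt := ltW_spec (hq1 L hL).1
    rw [evD_congr him1 him (n := 1) (by norm_num) hlt (fun k hk => by interval_cases k; rfl),
      A.rel_image him hgg (base := [stepD 0 0]) (by norm_num) hlt (fun k hk => by interval_cases k; rfl)
        (fun k hk => by interval_cases k <;> first | exact hg0 | exact (by norm_num : (0 : ℕ) < 192))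
        (Nat.eq_of_beq_eq_true (hq1 L hL).2)]
    rfl
  have htwo : isHom [r, v] relTwo = true := List.all_eq_true.2 fun L hL => by
    have hlt := ltW_spec (hq2 L hL).1
    rw [evD_congr him2 him (n := 2) (by norm_num) hlt (fun k hk => by interval_cases k <;> rfl),
      A.rel_image him hgg (base := [stepD 0 0, stepD 0 1]) (by norm_num) hlt
        (fun k hk => by interval_cases k <;> rfl)
        (fun k hk => by interval_cases k <;> first | exact hg0 | exact hg1 | exact (by norm_num : (0 : ℕ) < 192))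
        (Nat.eq_of_beq_eq_true (hq2 L hL).2)]
    rfl
  have hthree : isHom [r, v, x] relThree = true := List.all_eq_true.2 fun L hL => by
    rw [A.rel_image him hgg (base := [stepD 0 0, stepD 0 1, stepD 0 2]) le_rfl (ltW_spec (hq3 L hL).1)
      (fun k hk => by interval_cases k <;> rfl)
      (fun k hk => by interval_cases k <;> first | exact hg0 | exact hg1 | exact hg2)
      (Nat.eq_of_beq_eq_true (hq3 L hL).2)]
    rfl
  obtain ⟨ht27, ha191, -, -, -, htI, haI⟩ := named_checks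
  obtain ⟨n27, n191, -⟩ := named_el
  have ht : evD [r, v] tIdx = 191 := by
    rw [evD_congr him2 him (n := 2) (by norm_num) (ltW_spec htlt) (fun k hk => by interval_cases k <;> rfl)]
    refine dEl_inj (evD_spec him _ (ltW_spec htI)).1 (by norm_num) (A.inj ?_)
    rw [← A.conj_word him hgg _ (ltW_spec htI), ← evD_base (ltW_spec htI) ht27, n27, A.t_eq, e1, n191]
  have ha : evD [r, v, x] aIdx = 27 := by
    refine dEl_inj (evD_spec him _ (ltW_spec haI)).1 (by norm_num) (A.inj ?_)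
    rw [← A.conj_word him hgg _ (ltW_spec haI), ← evD_base (ltW_spec haI) ha191, n191, e2, n27, A.t_eq]
  have hsearch := search_ok
  simp only [searchOK, List.all_eq_true, List.mem_range] at hsearch
  have h := hsearch r hu
  rw [hone, cond_true, List.all_eq_true] at h
  have h := h v (List.mem_range.2 hv)
  rw [htwo, ht, Nat.beq_refl, Bool.and_self, cond_true, List.all_eq_true] at h
  have h := h x (List.mem_range.2 hx)
  rw [hthree, ha, Nat.beq_refl, Bool.and_self, cond_true, List.any_eq_true] at h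
  obtain ⟨⟨im, cls, d'⟩, hs, hse⟩ := h
  have him' : im = [r, v, x] := eq_of_leq _ _ hse
  subst him'
  have hs' := List.all_eq_true.1 hsols _ hs
  simp only [Bool.and_eq_true, Nat.blt_eq, List.all_eq_true, List.mem_range] at hs'
  obtain ⟨hd', hims⟩ := hs'
  obtain ⟨f1, f2⟩ := hswap hd' e1 e2
  refine ⟨_, f1, f2, ?_⟩
  have key : ∀ k < 3, (A.φ (dEl d'))⁻¹ * g * A.φ (gEl k) * ((A.φ (dEl d'))⁻¹ * g)⁻¹ =
      A.φ (dEl (bif Nat.beq cls 0 then alphaIm.getD k 0 else betaIm.getD k 0)) := by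
    intro k hk
    have hlt := List.all_eq_true.1 hgens k (List.mem_range.2 hk)
    simp only [Bool.and_eq_true, Nat.blt_eq] at hlt
    have hb : (bif Nat.beq cls 0 then alphaIm.getD k 0 else betaIm.getD k 0) < 192 := by
      cases Nat.beq cls 0
      · exact hlt.1.1.1.2
      · exact hlt.1.1.1.1
    rw [show (A.φ (dEl d'))⁻¹ * g * A.φ (gEl k) * ((A.φ (dEl d'))⁻¹ * g)⁻¹ =
      (A.φ (dEl d'))⁻¹ * (g * A.φ (gEl k) * g⁻¹) * A.φ (dEl d') by group, hgg k hk,
      Nat.eq_of_beq_eq_true (hims k hk), (conjD_spec hd' hb).2, map_mul, map_mul, map_inv]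
    group
  cases hc : Nat.beq cls 0 with
  | true => exact Or.inl fun k hk => by rw [key k hk, hc]; rfl
  | false => exact Or.inr fun k hk => by rw [key k hk, hc]; rfl

/-- The second class does not occur. -/
theorem not_beta {g : G} (e1 : g * A.t * g⁻¹ = A.φ a0) (e2 : g * A.φ a0 * g⁻¹ = A.t)
    (hb : ∀ k < 3, g * A.φ (gEl k) * g⁻¹ = A.φ (dEl (betaIm.getD k 0))) : False := by
  have hgens := rep_checks.2.2
  simp only [Bool.and_eq_true, Nat.blt_eq, List.all_eq_true, List.mem_range] at hgens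
  have hbim : ∀ k < 3, betaIm.getD k 0 < 192 := fun k hk => (hgens k hk).1.1.1.2
  have hhim : ∀ k < 3, hIm.getD k 0 < 192 := fun k hk => (hgens k hk).1.1.2
  set h := A.φ (el ataW) with hh
  have hinv : h⁻¹ = h := by rw [hh, ← map_inv, ← el_reverse]; rfl
  have hhg : ∀ k < 3, h * A.φ (gEl k) * h⁻¹ = A.φ (dEl (hIm.getD k 0)) := fun k hk => by
    rw [hinv, hh, ← map_mul, ← map_mul, dEl, ← eqB_sound (hgens k hk).2, el_append, el_append]
    rfl
  have step : ∀ {i : ℕ}, i < 192 → betaD (hD i) < 192 ∧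
      g * h * A.φ (dEl i) * (g * h)⁻¹ = A.φ (dEl (betaD (hD i))) := by
    intro i hi
    have h1 : hD i < 192 := (evD_spec hhim _ (dIdx_lt hi)).1
    refine ⟨(evD_spec hbim _ (dIdx_lt h1)).1, ?_⟩
    rw [show g * h * A.φ (dEl i) * (g * h)⁻¹ = g * (h * A.φ (dEl i) * h⁻¹) * g⁻¹ by group,
      A.conj_dEl hhim hhg hi]
    exact A.conj_dEl hbim hb h1
  obtain ⟨hs, hsep⟩ := sep_check
  obtain ⟨l1, s1⟩ := step hs
  obtain ⟨l2, s2⟩ := step l1
  obtain ⟨l3, s3⟩ := step l2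
  set m := g * h with hm
  have hcube : m * m * m * A.φ (dEl sepElt) * (m * m * m)⁻¹ =
      A.φ (dEl (betaD (hD (betaD (hD (betaD (hD sepElt))))))) := by
    rw [show m * m * m * A.φ (dEl sepElt) * (m * m * m)⁻¹ =
      m * (m * (m * A.φ (dEl sepElt) * m⁻¹) * m⁻¹) * m⁻¹ by group, s1, s2, s3]
  have hat : A.φ a0 * A.t = A.t * A.φ a0 := A.comm_t a0
  have hha : h * A.φ a0 * h⁻¹ = A.t * A.φ a0 := by
    obtain ⟨-, -, -, hata, -⟩ := a0_checks
    rw [hinv, hh, ← map_mul, ← map_mul, ← A.t_eq, ← map_mul]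
    have e := eqB_sound hata
    rw [el_append, el_append, el_append] at e
    exact congrArg A.φ e
  have hht : h * A.t * h⁻¹ = A.t := by rw [A.comm_t, mul_inv_cancel_right]
  have m1 : m * A.t * m⁻¹ = A.φ a0 := by
    rw [show m * A.t * m⁻¹ = g * (h * A.t * h⁻¹) * g⁻¹ by rw [hm]; group, hht, e1]
  have m2 : m * A.φ a0 * m⁻¹ = A.φ a0 * A.t := by
    rw [show m * A.φ a0 * m⁻¹ = g * (h * A.φ a0 * h⁻¹) * g⁻¹ by rw [hm]; group, hha,
      show g * (A.t * A.φ a0) * g⁻¹ = g * A.t * g⁻¹ * (g * A.φ a0 * g⁻¹) by group, e1, e2]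
  have m3 : m * (A.φ a0 * A.t) * m⁻¹ = A.t := by
    rw [show m * (A.φ a0 * A.t) * m⁻¹ = m * A.φ a0 * m⁻¹ * (m * A.t * m⁻¹) by group, m2, m1, mul_assoc,
      ← hat, ← mul_assoc, A.a_sq, one_mul]
  have hct : m * m * m * A.t * (m * m * m)⁻¹ = A.t := by
    rw [show m * m * m * A.t * (m * m * m)⁻¹ = m * (m * (m * A.t * m⁻¹) * m⁻¹) * m⁻¹ by group, m1, m2, m3]
  have hca : m * m * m * A.φ a0 * (m * m * m)⁻¹ = A.φ a0 := by
    rw [show m * m * m * A.φ a0 * (m * m * m)⁻¹ = m * (m * (m * A.φ a0 * m⁻¹) * m⁻¹) * m⁻¹ by group,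
      m2, m3, m1]
  obtain ⟨d, hd, hde⟩ := A.exists_dEl (mul_inv_eq_iff_eq_mul.1 hct) (mul_inv_eq_iff_eq_mul.1 hca)
  rw [hde, ← map_inv, ← map_mul, ← map_mul, ← (conjD_spec hd hs).2] at hcube
  have := dEl_inj (conjD_spec hd hs).1 l3 (A.inj hcube)
  have hne := List.all_eq_true.1 hsep d (List.mem_range.2 hd)
  rw [this, Nat.beq_refl] at hne
  cases hne

/-- **The extra involution.** -/
theorem exists_outer {g0 : G} (h1 : g0 * A.t * g0⁻¹ = A.φ a0) (h2 : g0 * A.φ a0 * g0⁻¹ = A.t) :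
    ∃ S : Setup G, S.φ = A.φ ∧ S.w * A.t * S.w = A.φ a0 := by
  obtain ⟨g, e1, e2, hal | hbe⟩ := A.exists_adjusted h1 h2
  swap
  · exact (A.not_beta e1 e2 hbe).elim
  have hgens := rep_checks.2.2
  simp only [Bool.and_eq_true, Nat.blt_eq, List.all_eq_true, List.mem_range] at hgens
  have him : ∀ k < 3, alphaIm.getD k 0 < 192 := fun k hk => (hgens k hk).1.1.1.1
  have hact : ∀ k < 3, g * A.φ (gEl k) * g⁻¹ = A.φ (el (dImg.getD k [])) := fun k hk => by
    rw [hal k hk, dEl, eqB_sound (hgens k hk).1.2]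
  have hgg : ∀ {z : G}, g * g * z * (g * g)⁻¹ = g * (g * z * g⁻¹) * g⁻¹ := fun {z} => by group
  have hct : g * g * A.t * (g * g)⁻¹ = A.t := by rw [hgg, e1, e2]
  have hca : g * g * A.φ a0 * (g * g)⁻¹ = A.φ a0 := by rw [hgg, e2, e1]
  obtain ⟨c, hc, hce⟩ := A.exists_dEl (mul_inv_eq_iff_eq_mul.1 hct) (mul_inv_eq_iff_eq_mul.1 hca)
  obtain ⟨hcen, hsq⟩ := square_checks
  have hcomm : ∀ k < 3, mulD c (stepD 0 k) = mulD (stepD 0 k) c := by
    intro k hk
    obtain ⟨hs, hse⟩ := gEl_eq hk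
    refine dEl_inj (mulD_spec hc hs).1 (mulD_spec hs hc).1 (A.inj ?_)
    rw [(mulD_spec hc hs).2, (mulD_spec hs hc).2, map_mul, map_mul, ← hce, hse, ← mul_inv_eq_iff_eq_mul,
      hgg, hal k hk, A.conj_dEl him hal (him k hk),
      Nat.eq_of_beq_eq_true (List.all_eq_true.1 hsq k (List.mem_range.2 hk)), hse]
  have hfix : alphaD c = c := by
    refine dEl_inj (evD_spec him _ (dIdx_lt hc)).1 hc (A.inj ?_)
    rw [alphaD, ← A.conj_dEl him hal hc, ← hce]
    group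
  have hc' : c = 0 ∨ c = 190 := by
    have h := List.all_eq_true.1 hcen c (List.mem_range.2 hc)
    have hall : ((List.range 3).all fun k => Nat.beq (mulD c (stepD 0 k)) (mulD (stepD 0 k) c)) = true :=
      List.all_eq_true.2 fun k hk => by rw [hcomm k (List.mem_range.1 hk)]; exact Nat.beq_refl _
    rw [hall, hfix, Nat.beq_refl] at h
    simp only [Bool.not_true, Bool.or_false, Bool.or_eq_true] at h
    rcases h with h | h
    exacts [Or.inl (Nat.eq_of_beq_eq_true h), Or.inr (Nat.eq_of_beq_eq_true h)]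
  have hginv : ∀ w : G, w * w = 1 → w⁻¹ = w := fun w hw => inv_eq_of_mul_eq_one_right hw
  rcases hc' with rfl | rfl
  · rw [dEl_zero, map_one] at hce
    refine ⟨⟨A.φ, g, hce, fun k hk => ?_⟩, rfl, ?_⟩
    · have := hact k hk
      rw [hginv g hce] at this
      exact this
    · show g * A.t * g = _
      rw [hginv g hce] at e1; exact e1
  · rw [named_el.2.2, map_mul, A.t_eq] at hce
    have hgt : g * A.t = A.φ a0 * g := mul_inv_eq_iff_eq_mul.1 e1
    have hw : g * A.t * (g * A.t) = 1 := by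
      calc g * A.t * (g * A.t) = A.φ a0 * (g * g) * A.t := by rw [← mul_assoc, hgt]; group
        _ = A.φ a0 * (A.t * A.φ a0) * A.t := by rw [hce]
        _ = 1 := by rw [← A.comm_t a0, ← mul_assoc, A.a_sq, one_mul, A.t_sq]
    refine ⟨⟨A.φ, g * A.t, hw, fun k hk => ?_⟩, rfl, ?_⟩
    · rw [← hact k hk]
      nth_rw 2 [← hginv _ hw]
      rw [show g * A.t * A.φ (el (dGen.getD k [])) * (g * A.t)⁻¹ =
        g * (A.t * A.φ (gEl k)) * A.t⁻¹ * g⁻¹ by rw [gEl]; group, ← A.comm_t]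
      group
    · show g * A.t * A.t * (g * A.t) = _
      nth_rw 2 [← hginv _ hw]
      rw [mul_assoc g, A.t_sq, mul_one, mul_inv_rev, hginv A.t A.t_sq, ← mul_assoc]
      exact e1

/-- An involution conjugate to the first and commuting with it gives an exchanging element. -/
theorem exists_exchange {g : G} (hc : Commute A.t (g * A.t * g⁻¹)) (hne : g * A.t * g⁻¹ ≠ A.t) :
    ∃ g0 : G, g0 * A.t * g0⁻¹ = A.φ a0 ∧ g0 * A.φ a0 * g0⁻¹ = A.t := by
  have hclass : ∀ x : G, x * A.t = A.t * x → x * x = 1 → x ≠ 1 → x ≠ A.t →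
      ∃ h : C0, A.φ h * A.φ a0 * (A.φ h)⁻¹ = x := by
    intro x hxt hx2 hx1 hxne
    obtain ⟨c, rfl⟩ := A.cent x hxt
    obtain ⟨h, rfl⟩ := invol_class (x := c) (A.inj (by rw [map_mul, hx2, map_one]))
      (fun e => hx1 (by rw [e, map_one])) (fun e => hxne (by rw [e, A.t_eq]))
    exact ⟨h, by rw [map_mul, map_mul, map_inv]⟩
  have ht1 : A.t ≠ 1 := fun e => t0_ne (A.inj (by rw [A.t_eq, e, map_one]))
  have hconjsq : ∀ z : G, z * A.t * z⁻¹ * (z * A.t * z⁻¹) = 1 := fun z => by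
    rw [show z * A.t * z⁻¹ * (z * A.t * z⁻¹) = z * (A.t * A.t) * z⁻¹ by group, A.t_sq, mul_one,
      mul_inv_cancel]
  have hconjne : ∀ z : G, z * A.t * z⁻¹ ≠ 1 := fun z e => ht1 (conj_eq_one_iff.1 e)
  obtain ⟨h, hh⟩ := hclass _ hc.eq.symm (hconjsq g) (hconjne g) hne
  set g1 := (A.φ h)⁻¹ * g with hg1
  have e1 : g1 * A.t * g1⁻¹ = A.φ a0 := by
    rw [hg1, show (A.φ h)⁻¹ * g * A.t * ((A.φ h)⁻¹ * g)⁻¹ = (A.φ h)⁻¹ * (g * A.t * g⁻¹) * A.φ h by group,
      ← hh]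
    group
  have hu : g1⁻¹ * A.t * g1⁻¹⁻¹ * A.t = A.t * (g1⁻¹ * A.t * g1⁻¹⁻¹) := by
    calc g1⁻¹ * A.t * g1⁻¹⁻¹ * A.t = g1⁻¹ * (A.t * (g1 * A.t * g1⁻¹)) * g1 := by group
      _ = _ := by rw [e1, ← A.comm_t, ← e1]; group
  have hune : g1⁻¹ * A.t * g1⁻¹⁻¹ ≠ A.t := fun e => by
    have : g1 * A.t * g1⁻¹ = A.t := by
      conv_lhs => rw [← e]
      group
    rw [e1, ← A.t_eq] at this
    exact neC_sound a0_checks.2.2.1 (A.inj this)
  obtain ⟨k, hk⟩ := hclass _ hu (hconjsq _) (hconjne _) hune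
  refine ⟨g1 * A.φ k, ?_, ?_⟩
  · rw [show g1 * A.φ k * A.t * (g1 * A.φ k)⁻¹ = g1 * (A.φ k * A.t * (A.φ k)⁻¹) * g1⁻¹ by group, A.comm_t,
      mul_inv_cancel_right, e1]
  · rw [show g1 * A.φ k * A.φ a0 * (g1 * A.φ k)⁻¹ = g1 * (A.φ k * A.φ a0 * (A.φ k)⁻¹) * g1⁻¹ by group, hk]
    group

end Amb

end CfsgLib.Recog.McLInv
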