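import Cfsg.Agent.Lib.InvChar.CosetGroup
import Cfsg.Agent.Lib.Recog.McLInv.DataModel
import Mathlib.GroupTheory.Perm.Basic
import Mathlib.Logic.Function.Basic
import Mathlib.GroupTheory.GroupAction.Quotient

/-!
The eight involutions on 275 points as permutations, evaluation of words, and the group generated by
the first seven.
-/

set_option autoImplicit false
set_option maxRecDepth 100000
set_option Elab.async false

namespace CfsgLib.Recog.McLInv

open CfsgLib.InvChar.Coset

section Words

variable {G : Type*} [Group G] {f : ℕ → G}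

theorem wprod_nil' : wprod f [] = 1 := rfl

theorem wprod_cons' (x : ℕ) (L : List ℕ) : wprod f (x :: L) = f x * wprod f L := rfl

theorem wprod_mem {H : Subgroup G} {L : List ℕ} (h : ∀ x ∈ L, f x ∈ H) : wprod f L ∈ H :=
  Subgroup.list_prod_mem _ fun y hy => by
    obtain ⟨x, hx, rfl⟩ := List.mem_map.1 hy
    exact h x hx

theorem wprod_flatten (W : ℕ → List ℕ) : ∀ L : List ℕ,
    wprod f (L.flatMap W) = wprod (fun i => wprod f (W i)) L
  | [] => rfl
  | x :: L => by rw [List.flatMap_cons, wprod_append, wprod_flatten W L, wprod_cons']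

theorem wprod_congr {g : ℕ → G} {L : List ℕ} (h : ∀ x ∈ L, f x = g x) : wprod f L = wprod g L :=
  congrArg List.prod (List.map_congr_left h)

end Words

/-- The image of a point under a code. -/
def img (c i : ℕ) : ℕ := Nat.shiftRight c (9 * i) % 512

/-- The map of a letter. -/
def mapL (x : ℕ) (i : Fin 275) : Fin 275 :=
  if h : x < 8 then ⟨img (codes.getD x 0) i % 275, Nat.mod_lt _ (by norm_num)⟩ else i

/-- A letter is an involution on the points. -/
def codeOK (c : ℕ) : Bool :=
  (List.range 275).all fun i => Nat.blt (img c i) 275 && Nat.beq (img c (img c i)) i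

theorem codes_ok : codes.length = 8 ∧ codes.all codeOK = true := by decide +kernel

theorem code_spec {x : ℕ} (hx : x < 8) {i : ℕ} (hi : i < 275) :
    img (codes.getD x 0) i < 275 ∧ img (codes.getD x 0) (img (codes.getD x 0) i) = i := by
  obtain ⟨hl, h⟩ := codes_ok
  have hm : codes.getD x 0 ∈ codes := by
    rw [List.getD_eq_getElem _ _ (hl.symm ▸ hx)]; exact List.getElem_mem _
  have h' := List.all_eq_true.1 (List.all_eq_true.1 h _ hm) i (List.mem_range.2 hi)
  rw [Bool.and_eq_true, Nat.blt_eq] at h'
  exact ⟨h'.1, Nat.eq_of_beq_eq_true h'.2⟩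

theorem mapL_val {x : ℕ} (hx : x < 8) (i : Fin 275) :
    ((mapL x i : Fin 275) : ℕ) = img (codes.getD x 0) i := by
  simp only [mapL, dif_pos hx]
  exact Nat.mod_eq_of_lt (code_spec hx i.2).1

theorem mapL_involutive (x : ℕ) : Function.Involutive (mapL x) := by
  intro i
  by_cases hx : x < 8
  · exact Fin.ext (by rw [mapL_val hx, mapL_val hx, (code_spec hx i.2).2])
  · simp [mapL, hx]

/-- The permutation of a letter. -/
def gm (x : ℕ) : Equiv.Perm (Fin 275) := (mapL_involutive x).toPerm _

theorem gm_sq (x : ℕ) : gm x * gm x = 1 := Equiv.ext fun i => mapL_involutive x i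

/-- A word applied to a point. -/
noncomputable def actM (L : List ℕ) (i : ℕ) : ℕ :=
  List.rec (motive := fun _ => ℕ) i (fun x _ r => img (codes.getD x 0) r) L

theorem wprod_gm_val : ∀ (L : List ℕ), (∀ x ∈ L, x < 8) → ∀ i : Fin 275,
    ((wprod gm L i : Fin 275) : ℕ) = actM L i
  | [], _, i => rfl
  | x :: L, h, i => by
    have ih := wprod_gm_val L (fun y hy => h y (List.mem_cons_of_mem _ hy)) i
    rw [wprod_cons', Equiv.Perm.mul_apply]
    show ((mapL x (wprod gm L i) : Fin 275) : ℕ) = img (codes.getD x 0) (actM L i)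
    rw [mapL_val (h x (List.mem_cons_self ..)), ih]

/-- The letters of the word are below the bound. -/
noncomputable def ltW (n : ℕ) (L : List ℕ) : Bool := L.all fun x => Nat.blt x n

theorem ltW_spec {n : ℕ} {L : List ℕ} (h : ltW n L = true) : ∀ x ∈ L, x < n := fun x hx =>
  Nat.le_of_ble_eq_true (List.all_eq_true.1 h x hx)

theorem ltW_mono {n m : ℕ} (hnm : n ≤ m) {L : List ℕ} (h : ltW n L = true) : ∀ x ∈ L, x < m :=
  fun x hx => lt_of_lt_of_le (ltW_spec h x hx) hnm

/-- Two words act alike on all points. -/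
noncomputable def eqM (L L' : List ℕ) : Bool :=
  ltW 8 L && ltW 8 L' && (List.range 275).all fun i => Nat.beq (actM L i) (actM L' i)

theorem eqM_sound {L L' : List ℕ} (h : eqM L L' = true) : wprod gm L = wprod gm L' := by
  simp only [eqM, Bool.and_eq_true, List.all_eq_true, List.mem_range] at h
  refine Equiv.ext fun i => Fin.ext ?_
  rw [wprod_gm_val L (ltW_spec h.1.1), wprod_gm_val L' (ltW_spec h.1.2)]
  exact Nat.eq_of_beq_eq_true (h.2 i i.2)

/-- Two words differ somewhere. -/
noncomputable def neM (L L' : List ℕ) : Bool :=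
  ltW 8 L && ltW 8 L' && (List.range 275).any fun i => !Nat.beq (actM L i) (actM L' i)

theorem neM_sound {L L' : List ℕ} (h : neM L L' = true) : wprod gm L ≠ wprod gm L' := by
  simp only [neM, Bool.and_eq_true, List.any_eq_true, List.mem_range, Bool.not_eq_true'] at h
  obtain ⟨⟨h1, h2⟩, i, hi, hne⟩ := h
  intro e
  have := congrArg (fun σ : Equiv.Perm (Fin 275) => ((σ ⟨i, hi⟩ : Fin 275) : ℕ)) e
  simp only [wprod_gm_val L (ltW_spec h1), wprod_gm_val L' (ltW_spec h2)] at this
  rw [this, Nat.beq_refl] at hne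
  cases hne

/-- The group of the first seven letters. -/
def C0 : Subgroup (Equiv.Perm (Fin 275)) := Subgroup.closure (gm '' Set.Iio 7)

theorem gm_mem {x : ℕ} (hx : x < 7) : gm x ∈ C0 := Subgroup.subset_closure ⟨x, hx, rfl⟩

/-- A letter as an element of the group of the first seven. -/
def cl (x : ℕ) : C0 := if h : x < 7 then ⟨gm x, gm_mem h⟩ else 1

theorem cl_val {x : ℕ} (hx : x < 7) : (cl x : Equiv.Perm (Fin 275)) = gm x := by simp [cl, hx]

theorem cl_sq (x : ℕ) : cl x * cl x = 1 := by
  by_cases hx : x < 7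
  · exact Subtype.ext (by rw [Subgroup.coe_mul, cl_val hx, gm_sq]; rfl)
  · simp [cl, hx]

theorem closure_cl : Subgroup.closure (cl '' Set.Iio 7) = ⊤ := by
  refine Subgroup.map_injective C0.subtype_injective ?_
  rw [MonoidHom.map_closure, ← MonoidHom.range_eq_map, Subgroup.range_subtype, ← Set.image_comp]
  show _ = Subgroup.closure (gm '' Set.Iio 7)
  exact congrArg Subgroup.closure (Set.image_congr fun x hx => cl_val hx)

/-- A word as an element of the group of the first seven. -/
noncomputable def el (L : List ℕ) : C0 := wprod cl L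

theorem el_append (L M : List ℕ) : el (L ++ M) = el L * el M := wprod_append _ _ _

theorem el_nil : el [] = 1 := rfl

theorem el_singleton (x : ℕ) : el [x] = cl x := by simp [el, wprod]

theorem el_reverse (L : List ℕ) : el L.reverse = (el L)⁻¹ := wprod_reverse cl cl_sq L

theorem el_val {L : List ℕ} (h : ∀ x ∈ L, x < 7) : (el L : Equiv.Perm (Fin 275)) = wprod gm L := by
  exact map_wprod C0.subtype cl gm L fun x hx => cl_val (h x hx)

/-- Two words give the same element. -/
noncomputable def eqC (L L' : List ℕ) : Bool := ltW 7 L && ltW 7 L' && eqM L L'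

theorem eqC_sound {L L' : List ℕ} (h : eqC L L' = true) : el L = el L' := by
  simp only [eqC, Bool.and_eq_true] at h
  exact Subtype.ext (by rw [el_val (ltW_spec h.1.1), el_val (ltW_spec h.1.2), eqM_sound h.2])

/-- Two words give different elements. -/
noncomputable def neC (L L' : List ℕ) : Bool := ltW 7 L && ltW 7 L' && neM L L'

theorem neC_sound {L L' : List ℕ} (h : neC L L' = true) : el L ≠ el L' := by
  simp only [neC, Bool.and_eq_true] at h
  intro e
  refine neM_sound h.2 ?_
  rw [← el_val (ltW_spec h.1.1), ← el_val (ltW_spec h.1.2), e]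

/-- The central involution. -/
noncomputable def t0 : C0 := el tW

/-- The second involution. -/
noncomputable def a0 : C0 := el aW

theorem el_mem_closure {n : ℕ} {W : List (List ℕ)} {L : List ℕ}
    (h : ∀ x ∈ L, x < n) : el (L.flatMap fun i => W.getD i []) ∈
      Subgroup.closure (Set.range fun i : Fin n => el (W.getD i [])) := by
  rw [el, wprod_flatten]
  refine wprod_mem fun x hx => Subgroup.subset_closure ⟨⟨x, h x hx⟩, rfl⟩

theorem exists_el : ∀ c : C0, ∃ L : List ℕ, c = el L := by
  intro c
  have hc : c ∈ Subgroup.closure (cl '' Set.Iio 7) := closure_cl ▸ Subgroup.mem_top c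
  induction hc using Subgroup.closure_induction with
  | mem x hx =>
    obtain ⟨k, -, rfl⟩ := hx
    exact ⟨[k], (el_singleton k).symm⟩
  | one => exact ⟨[], rfl⟩
  | mul x y _ _ ihx ihy =>
    obtain ⟨L, rfl⟩ := ihx
    obtain ⟨M, rfl⟩ := ihy
    exact ⟨L ++ M, (el_append L M).symm⟩
  | inv x _ ih =>
    obtain ⟨L, rfl⟩ := ih
    exact ⟨L.reverse, (el_reverse L).symm⟩

/-- Commutation with the letters is commutation with everything. -/
theorem mem_center_of_letters {z : C0} (h : ∀ x < 7, cl x * z = z * cl x) :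
    z ∈ Subgroup.center C0 := by
  rw [← Subgroup.centralizer_univ, ← Subgroup.coe_top, ← closure_cl, Subgroup.centralizer_closure,
    Subgroup.mem_centralizer_iff]
  rintro _ ⟨x, hx, rfl⟩
  exact h x hx

/-- A bound from the images of a point. -/
theorem orbit_bound {K : Subgroup (Equiv.Perm (Fin 275))} (p : Fin 275) (O : List (List ℕ))
    (hK : ∀ L ∈ O, wprod gm L ∈ K) (hlt : ∀ L ∈ O, ∀ x ∈ L, x < 8)
    (hnd : (O.map fun L => actM L p).Nodup) :
    O.length * Nat.card (MulAction.stabilizer K p) ≤ Nat.card K := by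
  rw [← Nat.card_congr (MulAction.orbitProdStabilizerEquivGroup K p), Nat.card_prod]
  refine Nat.mul_le_mul_right _ ?_
  let F : Fin O.length → MulAction.orbit K p := fun j =>
    ⟨wprod gm O[(j : ℕ)] p, ⟨⟨_, hK _ (List.getElem_mem _)⟩, rfl⟩⟩
  have hF : Function.Injective F := by
    intro i j e
    have e' : ((wprod gm O[(i : ℕ)] p : Fin 275) : ℕ) = wprod gm O[(j : ℕ)] p := congrArg (fun u : MulAction.orbit K p => ((u : Fin 275) : ℕ)) e
    rw [wprod_gm_val _ (hlt _ (List.getElem_mem _)), wprod_gm_val _ (hlt _ (List.getElem_mem _))] at e'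
    exact Fin.ext (by
      refine (List.Nodup.getElem_inj_iff hnd (hi := by simp) (hj := by simp)).1 ?_
      simpa using e')
  simpa using Nat.card_le_card_of_injective F hF

end CfsgLib.Recog.McLInv
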