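import Cfsg.Agent.Lib.Recog.McLInv.ThreeData

/-!
The finite checks on the elements of order three in a Sylow subgroup of the McLaughlin group.
-/

set_option autoImplicit false
set_option maxRecDepth 100000
set_option Elab.async false

namespace CfsgLib.Recog.McLInv

open CfsgLib.KnownA.SchurCert.Co3Cert CfsgLib.KnownA.SchurCert.McLCert

/-- The member sits in a listed class, or is not of order three. -/
def threeOK (i : ℕ) : Bool :=
  Nat.beq i 0 || !(Nat.beq (codeW (wordI i ++ (wordI i ++ wordI i))) (codeW [])) ||
    Nat.beq (codeW (wordI (threeTab.getD i 0 % 729) ++ wordI i))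
      (codeW (wordI ((threeReps.getD (threeTab.getD i 0 / 729) (0, [])).1) ++ wordI (threeTab.getD i 0 % 729)))

/-- The listed involutions commute with their members. -/
def repOK : Bool :=
  threeReps.all fun e => Nat.blt e.1 729 && eqv rowsCov (wordI e.1 ++ e.2) (e.2 ++ wordI e.1) &&
    eqv rowsCov (e.2 ++ e.2) [] && !(eqv rowsCov e.2 [])

theorem three_ok : ((List.range 729).all fun i => Nat.blt (threeTab.getD i 0 / 729) threeReps.length && threeOK i) =
    true := by decide +kernel

theorem rep_ok : repOK = true := by decide +kernel

end CfsgLib.Recog.McLInv
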